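import Mathlib
import Cfsg.Prelude.Def_Local

/-!
# Quasisimple groups, components and the layer

Core facts: subnormal subgroups of quasisimple groups, components of subnormal subgroups,
`L ≤ H ∨ ⁅L, H⁆ = ⊥`, components commute, the layer is characteristic and perfect.
-/

set_option autoImplicit false
set_option linter.style.haveILetI false

namespace CfsgLib.Components

open Cfsg Subgroup

variable {G : Type*} [Group G] {G' : Type*} [Group G']

/-! ## Subnormality helpers -/

theorem map_subtype_subgroupOf_self (H : Subgroup G) (K : Subgroup ↥H) :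
    (K.map H.subtype).subgroupOf H = K := by
  rw [← comap_subtype, comap_map_eq_self_of_injective H.subtype_injective]

theorem isSubnormal_map_subtype_iff {H : Subgroup G} (hH : H.IsSubnormal) (K : Subgroup ↥H) :
    (K.map H.subtype).IsSubnormal ↔ K.IsSubnormal := by
  refine ⟨fun h => ?_, fun h => h.trans' hH⟩
  have := h.subgroupOf (K := H)
  rwa [map_subtype_subgroupOf_self] at this

theorem map_equiv_symm_map (e : G ≃* G') (K : Subgroup G) :
    (K.map e.toMonoidHom).map e.symm.toMonoidHom = K := by
  ext x
  simp

theorem map_equiv_map_symm (e : G ≃* G') (K : Subgroup G') :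
    (K.map e.symm.toMonoidHom).map e.toMonoidHom = K := by
  ext x
  simp

theorem isSubnormal_map_equiv (e : G ≃* G') {H : Subgroup G} (hH : H.IsSubnormal) :
    (H.map e.toMonoidHom).IsSubnormal :=
  hH.map e.surjective

/-! ## Quasisimple groups -/

theorem isQuasisimple_def : IsQuasisimple G ↔
    Group.IsPerfect G ∧ IsSimpleGroup (G ⧸ center G) :=
  Iff.rfl

theorem quasisimple_nontrivial (hG : IsQuasisimple G) : Nontrivial G := by
  have := hG.2
  exact Function.Surjective.nontrivial (QuotientGroup.mk'_surjective (center G))

theorem quasisimple_center_ne_top (hG : IsQuasisimple G) : center G ≠ ⊤ := by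
  intro h
  have := hG.2
  have : Subsingleton (G ⧸ center G) := QuotientGroup.subsingleton_iff.mpr h
  exact not_nontrivial (G ⧸ center G) inferInstance

theorem quasisimple_not_isMulCommutative (hG : IsQuasisimple G) : ¬ IsMulCommutative G :=
  fun h => quasisimple_center_ne_top hG (center_eq_top_iff.mpr h)

theorem quasisimple_not_isSolvable (hG : IsQuasisimple G) : ¬ Group.IsSolvable G := by
  have := hG.1
  have := quasisimple_nontrivial hG
  exact Group.IsPerfect.not_isSolvable G

theorem quasisimple_not_isNilpotent (hG : IsQuasisimple G) : ¬ Group.IsNilpotent G :=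
  fun _ => quasisimple_not_isSolvable hG IsNilpotent.to_isSolvable

/-- A normal subgroup of a quasisimple group is the whole group or central. -/
theorem quasisimple_normal_eq_top_or_le_center (hG : IsQuasisimple G) (N : Subgroup G)
    [N.Normal] : N = ⊤ ∨ N ≤ center G := by
  have := hG.1
  have := hG.2
  rcases (Normal.map ‹N.Normal› _ (QuotientGroup.mk'_surjective (center G))).eq_bot_or_eq_top
    with h | h
  · right
    rwa [Subgroup.map_eq_bot_iff, QuotientGroup.ker_mk'] at h
  · left
    have h2 : N ⊔ center G = ⊤ := by
      have := congrArg (Subgroup.comap (QuotientGroup.mk' (center G))) h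
      rwa [comap_map_eq, comap_top, QuotientGroup.ker_mk'] at this
    rw [eq_top_iff, ← Group.IsPerfect.commutator_eq_top (G := G)]
    exact Normal.commutator_le_of_self_sup_commutative_eq_top h2 inferInstance

/-- A subnormal subgroup of a quasisimple group is the whole group or central. -/
theorem quasisimple_subnormal_eq_top_or_le_center (hG : IsQuasisimple G) {H : Subgroup G}
    (hH : H.IsSubnormal) : H = ⊤ ∨ H ≤ center G := by
  rcases hH.lt_normal with h | ⟨K, hK, hHK, hKtop⟩
  · exact Or.inl h
  · haveI := hK
    rcases quasisimple_normal_eq_top_or_le_center hG K with h | h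
    · exact absurd h hKtop.ne
    · exact Or.inr (hHK.trans h)

/-- A nontrivial perfect group all whose proper normal subgroups are central is quasisimple. -/
theorem isQuasisimple_of_normal_le_center [Nontrivial G] (hp : Group.IsPerfect G)
    (h : ∀ N : Subgroup G, N.Normal → N ≠ ⊤ → N ≤ center G) : IsQuasisimple G := by
  refine ⟨hp, ?_⟩
  have hne : center G ≠ ⊤ := fun hc =>
    Group.IsPerfect.not_isMulCommutative G (center_eq_top_iff.mp hc)
  have : Nontrivial (G ⧸ center G) := QuotientGroup.nontrivial_iff.mpr hne
  refine ⟨fun N hN => ?_⟩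
  by_cases hT : N.comap (QuotientGroup.mk' (center G)) = ⊤
  · right
    have := congrArg (Subgroup.map (QuotientGroup.mk' (center G))) hT
    rwa [map_comap_eq_self_of_surjective (QuotientGroup.mk'_surjective _),
      map_top_of_surjective _ (QuotientGroup.mk'_surjective _)] at this
  · left
    have h1 := map_mono (f := QuotientGroup.mk' (center G)) (h _ (hN.comap _) hT)
    rwa [map_comap_eq_self_of_surjective (QuotientGroup.mk'_surjective _),
      QuotientGroup.map_mk'_self, le_bot_iff] at h1

/-- A nontrivial homomorphic image of a quasisimple group is quasisimple. -/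
theorem isQuasisimple_of_surjective [Nontrivial G'] (hG : IsQuasisimple G) (f : G →* G')
    (hf : Function.Surjective f) : IsQuasisimple G' := by
  have := hG.1
  refine isQuasisimple_of_normal_le_center (Group.IsPerfect.ofSurjective hf) fun N hN hne => ?_
  have := hN.comap f
  rcases quasisimple_normal_eq_top_or_le_center hG (N.comap f) with h | h
  · exfalso
    apply hne
    rw [← map_comap_eq_self_of_surjective hf N, h, map_top_of_surjective f hf]
  · intro x hx
    obtain ⟨y, rfl⟩ := hf x
    rw [mem_center_iff]
    intro z
    obtain ⟨w, rfl⟩ := hf z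
    rw [← map_mul, ← map_mul, mem_center_iff.mp (h hx) w]

theorem isQuasisimple_of_mulEquiv (e : G ≃* G') (hG : IsQuasisimple G) : IsQuasisimple G' :=
  haveI := quasisimple_nontrivial hG
  haveI : Nontrivial G' := e.toEquiv.nontrivial_congr.mp inferInstance
  isQuasisimple_of_surjective hG e.toMonoidHom e.surjective

theorem isQuasisimple_congr (e : G ≃* G') : IsQuasisimple G ↔ IsQuasisimple G' :=
  ⟨isQuasisimple_of_mulEquiv e, isQuasisimple_of_mulEquiv e.symm⟩

theorem isQuasisimple_top_iff : IsQuasisimple ↥(⊤ : Subgroup G) ↔ IsQuasisimple G :=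
  isQuasisimple_congr topEquiv

/-- A non-abelian simple group is quasisimple. -/
theorem isQuasisimple_of_isSimpleGroup [IsSimpleGroup G] (hna : ¬ IsMulCommutative G) :
    IsQuasisimple G := by
  refine isQuasisimple_of_normal_le_center ⟨?_⟩ fun N hN hne => ?_
  · refine (Normal.eq_bot_or_eq_top (inferInstance : (commutator G).Normal)).resolve_left fun h => ?_
    exact hna (center_eq_top_iff.mp
      (top_le_iff.mp (commutator_top_left_eq_bot_iff_le_center.mp h)))
  · rw [hN.eq_bot_or_eq_top.resolve_right hne]
    exact bot_le

/-! ## Components -/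

theorem component_ne_bot {K : Subgroup G} (hK : IsComponent K) : K ≠ ⊥ :=
  (nontrivial_iff_ne_bot K).mp (quasisimple_nontrivial hK.2)

theorem component_commutator_self {K : Subgroup G} (hK : IsComponent K) : ⁅K, K⁆ = K :=
  isPerfect_iff.mp hK.2.1

theorem component_not_le_of_isSolvable {K S : Subgroup G} (hK : IsComponent K)
    (hS : Group.IsSolvable ↥S) : ¬ K ≤ S := fun h =>
  haveI := hS
  quasisimple_not_isSolvable hK.2 (Group.isSolvable_of_isSolvable_injective (inclusion_injective h))

/-- The components of a subnormal subgroup `H` are the components of `G` inside `H`. -/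
theorem isComponent_map_subtype_iff {H : Subgroup G} (hH : H.IsSubnormal) (K : Subgroup ↥H) :
    IsComponent (K.map H.subtype) ↔ IsComponent K := by
  refine and_congr (isSubnormal_map_subtype_iff hH K) (isQuasisimple_congr ?_)
  exact (equivMapOfInjective K H.subtype H.subtype_injective).symm

theorem isComponent_subgroupOf {K H : Subgroup G} (hKH : K ≤ H) (hK : IsComponent K) :
    IsComponent (K.subgroupOf H) :=
  ⟨hK.1.subgroupOf, isQuasisimple_of_mulEquiv (subgroupOfEquivOfLe hKH).symm hK.2⟩

theorem isComponent_of_subgroupOf {K H : Subgroup G} (hKH : K ≤ H) (hH : H.IsSubnormal)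
    (hK : IsComponent (K.subgroupOf H)) : IsComponent K := by
  have := (isComponent_map_subtype_iff hH (K.subgroupOf H)).mpr hK
  rwa [map_subgroupOf_eq_of_le hKH] at this

theorem isComponent_map_equiv (e : G ≃* G') {K : Subgroup G} (hK : IsComponent K) :
    IsComponent (K.map e.toMonoidHom) :=
  ⟨isSubnormal_map_equiv e hK.1,
    isQuasisimple_of_mulEquiv (equivMapOfInjective K e.toMonoidHom e.injective) hK.2⟩

theorem isComponent_map_equiv_iff (e : G ≃* G') (K : Subgroup G) :
    IsComponent (K.map e.toMonoidHom) ↔ IsComponent K := by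
  refine ⟨fun h => ?_, isComponent_map_equiv e⟩
  have := isComponent_map_equiv e.symm h
  rwa [map_equiv_symm_map] at this

theorem isComponent_conj {K : Subgroup G} (hK : IsComponent K) (g : G) :
    IsComponent (K.map (MulAut.conj g).toMonoidHom) :=
  isComponent_map_equiv _ hK

/-- The fundamental lemma: a component is contained in, or centralises, each subnormal
subgroup. -/
theorem component_le_or_commutator_eq_bot.{u} :
    ∀ {G : Type u} [Group G] [Finite G] {L H : Subgroup G}, IsComponent L → H.IsSubnormal →
      L ≤ H ∨ ⁅L, H⁆ = ⊥ := by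
  suffices ∀ n : ℕ, ∀ {G : Type u} [Group G] [Finite G], Nat.card G = n → ∀ {L H : Subgroup G},
      IsComponent L → H.IsSubnormal → L ≤ H ∨ ⁅L, H⁆ = ⊥ by
    intro G _ _ L H hL hH
    exact this _ rfl hL hH
  intro n
  induction n using Nat.strong_induction_on with
  | _ n ih =>
  intro G _ _ hn L H hL hH
  by_cases hLtop : L = ⊤
  · subst hLtop
    have hq : IsQuasisimple G := isQuasisimple_top_iff.mp hL.2
    rcases quasisimple_subnormal_eq_top_or_le_center hq hH with h | h
    · exact Or.inl h.ge
    · exact Or.inr (commutator_top_left_eq_bot_iff_le_center.mpr h)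
  rcases hH.lt_normal with h | ⟨K, hKn, hHK, hKtop⟩
  · exact Or.inl (h ▸ le_top)
  obtain ⟨M, hMn, hLM, hMtop⟩ := hL.1.exists_normal_and_le_and_lt_top_of_ne hLtop
  have key : ∀ T : Subgroup G, T < ⊤ → L ≤ T → ∀ X : Subgroup G, X ≤ T → X.IsSubnormal →
      L ≤ X ∨ ⁅L, X⁆ = ⊥ := by
    intro T hT hLT X hXT hX
    have hcard : Nat.card ↥T < n := by
      rw [← hn]
      exact lt_of_le_of_ne (card_le_card_group T) fun he => hT.ne (eq_top_of_card_eq T he)
    rcases ih _ hcard rfl (isComponent_subgroupOf hLT hL) (hX.subgroupOf (K := T)) with h | h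
    · left
      have := map_mono (f := T.subtype) h
      rwa [map_subgroupOf_eq_of_le hLT, map_subgroupOf_eq_of_le hXT] at this
    · right
      have := congrArg (Subgroup.map T.subtype) h
      rwa [map_commutator, map_subgroupOf_eq_of_le hLT, map_subgroupOf_eq_of_le hXT,
        Subgroup.map_bot] at this
  haveI := hKn
  haveI := hMn
  by_cases hLK : L ≤ K
  · exact key K hKtop hLK H hHK hH
  rcases key M hMtop hLM (K ⊓ M) inf_le_right (hKn.isSubnormal.inf hMn.isSubnormal) with h | h
  · exact absurd (h.trans inf_le_left) hLK
  · right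
    have h1 : ⁅L, K⁆ ≤ K ⊓ M :=
      le_inf (commutator_le_right L K) ((commutator_mono hLM le_rfl).trans (commutator_le_left M K))
    have h2 : ⁅⁅L, K⁆, L⁆ = ⊥ := by
      rw [eq_bot_iff, ← h, commutator_comm L (K ⊓ M)]
      exact commutator_mono h1 le_rfl
    have h3 : ⁅⁅L, L⁆, K⁆ = ⊥ := by
      refine commutator_commutator_eq_bot_of_rotate h2 ?_
      rwa [commutator_comm K L]
    rw [component_commutator_self hL] at h3
    rw [eq_bot_iff, ← h3]
    exact commutator_mono le_rfl hHK

/-- A component centralises each subnormal subgroup not containing it. -/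
theorem component_commutator_eq_bot_of_not_le [Finite G] {L H : Subgroup G} (hL : IsComponent L)
    (hH : H.IsSubnormal) (h : ¬ L ≤ H) : ⁅L, H⁆ = ⊥ :=
  (component_le_or_commutator_eq_bot hL hH).resolve_left h

theorem component_eq_of_le [Finite G] {L K : Subgroup G} (hL : IsComponent L) (hK : IsComponent K)
    (h : L ≤ K) : L = K := by
  rcases quasisimple_subnormal_eq_top_or_le_center hK.2 (hL.1.subgroupOf (K := K)) with h' | h'
  · exact le_antisymm h (subgroupOf_eq_top.mp h')
  · exfalso
    apply quasisimple_not_isMulCommutative (isQuasisimple_of_mulEquiv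
      (subgroupOfEquivOfLe h).symm hL.2)
    exact ⟨⟨fun a b => Subtype.ext (mem_center_iff.mp (h' b.2) a)⟩⟩

theorem components_commute [Finite G] {L K : Subgroup G} (hL : IsComponent L) (hK : IsComponent K)
    (h : L ≠ K) : ⁅L, K⁆ = ⊥ :=
  component_commutator_eq_bot_of_not_le hL hK.1 fun hle => h (component_eq_of_le hL hK hle)

/-- A component commutes with each subnormal solvable subgroup. -/
theorem component_commutator_eq_bot_of_isSolvable [Finite G] {L S : Subgroup G}
    (hL : IsComponent L) (hS : S.IsSubnormal) (hsolv : Group.IsSolvable ↥S) : ⁅L, S⁆ = ⊥ :=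
  component_commutator_eq_bot_of_not_le hL hS (component_not_le_of_isSolvable hL hsolv)

/-- A component commutes with each solvable subgroup that it normalises. -/
theorem component_commutator_eq_bot_of_normalizes [Finite G] {L S : Subgroup G}
    (hL : IsComponent L) (hsolv : Group.IsSolvable ↥S) (hinv : L ≤ normalizer (S : Set G)) :
    ⁅L, S⁆ = ⊥ := by
  have hN : ((S.subgroupOf (L ⊔ S))).Normal :=
    normal_subgroupOf_of_le_normalizer (sup_le hinv le_normalizer)
  haveI := hsolv
  have hsolv' : Group.IsSolvable ↥(S.subgroupOf (L ⊔ S)) :=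
    Group.isSolvable_of_isSolvable_injective (f := (subgroupOfEquivOfLe (le_sup_right : S ≤ L ⊔ S)).toMonoidHom) (subgroupOfEquivOfLe (le_sup_right : S ≤ L ⊔ S)).injective
  have h := component_commutator_eq_bot_of_isSolvable
    (isComponent_subgroupOf (le_sup_left : L ≤ L ⊔ S) hL) hN.isSubnormal hsolv'
  have := congrArg (Subgroup.map (L ⊔ S).subtype) h
  rwa [map_commutator, map_subgroupOf_eq_of_le le_sup_left, map_subgroupOf_eq_of_le le_sup_right,
    Subgroup.map_bot] at this

/-! ## The layer -/

theorem component_le_layer {K : Subgroup G} (hK : IsComponent K) : K ≤ layer G :=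
  le_sSup (α := Subgroup G) hK

theorem layer_le_iff {X : Subgroup G} :
    layer G ≤ X ↔ ∀ K : Subgroup G, IsComponent K → K ≤ X :=
  sSup_le_iff (α := Subgroup G)

theorem layer_eq_iSup : layer G = ⨆ K : {K : Subgroup G // IsComponent K}, (K : Subgroup G) :=
  le_antisymm (layer_le_iff.mpr fun K hK => le_iSup_of_le ⟨K, hK⟩ le_rfl)
    (iSup_le fun K => component_le_layer K.2)

theorem layer_map_equiv (e : G ≃* G') : (layer G).map e.toMonoidHom = layer G' := by
  refine le_antisymm ?_ (layer_le_iff.mpr fun K hK => ?_)
  · rw [map_le_iff_le_comap]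
    exact layer_le_iff.mpr fun K hK => map_le_iff_le_comap.mp
      (component_le_layer (isComponent_map_equiv e hK))
  · have := map_mono (f := e.toMonoidHom) (component_le_layer (isComponent_map_equiv e.symm hK))
    rwa [map_equiv_map_symm] at this

instance layer_characteristic : (layer G).Characteristic :=
  characteristic_iff_map_eq.mpr layer_map_equiv

theorem layer_normal : (layer G).Normal :=
  inferInstance

theorem layer_map_subtype_le {H : Subgroup G} (hH : H.IsSubnormal) :
    (layer ↥H).map H.subtype ≤ layer G := by
  rw [map_le_iff_le_comap]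
  exact layer_le_iff.mpr fun K hK => map_le_iff_le_comap.mp
    (component_le_layer ((isComponent_map_subtype_iff hH K).mpr hK))

theorem le_layer_map_subtype {H K : Subgroup G} (hK : IsComponent K) (hKH : K ≤ H) :
    K ≤ (layer ↥H).map H.subtype := by
  rw [← map_subgroupOf_eq_of_le hKH]
  exact map_mono (component_le_layer (isComponent_subgroupOf hKH hK))

/-- The layer normalises every subnormal subgroup. -/
theorem layer_le_normalizer_of_subnormal [Finite G] {H : Subgroup G} (hH : H.IsSubnormal) :
    layer G ≤ normalizer (H : Set G) := by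
  refine layer_le_iff.mpr fun K hK => ?_
  rcases component_le_or_commutator_eq_bot hK hH with h | h
  · exact h.trans le_normalizer
  · exact (commutator_eq_bot_iff_le_centralizer.mp h).trans (centralizer_le_normalizer _)

theorem component_normal_in_layer [Finite G] {K : Subgroup G} (hK : IsComponent K) :
    (K.subgroupOf (layer G)).Normal :=
  normal_subgroupOf_of_le_normalizer (layer_le_normalizer_of_subnormal hK.1)

theorem layer_commutator_self : ⁅layer G, layer G⁆ = layer G := by
  refine le_antisymm ?_ (layer_le_iff.mpr fun K hK => ?_)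
  · rw [commutator_le]
    intro a ha b hb
    exact mul_mem (mul_mem (mul_mem ha hb) (inv_mem ha)) (inv_mem hb)
  · exact (component_commutator_self hK).ge.trans
      (commutator_mono (component_le_layer hK) (component_le_layer hK))

theorem layer_isPerfect : Group.IsPerfect ↥(layer G) :=
  isPerfect_iff.mpr layer_commutator_self

/-- The layer centralises each subnormal solvable subgroup. -/
theorem layer_commutator_eq_bot_of_isSolvable [Finite G] {S : Subgroup G} (hS : S.IsSubnormal)
    (hsolv : Group.IsSolvable ↥S) : ⁅layer G, S⁆ = ⊥ := by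
  rw [commutator_eq_bot_iff_le_centralizer]
  exact layer_le_iff.mpr fun K hK => commutator_eq_bot_iff_le_centralizer.mp
    (component_commutator_eq_bot_of_isSolvable hK hS hsolv)

theorem layer_layer : layer ↥(layer G) = ⊤ := by
  apply map_injective (layer G).subtype_injective
  rw [← MonoidHom.range_eq_map, range_subtype]
  exact le_antisymm (map_subtype_le _)
    (layer_le_iff.mpr fun K hK => le_layer_map_subtype hK (component_le_layer hK))

theorem layer_ne_bot_iff : layer G ≠ ⊥ ↔ ∃ K : Subgroup G, IsComponent K := by
  refine ⟨fun h => ?_, fun ⟨K, hK⟩ h => component_ne_bot hK (le_bot_iff.mp (h ▸ component_le_layer hK))⟩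
  by_contra hne
  push Not at hne
  exact h (le_bot_iff.mp (layer_le_iff.mpr fun K hK => absurd hK (hne K)))

theorem layer_eq_bot_iff : layer G = ⊥ ↔ ∀ K : Subgroup G, ¬ IsComponent K := by
  rw [← not_iff_not, ← ne_eq, layer_ne_bot_iff, not_forall_not]

/-- Grün plus perfection: an element acting on a perfect subgroup by central commutators
centralises it. -/
theorem commutator_eq_bot_of_perfect {K X : Subgroup G} (hK : ⁅K, K⁆ = K)
    (h : ⁅⁅K, X⁆, K⁆ = ⊥) : ⁅K, X⁆ = ⊥ := by
  conv_lhs => rw [← hK]
  exact commutator_commutator_eq_bot_of_rotate h (by rwa [commutator_comm X K])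

end CfsgLib.Components
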