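import Mathlib
import Cfsg.Prelude.Def_Local
import Cfsg.Agent.Lib.Components.Basic
import Cfsg.Agent.Lib.Base.Transport
import Cfsg.Agent.Lib.Base.Fitting

/-!
# The generalized Fitting subgroup
-/

set_option autoImplicit false
set_option linter.style.haveILetI false
set_option linter.unusedSectionVars false

open scoped Pointwise commutatorElement

namespace CfsgLib.Components

open Cfsg Subgroup CfsgLib.Base

variable {G : Type*} [Group G] {G' : Type*} [Group G']

theorem layer_le_fstar : layer G ≤ generalizedFittingSubgroup G := le_sup_left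

theorem fitting_le_fstar : fittingSubgroup G ≤ generalizedFittingSubgroup G := le_sup_right

theorem fstar_map_equiv (e : G ≃* G') :
    (generalizedFittingSubgroup G).map e.toMonoidHom = generalizedFittingSubgroup G' := by
  rw [generalizedFittingSubgroup, Subgroup.map_sup, layer_map_equiv, map_fittingSubgroup_mulEquiv,
    ← generalizedFittingSubgroup]

instance fstar_characteristic : (generalizedFittingSubgroup G).Characteristic :=
  characteristic_iff_map_eq.mpr fstar_map_equiv

variable [Finite G]

theorem isSolvable_fitting : Group.IsSolvable ↥(fittingSubgroup G) :=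
  haveI := isNilpotent_fittingSubgroup G
  inferInstance

theorem layer_commutator_fitting : ⁅layer G, fittingSubgroup G⁆ = ⊥ :=
  layer_commutator_eq_bot_of_isSolvable (fittingSubgroup_normal' G).isSubnormal isSolvable_fitting

theorem layer_le_centralizer_fitting :
    layer G ≤ centralizer (fittingSubgroup G : Set G) :=
  commutator_eq_bot_iff_le_centralizer.mp layer_commutator_fitting

theorem component_le_centralizer_fitting {L : Subgroup G} (hL : IsComponent L) :
    L ≤ centralizer (fittingSubgroup G : Set G) :=
  (component_le_layer hL).trans layer_le_centralizer_fitting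

theorem component_not_le_fitting {L : Subgroup G} (hL : IsComponent L) :
    ¬ L ≤ fittingSubgroup G :=
  component_not_le_of_isSolvable hL isSolvable_fitting

/-- A subnormal subgroup of class at most two lies in the Fitting subgroup. -/
theorem le_fitting_of_commutator_commutator_eq_bot {D : Subgroup G} (hD : D.IsSubnormal)
    (h : ⁅⁅D, D⁆, D⁆ = ⊥) : D ≤ fittingSubgroup G := by
  refine le_fittingSubgroup_of_isSubnormal hD
    ((isNilpotent_iff_lowerCentralSeries D).mpr ⟨2, ?_⟩)
  rw [Subgroup.lowerCentralSeries_succ, Subgroup.lowerCentralSeries_succ, Subgroup.lowerCentralSeries_zero, h]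

theorem commutator_self_le (D : Subgroup G) : ⁅D, D⁆ ≤ D :=
  commutator_le.mpr fun _ ha _ hb => mul_mem (mul_mem (mul_mem ha hb) (inv_mem ha)) (inv_mem hb)

theorem isSubnormal_commutator_self {D : Subgroup G} (hD : D.IsSubnormal) :
    (⁅D, D⁆).IsSubnormal := by
  refine IsSubnormal.step _ D (commutator_self_le D) hD (normal_subgroupOf_of_le_normalizer ?_)
  have := normalizer_le_normalizer_map_subtype D (commutator ↥D)
  rw [map_subtype_commutator] at this
  exact le_normalizer.trans this

/-- A subnormal solvable subgroup centralising `F(G)` lies in `F(G)`. -/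
theorem le_fitting_of_isSolvable_of_le_centralizer :
    ∀ {D : Subgroup G}, D.IsSubnormal → Group.IsSolvable ↥D →
      D ≤ centralizer (fittingSubgroup G : Set G) → D ≤ fittingSubgroup G := by
  suffices ∀ n : ℕ, ∀ D : Subgroup G, Nat.card D = n → D.IsSubnormal → Group.IsSolvable ↥D →
      D ≤ centralizer (fittingSubgroup G : Set G) → D ≤ fittingSubgroup G from
    fun {D} => this _ D rfl
  intro n
  induction n using Nat.strong_induction_on with
  | _ n ih =>
  intro D hn hsn hs hc
  by_cases hD : D = ⊥
  · simp [hD]
  haveI := hs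
  haveI := (nontrivial_iff_ne_bot D).mpr hD
  have hlt : ⁅D, D⁆ < D := lt_of_le_of_ne (commutator_self_le D) fun he =>
    haveI := isPerfect_iff.mpr he
    Group.IsPerfect.not_isSolvable ↥D hs
  have hle : ⁅D, D⁆ ≤ fittingSubgroup G := by
    refine ih _ ?_ _ rfl (isSubnormal_commutator_self hsn) ?_ (hlt.le.trans hc)
    · rw [← hn]
      exact lt_of_le_of_ne (Subgroup.card_le_of_le hlt.le) fun he => hlt.ne
        (eq_of_le_of_card_ge hlt.le he.ge)
    · exact Group.isSolvable_of_isSolvable_injective (inclusion_injective hlt.le)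
  refine le_fitting_of_commutator_commutator_eq_bot hsn ?_
  rw [commutator_eq_bot_iff_le_centralizer]
  exact hle.trans ((le_centralizer_iff.mp hc).trans le_rfl)

/-- A solvable subgroup of `C_G(F)` normalised by `C_G(F)` lies in `F`. -/
theorem le_fitting_of_solvable_normalized {N : Subgroup G}
    (hN : N ≤ centralizer (fittingSubgroup G : Set G))
    (hnorm : centralizer (fittingSubgroup G : Set G) ≤ normalizer (N : Set G))
    (hsolv : Group.IsSolvable ↥N) : N ≤ fittingSubgroup G := by
  haveI := fittingSubgroup_normal' G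
  exact le_fitting_of_isSolvable_of_le_centralizer
    (IsSubnormal.step _ _ hN (inferInstance : (centralizer (fittingSubgroup G : Set G)).Normal).isSubnormal
      (normal_subgroupOf_of_le_normalizer hnorm)) hsolv hN

theorem inf_le_center_of_le_centralizer {H C : Subgroup G} (h : C ≤ centralizer (H : Set G)) :
    ⁅H ⊓ C, C⁆ = ⊥ := by
  rw [commutator_eq_bot_iff_le_centralizer]
  exact inf_le_left.trans (le_centralizer_iff.mp h)

/-- Bender: `C_G(F*(G)) ≤ F(G)`. -/
theorem centralizer_fstar_le_fitting :
    centralizer (generalizedFittingSubgroup G : Set G) ≤ fittingSubgroup G := by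
  set C := centralizer (generalizedFittingSubgroup G : Set G) with hC
  haveI : (fittingSubgroup G).Normal := fittingSubgroup_normal' G
  have hCn : C.Normal := inferInstance
  by_contra hne
  classical
  have hex : ∃ n, ∃ D : Subgroup G, D.IsSubnormal ∧ D ≤ C ∧ ¬ D ≤ fittingSubgroup G ∧
      Nat.card D = n := ⟨_, C, hCn.isSubnormal, le_rfl, hne, rfl⟩
  obtain ⟨D, hsn, hDC, hDF, hcard⟩ := Nat.find_spec hex
  have hmin : ∀ D' : Subgroup G, D'.IsSubnormal → D' ≤ D → D' ≠ D → D' ≤ fittingSubgroup G := by
    intro D' h1 h2 h3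
    by_contra h4
    have := Nat.find_min' hex ⟨D', h1, h2.trans hDC, h4, rfl⟩
    exact h3 (eq_of_le_of_card_ge h2 (by omega))
  have hFC : ∀ X : Subgroup G, X ≤ fittingSubgroup G → ⁅X, D⁆ = ⊥ := fun X hX =>
    commutator_eq_bot_iff_le_centralizer.mpr
      ((hX.trans fitting_le_fstar).trans (le_centralizer_iff.mp hDC))
  by_cases hperf : ⁅D, D⁆ = D
  · have hD : Nontrivial ↥D := (nontrivial_iff_ne_bot D).mpr fun h => hDF (h ▸ bot_le)
    have hq : IsQuasisimple ↥D := by
      refine isQuasisimple_of_normal_le_center (isPerfect_iff.mpr hperf) fun N hN hNtop => ?_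
      have hle := hmin _ (hN.isSubnormal.trans' hsn) (map_subtype_le N) fun he =>
        hNtop (map_injective D.subtype_injective
          (by rw [he, ← MonoidHom.range_eq_map, range_subtype]))
      intro x hx
      have h1 : (x : G) ∈ centralizer (D : Set G) :=
        commutator_eq_bot_iff_le_centralizer.mp (hFC _ hle) ⟨x, hx, rfl⟩
      exact mem_center_iff.mpr fun y => Subtype.ext (mem_centralizer_iff.mp h1 y y.2)
    have hL : IsComponent D := ⟨hsn, hq⟩
    exact quasisimple_not_isMulCommutative hq (le_centralizer_iff_isMulCommutative.mp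
      (((component_le_layer hL).trans layer_le_fstar).trans (le_centralizer_iff.mp hDC)))
  · exact hDF (le_fitting_of_commutator_commutator_eq_bot hsn
      (hFC _ (hmin _ (isSubnormal_commutator_self hsn) (commutator_self_le D) hperf)))

theorem centralizer_fstar_le :
    centralizer (generalizedFittingSubgroup G : Set G) ≤ generalizedFittingSubgroup G :=
  centralizer_fstar_le_fitting.trans fitting_le_fstar

/-- `C_G(F*(G)) = Z(F(G))`. -/
theorem centralizer_fstar_eq :
    centralizer (generalizedFittingSubgroup G : Set G) =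
      fittingSubgroup G ⊓ centralizer (fittingSubgroup G : Set G) := by
  refine le_antisymm (le_inf centralizer_fstar_le_fitting
    (centralizer_le fitting_le_fstar)) ?_
  rw [le_centralizer_iff]
  refine sup_le (le_centralizer_iff.mp ?_) (le_centralizer_iff.mp inf_le_right)
  exact inf_le_left.trans (le_centralizer_iff.mp layer_le_centralizer_fitting)

/-- `F(G) ∩ E(G) = Z(E(G))`. -/
theorem fitting_inf_layer_eq :
    fittingSubgroup G ⊓ layer G = layer G ⊓ centralizer (layer G : Set G) := by
  refine le_antisymm (le_inf inf_le_right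
    (inf_le_left.trans (le_centralizer_iff.mp layer_le_centralizer_fitting))) ?_
  refine le_inf ?_ inf_le_left
  haveI : (layer G ⊓ centralizer (layer G : Set G)).Normal := inferInstance
  haveI : IsMulCommutative ↥(layer G ⊓ centralizer (layer G : Set G)) :=
    le_centralizer_iff_isMulCommutative.mp
      (inf_le_right.trans (centralizer_le inf_le_left))
  exact le_fittingSubgroup_of_isMulCommutative

theorem centralizer_fitting_le_iff :
    centralizer (fittingSubgroup G : Set G) ≤ fittingSubgroup G ↔ layer G = ⊥ := by
  constructor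
  · intro h
    refine layer_eq_bot_iff.mpr fun L hL => ?_
    exact component_not_le_fitting hL ((component_le_centralizer_fitting hL).trans h)
  · intro h
    have := centralizer_fstar_le_fitting (G := G)
    rwa [generalizedFittingSubgroup, h, bot_sup_eq] at this

theorem fstar_le_of_fitting_le {Y : Subgroup G} (hY : Y.IsSubnormal)
    (hF : fittingSubgroup G ≤ Y) (hC : centralizer (Y : Set G) ≤ Y) :
    generalizedFittingSubgroup G ≤ Y := by
  refine sup_le (layer_le_iff.mpr fun L hL => ?_) hF
  rcases component_le_or_commutator_eq_bot hL hY with h | h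
  · exact h
  · exact (commutator_eq_bot_iff_le_centralizer.mp h).trans hC

/-- `F(S) = F(G) ∩ S` for subnormal `S`. -/
theorem map_fitting_of_isSubnormal {S : Subgroup G} (hS : S.IsSubnormal) :
    (fittingSubgroup ↥S).map S.subtype = fittingSubgroup G ⊓ S := by
  refine le_antisymm (le_inf (map_fittingSubgroup_le_of_isSubnormal hS) (map_subtype_le _)) ?_
  haveI := fittingSubgroup_normal' G
  exact le_map_fittingSubgroup inf_le_right
    ((le_inf le_normalizer_of_normal le_normalizer).trans inf_normalizer_le_normalizer_inf)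
    (isNilpotent_of_le inf_le_left (isNilpotent_fittingSubgroup G))

/-- `F*(S) = F*(G) ∩ S` for subnormal `S`. -/
theorem map_fstar_of_isSubnormal {S : Subgroup G} (hS : S.IsSubnormal) :
    (generalizedFittingSubgroup ↥S).map S.subtype = generalizedFittingSubgroup G ⊓ S := by
  have hFS := map_fitting_of_isSubnormal hS
  rw [generalizedFittingSubgroup, Subgroup.map_sup, hFS]
  refine le_antisymm (le_inf ?_ (sup_le (map_subtype_le _) inf_le_right)) ?_
  · exact sup_le ((layer_map_subtype_le hS).trans layer_le_fstar)
      (inf_le_left.trans fitting_le_fstar)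
  set F := fittingSubgroup G with hF
  haveI hFn : F.Normal := fittingSubgroup_normal' G
  set E1 := (layer ↥S).map S.subtype with hE1
  let E2 : Subgroup G := ⨆ L : {L : Subgroup G // IsComponent L ∧ ¬ L ≤ S}, (L : Subgroup G)
  have hE2S : E2 ≤ centralizer (S : Set G) := iSup_le fun L =>
    commutator_eq_bot_iff_le_centralizer.mp (component_commutator_eq_bot_of_not_le L.2.1 hS L.2.2)
  have hE2E : E2 ≤ layer G := iSup_le fun L => component_le_layer L.2.1
  have hE2F : E2 ≤ centralizer (F : Set G) := hE2E.trans layer_le_centralizer_fitting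
  have hsplit : generalizedFittingSubgroup G = E1 ⊔ (E2 ⊔ F) := by
    refine le_antisymm (sup_le (layer_le_iff.mpr fun L hL => ?_) (le_sup_right.trans le_sup_right))
      (sup_le ((layer_map_subtype_le hS).trans layer_le_fstar)
        (sup_le (hE2E.trans layer_le_fstar) fitting_le_fstar))
    by_cases h : L ≤ S
    · exact le_sup_of_le_left (le_layer_map_subtype hL h)
    · exact le_sup_of_le_right (le_sup_of_le_left
        (le_iSup_of_le (⟨L, hL, h⟩ : {L : Subgroup G // IsComponent L ∧ ¬ L ≤ S}) le_rfl))
  have hE1c : E1 ≤ centralizer ((E2 ⊔ F : Subgroup G) : Set G) := by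
    rw [le_centralizer_iff]
    exact sup_le (hE2S.trans (centralizer_le (map_subtype_le _)))
      (le_centralizer_iff.mp ((layer_map_subtype_le hS).trans layer_le_centralizer_fitting))
  -- `K` is nilpotent and subnormal
  set K := (E2 ⊔ F) ⊓ S with hK
  have hlcs : ∀ n, K.lowerCentralSeries (n + 1) ≤ F.lowerCentralSeries (n + 1) := by
    have key : ∀ X : Subgroup G, X ≤ F → ⁅X, K⁆ ≤ ⁅X, F⁆ := by
      intro X hX
      rw [commutator_le]
      intro a ha b hb
      have hb' : b ∈ ((E2 : Set G) * (F : Set G)) := by
        rw [← coe_mul_of_left_le_normalizer_right E2 F (le_normalizer_of_normal)]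
        exact hb.1
      obtain ⟨e, he, f, hf, rfl⟩ := Set.mem_mul.mp hb'
      have h1 : ∀ g ∈ F, e * g * e⁻¹ = g := fun g hg => by
        rw [← mem_centralizer_iff.mp (hE2F he) g hg, mul_inv_cancel_right]
      have : ⁅a, e * f⁆ = ⁅a, f⁆ := by
        have h2 : e * (f * a⁻¹ * f⁻¹) * e⁻¹ = f * a⁻¹ * f⁻¹ :=
          h1 _ (mul_mem (mul_mem hf (inv_mem (hX ha))) (inv_mem hf))
        calc ⁅a, e * f⁆ = a * (e * (f * a⁻¹ * f⁻¹) * e⁻¹) := by group
          _ = ⁅a, f⁆ := by rw [h2]; group
      rw [this]
      exact commutator_mem_commutator ha hf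
    intro n
    induction n with
    | zero =>
      simp only [zero_add, Subgroup.lowerCentralSeries_succ, Subgroup.lowerCentralSeries_zero]
      refine le_trans (commutator_le.mpr fun a ha b hb => ?_) (key F le_rfl)
      have ha' : a ∈ ((E2 : Set G) * (F : Set G)) := by
        rw [← coe_mul_of_left_le_normalizer_right E2 F (le_normalizer_of_normal)]
        exact ha.1
      obtain ⟨e, he, f, hf, rfl⟩ := Set.mem_mul.mp ha'
      have he1 : e * b = b * e := (mem_centralizer_iff.mp (hE2S he) b hb.2).symm
      have hfb : ⁅f, b⁆ ∈ F := commutator_le_left F ⊤ (commutator_mem_commutator hf (mem_top b))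
      have he2 : e * ⁅f, b⁆ * e⁻¹ = ⁅f, b⁆ := by
        rw [← mem_centralizer_iff.mp (hE2F he) _ hfb, mul_inv_cancel_right]
      have : ⁅e * f, b⁆ = ⁅f, b⁆ := by
        calc ⁅e * f, b⁆ = e * ⁅f, b⁆ * (b * e⁻¹ * b⁻¹) := by group
          _ = e * ⁅f, b⁆ * e⁻¹ := by
            rw [show b * e⁻¹ * b⁻¹ = e⁻¹ by
              rw [mul_inv_eq_iff_eq_mul, eq_inv_mul_iff_mul_eq, ← mul_assoc, he1,
                mul_inv_cancel_right]]
          _ = ⁅f, b⁆ := he2
      rw [this]
      exact commutator_mem_commutator hf hb
    | succ n ih =>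
      rw [Subgroup.lowerCentralSeries_succ, F.lowerCentralSeries_succ]
      exact (commutator_mono ih le_rfl).trans (key _ (F.lowerCentralSeries_le_self _))
  have hKnil : Group.IsNilpotent ↥K := by
    obtain ⟨c, hc⟩ := (isNilpotent_iff_lowerCentralSeries F).mp (isNilpotent_fittingSubgroup G)
    refine (isNilpotent_iff_lowerCentralSeries K).mpr ⟨c + 1, ?_⟩
    exact le_bot_iff.mp ((hlcs c).trans ((F.lowerCentralSeries_antitone (Nat.le_succ c)).trans hc.le))
  have hKF : K ≤ F ⊓ S := by
    refine le_inf (le_fittingSubgroup_of_isSubnormal (IsSubnormal.inf ?_ hS) hKnil) inf_le_right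
    refine IsSubnormal.step _ (generalizedFittingSubgroup G)
      (hsplit ▸ le_sup_right) fstar_normal.isSubnormal
      (normal_subgroupOf_of_le_normalizer ?_)
    rw [hsplit]
    exact sup_le (hE1c.trans (centralizer_le_normalizer _)) le_normalizer
  intro x hx
  obtain ⟨hx1, hx2⟩ := mem_inf.mp hx
  have hx' : x ∈ ((E1 : Set G) * ((E2 ⊔ F : Subgroup G) : Set G)) := by
    rw [← coe_mul_of_left_le_normalizer_right E1 (E2 ⊔ F)
      (hE1c.trans (centralizer_le_normalizer _)), ← hsplit]
    exact hx1
  obtain ⟨a, ha, b, hb, rfl⟩ := Set.mem_mul.mp hx'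
  exact mul_mem_sup ha (hKF (mem_inf.mpr ⟨hb, ((mul_mem_cancel_left (map_subtype_le _ ha)).mp hx2)⟩))
where
  fstar_normal : (generalizedFittingSubgroup G).Normal := inferInstance

theorem map_fstar_eq_inf (N : Subgroup G) [hN : N.Normal] :
    (generalizedFittingSubgroup ↥N).map N.subtype = generalizedFittingSubgroup G ⊓ N :=
  map_fstar_of_isSubnormal hN.isSubnormal

/-- `F*(G)` is a `p`-group iff it equals `O_p(G)`. -/
theorem fstar_eq_pCore_of_isPGroup {p : ℕ} [Fact p.Prime]
    (h : IsPGroup p ↥(generalizedFittingSubgroup G)) :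
    generalizedFittingSubgroup G = pCore p G :=
  le_antisymm (le_pCore h) ((pCore_le_fittingSubgroup p G).trans fitting_le_fstar)

end CfsgLib.Components
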