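import Mathlib
import Cfsg.Prelude.Def_Local
import Cfsg.Agent.Lib.Components.Basic
import Cfsg.Agent.Lib.Base.Transport
import Cfsg.Agent.Lib.Base.Cores

/-!
# `p`-components and the `p`-layer

`pGenerated p H` is the subgroup generated by the `p`-subgroups of `H`. For a component `K̄` of
`G ⧸ O_{p'}(G)`, the unique `p`-component over `K̄` is `pGenerated p` of the preimage of `K̄`.
-/

set_option autoImplicit false
set_option linter.unusedSectionVars false
set_option linter.style.haveILetI false

open scoped Pointwise

namespace CfsgLib.Components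

open Cfsg Subgroup CfsgLib.Base

variable {G : Type*} [Group G] {G' : Type*} [Group G'] {p : ℕ}

/-- The subgroup generated by the `p`-subgroups of `H`. -/
def pGenerated (p : ℕ) (H : Subgroup G) : Subgroup G :=
  ⨆ Q : {Q : Subgroup G // Q ≤ H ∧ IsPGroup p Q}, (Q : Subgroup G)

theorem pGenerated_le (p : ℕ) (H : Subgroup G) : pGenerated p H ≤ H :=
  iSup_le fun Q => Q.2.1

theorem le_pGenerated {Q H : Subgroup G} (hQH : Q ≤ H) (hQ : IsPGroup p Q) :
    Q ≤ pGenerated p H :=
  le_iSup_of_le (⟨Q, hQH, hQ⟩ : {Q : Subgroup G // Q ≤ H ∧ IsPGroup p Q}) le_rfl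

theorem pGenerated_mono {H K : Subgroup G} (h : H ≤ K) : pGenerated p H ≤ pGenerated p K :=
  iSup_le fun Q => le_pGenerated (Q.2.1.trans h) Q.2.2

theorem map_pGenerated_le (f : G →* G') (H : Subgroup G) :
    (pGenerated p H).map f ≤ pGenerated p (H.map f) := by
  rw [pGenerated, Subgroup.map_iSup]
  exact iSup_le fun Q => le_pGenerated (map_mono Q.2.1) (Q.2.2.map f)

theorem normalizer_le_normalizer_pGenerated (p : ℕ) (H : Subgroup G) :
    normalizer (H : Set G) ≤ normalizer (pGenerated p H : Set G) := by
  have key : ∀ g ∈ normalizer (H : Set G),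
      (pGenerated p H).map (MulAut.conj g).toMonoidHom ≤ pGenerated p H := by
    intro g hg
    refine (map_pGenerated_le _ H).trans ?_
    rw [map_conj_eq_self_iff.mpr hg]
  intro g hg
  refine map_conj_eq_self_iff.mp (le_antisymm (key g hg) ?_)
  intro x hx
  rw [mem_map_conj]
  have := key g⁻¹ (inv_mem hg) ⟨x, hx, rfl⟩
  simpa using this

theorem pGenerated_subgroupOf_normal (p : ℕ) (H : Subgroup G) :
    ((pGenerated p H).subgroupOf H).Normal :=
  normal_subgroupOf_of_le_normalizer (le_normalizer.trans (normalizer_le_normalizer_pGenerated p H))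

theorem pGenerated_isSubnormal {H : Subgroup G} (hH : H.IsSubnormal) :
    (pGenerated p H).IsSubnormal :=
  IsSubnormal.step _ H (pGenerated_le p H) hH (pGenerated_subgroupOf_normal p H)

/-- A subnormal subgroup of index prime to `p` contains every `p`-subgroup. -/
theorem isPGroup_le_of_isSubnormal_of_coprime_index [Fact p.Prime] [Finite G] {H : Subgroup G}
    (hH : H.IsSubnormal) (hidx : H.index.Coprime p) {Q : Subgroup G} (hQ : IsPGroup p Q) :
    Q ≤ H := by
  induction hH with
  | top => exact le_top
  | step H K h_le hsn hn ih =>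
    have hmul := relIndex_mul_index h_le
    have hK : Q ≤ K := ih (hidx.coprime_dvd_left (Dvd.intro_left _ hmul))
    have hrel : (H.subgroupOf K).index.Coprime p := hidx.coprime_dvd_left (Dvd.intro _ hmul)
    intro x hx
    obtain ⟨n, hn'⟩ := hQ ⟨x, hx⟩
    haveI := hn
    have h1 : (QuotientGroup.mk' (H.subgroupOf K) ⟨x, hK hx⟩) ^ p ^ n = 1 := by
      rw [← map_pow]
      have : (⟨x, hK hx⟩ : K) ^ p ^ n = 1 := Subtype.ext (by simpa using congrArg Subtype.val hn')
      rw [this, map_one]
    have h2 : orderOf (QuotientGroup.mk' (H.subgroupOf K) ⟨x, hK hx⟩) = 1 := by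
      apply Nat.eq_one_of_dvd_coprimes (hrel.symm.pow_left n) (orderOf_dvd_of_pow_eq_one h1)
      exact orderOf_dvd_natCard _
    rw [orderOf_eq_one_iff, QuotientGroup.mk'_apply, QuotientGroup.eq_one_iff] at h2
    exact h2

theorem pGenerated_le_of_isSubnormal [Fact p.Prime] [Finite G] {H P : Subgroup G} (hHP : H ≤ P)
    (hH : H.IsSubnormal) (hidx : (H.relIndex P).Coprime p) : pGenerated p P ≤ H := by
  refine iSup_le fun Q => ?_
  have h := isPGroup_le_of_isSubnormal_of_coprime_index (hH.subgroupOf (K := P)) hidx
    (Q.2.2.of_equiv (subgroupOfEquivOfLe Q.2.1).symm)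
  have := map_mono (f := P.subtype) h
  rwa [map_subgroupOf_eq_of_le Q.2.1, map_subgroupOf_eq_of_le hHP] at this

/-- In a perfect group a central `p`-subgroup of index prime to `p` is trivial. -/
theorem central_pSubgroup_eq_bot_of_perfect [Fact p.Prime] [Finite G] (hperf : Group.IsPerfect G)
    {P : Subgroup G} (hP : IsPGroup p P) (hPZ : P ≤ center G) (hidx : (center G).index.Coprime p) :
    P = ⊥ := by
  rw [eq_bot_iff]
  intro x hx
  have hker : commutator G ≤ (MonoidHom.transferCenterPow G).ker := by
    rw [commutator_def, commutator_le]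
    intro a _ b _
    rw [MonoidHom.mem_ker, map_commutatorElement, commutatorElement_eq_one_iff_mul_comm]
    exact Subtype.ext ((mem_center_iff.mp
      (MonoidHom.transferCenterPow G a).2 (MonoidHom.transferCenterPow G b : G)).symm)
  have h1 : x ^ (center G).index = 1 := by
    rw [← MonoidHom.transferCenterPow_apply]
    have : x ∈ (MonoidHom.transferCenterPow G).ker := hker (hperf.commutator_eq_top ▸ mem_top x)
    rw [MonoidHom.mem_ker.mp this, OneMemClass.coe_one]
  obtain ⟨n, hn⟩ := hP ⟨x, hx⟩
  rw [mem_bot, ← orderOf_eq_one_iff]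
  exact Nat.eq_one_of_dvd_coprimes (hidx.symm.pow_left n)
    (orderOf_dvd_of_pow_eq_one (by simpa using congrArg Subtype.val hn))
    (orderOf_dvd_of_pow_eq_one h1)

/-- A quasisimple group of order divisible by `p` is generated by its `p`-subgroups. -/
theorem pGenerated_top_eq_top [Fact p.Prime] [Finite G] (hG : IsQuasisimple G)
    (hp : p ∣ Nat.card G) : pGenerated p (⊤ : Subgroup G) = ⊤ := by
  haveI : (pGenerated p (⊤ : Subgroup G)).Normal := by
    rw [← normalizer_eq_top_iff, eq_top_iff]
    refine le_trans ?_ (normalizer_le_normalizer_pGenerated p ⊤)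
    exact le_normalizer
  refine (quasisimple_normal_eq_top_or_le_center hG _).resolve_right fun hle => ?_
  obtain ⟨P⟩ : Nonempty (Sylow p G) := inferInstance
  have hPZ : (P : Subgroup G) ≤ center G := (le_pGenerated le_top P.isPGroup').trans hle
  have hidx : (center G).index.Coprime p :=
    ((Fact.out : p.Prime).coprime_iff_not_dvd.mpr P.not_dvd_index).symm.coprime_dvd_left
      (index_dvd_of_le hPZ)
  exact (P.ne_bot_of_dvd_card hp) (central_pSubgroup_eq_bot_of_perfect hG.1 P.isPGroup' hPZ hidx)

/-- A component of order divisible by `p` is generated by its `p`-subgroups. -/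
theorem pGenerated_component [Fact p.Prime] [Finite G] {L : Subgroup G} (hL : IsComponent L)
    (hp : p ∣ Nat.card L) : pGenerated p L = L := by
  refine le_antisymm (pGenerated_le p L) ?_
  have h := pGenerated_top_eq_top hL.2 hp
  have h2 := map_pGenerated_le (p := p) L.subtype ⊤
  rw [h, ← MonoidHom.range_eq_map, range_subtype] at h2
  exact h2

/-- A component of `G` has order divisible by `p` when `O_{p'}(G) = 1`. -/
theorem dvd_card_component [Fact p.Prime] [Finite G] (hO : pPrimeCore p G = ⊥) {L : Subgroup G}
    (hL : IsComponent L) : p ∣ Nat.card L := by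
  by_contra h
  apply component_ne_bot hL
  rw [eq_bot_iff, ← hO]
  exact le_pPrimeCore_of_isSubnormal hL.1 ((Fact.out : p.Prime).coprime_iff_not_dvd.mpr h).symm

section Over

variable [Finite G] [Fact p.Prime]

/-- The `p`-component over a component of `G ⧸ O_{p'}(G)`. -/
def pComponentOver (Kb : Subgroup (G ⧸ pPrimeCore p G)) : Subgroup G :=
  pGenerated p (Kb.comap (QuotientGroup.mk' (pPrimeCore p G)))

theorem pComponentOver_le_comap (Kb : Subgroup (G ⧸ pPrimeCore p G)) :
    pComponentOver Kb ≤ Kb.comap (QuotientGroup.mk' (pPrimeCore p G)) :=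
  pGenerated_le _ _

theorem pComponentOver_le_of_isSubnormal {Kb : Subgroup (G ⧸ pPrimeCore p G)} {H : Subgroup G}
    (hH : H.IsSubnormal) (himg : H.map (QuotientGroup.mk' (pPrimeCore p G)) = Kb) :
    pComponentOver Kb ≤ H := by
  subst himg
  rw [pComponentOver, comap_map_mk']
  refine pGenerated_le_of_isSubnormal le_sup_left hH ?_
  -- `|H N : H|` divides `|N|`
  have hmul : H.relIndex (H ⊔ pPrimeCore p G) * Nat.card H =
      Nat.card ↥(H ⊔ pPrimeCore p G) := by
    rw [mul_comm, ← relIndex_bot_left H, ← relIndex_bot_left (H ⊔ _),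
      relIndex_mul_relIndex _ _ _ bot_le le_sup_left]
  have hprod := card_sup_mul_card_inf H (pPrimeCore p G)
  rw [← hmul, mul_comm (H.relIndex _) (Nat.card H), mul_assoc] at hprod
  have := Nat.eq_of_mul_eq_mul_left Nat.card_pos hprod
  exact (pPrimeCore_coprime p G).coprime_dvd_left (Dvd.intro _ this)

theorem map_pComponentOver {Kb : Subgroup (G ⧸ pPrimeCore p G)} (hKb : IsComponent Kb) :
    (pComponentOver Kb).map (QuotientGroup.mk' (pPrimeCore p G)) = Kb := by
  set f := QuotientGroup.mk' (pPrimeCore p G) with hf
  have hsurj : Function.Surjective f := QuotientGroup.mk'_surjective _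
  have hle : (pComponentOver Kb).map f ≤ Kb :=
    map_le_iff_le_comap.mpr (pComponentOver_le_comap Kb)
  refine le_antisymm hle ?_
  calc Kb = pGenerated p Kb :=
        (pGenerated_component hKb (dvd_card_component (pPrimeCore_quotient_pPrimeCore p G) hKb)).symm
    _ ≤ _ := iSup_le fun Q => ?_
  obtain ⟨Q, hQK, hQ⟩ := Q
  -- lift `Q` to a Sylow subgroup of its preimage
  obtain ⟨S⟩ : Nonempty (Sylow p ↥(Q.comap f)) := inferInstance
  let g : ↥(Q.comap f) →* ↥Q := f.subgroupComap Q
  have hg : Function.Surjective g := f.subgroupComap_surjective_of_surjective Q hsurj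
  have hS : ((S.mapSurjective hg : Sylow p ↥Q) : Subgroup ↥Q) = ⊤ := by
    exact ((S.mapSurjective hg).is_maximal' (hQ.to_subgroup ⊤) le_top).symm
  intro x hx
  obtain ⟨y, hy, hyx⟩ : (⟨x, hx⟩ : ↥Q) ∈ ((S : Subgroup _).map g) := by
    have : (⟨x, hx⟩ : ↥Q) ∈ ((S.mapSurjective hg : Sylow p ↥Q) : Subgroup ↥Q) := hS ▸ mem_top _
    exact this
  refine ⟨y, ?_, congrArg Subtype.val hyx⟩
  exact le_pGenerated (Q := (S : Subgroup _).map (Q.comap f).subtype)
    ((map_subtype_le _).trans (comap_mono hQK)) (S.isPGroup'.map _) ⟨y, hy, rfl⟩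

theorem isPComponent_pComponentOver {Kb : Subgroup (G ⧸ pPrimeCore p G)} (hKb : IsComponent Kb) :
    IsPComponent p (pComponentOver Kb) := by
  refine ⟨pGenerated_isSubnormal (hKb.1.comap _), by rw [map_pComponentOver hKb]; exact hKb,
    fun H hH hle himg => le_antisymm hle ?_⟩
  rw [map_pComponentOver hKb] at himg
  exact pComponentOver_le_of_isSubnormal hH himg

theorem pComponent_eq_over {K : Subgroup G} (hK : IsPComponent p K) :
    K = pComponentOver (K.map (QuotientGroup.mk' (pPrimeCore p G))) := by
  have h := pComponentOver_le_of_isSubnormal hK.1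
    (Kb := K.map (QuotientGroup.mk' (pPrimeCore p G))) rfl
  exact (hK.2.2 _ (isPComponent_pComponentOver hK.2.1).1 h (map_pComponentOver hK.2.1)).symm

theorem pComponent_eq_of_map_eq {K L : Subgroup G} (hK : IsPComponent p K) (hL : IsPComponent p L)
    (h : K.map (QuotientGroup.mk' (pPrimeCore p G)) = L.map (QuotientGroup.mk' (pPrimeCore p G))) :
    K = L := by
  rw [pComponent_eq_over hK, pComponent_eq_over hL, h]

theorem pGenerated_pComponent {K : Subgroup G} (hK : IsPComponent p K) : pGenerated p K = K := by
  refine le_antisymm (pGenerated_le p K) ?_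
  conv_lhs => rw [pComponent_eq_over hK]
  refine iSup_le fun Q => le_pGenerated ?_ Q.2.2
  conv_rhs => rw [pComponent_eq_over hK]
  exact le_pGenerated Q.2.1 Q.2.2

theorem pComponent_normal_eq_top_of_coprime_index {K : Subgroup G} (hK : IsPComponent p K)
    (N : Subgroup ↥K) [N.Normal] (hidx : N.index.Coprime p) : N = ⊤ := by
  have h : K ≤ N.map K.subtype := by
    conv_lhs => rw [← pGenerated_pComponent hK]
    refine pGenerated_le_of_isSubnormal (map_subtype_le N)
      ((‹N.Normal›).isSubnormal.trans' hK.1) ?_
    rwa [relIndex, map_subtype_subgroupOf_self]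
  rw [eq_top_iff]
  intro x _
  obtain ⟨y, hy, hyx⟩ := h x.2
  exact Subtype.ext hyx ▸ hy

theorem pComponent_commutator_self {K : Subgroup G} (hK : IsPComponent p K) : ⁅K, K⁆ = K := by
  refine hK.2.2 _ ?_ (commutator_le_left_self K) ?_
  · exact IsSubnormal.step _ K (commutator_le_left_self K) hK.1
      (normal_subgroupOf_of_le_normalizer (le_normalizer_commutator_self K))
  · rw [map_commutator]
    exact component_commutator_self hK.2.1
where
  commutator_le_left_self (K : Subgroup G) : ⁅K, K⁆ ≤ K :=
    Subgroup.commutator_le.mpr fun _ ha _ hb =>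
      mul_mem (mul_mem (mul_mem ha hb) (inv_mem ha)) (inv_mem hb)
  le_normalizer_commutator_self (K : Subgroup G) : K ≤ normalizer ((⁅K, K⁆ : Subgroup G) : Set G) := by
    have := normalizer_le_normalizer_map_subtype K (commutator ↥K)
    rw [map_subtype_commutator] at this
    exact le_normalizer.trans this

theorem pComponent_isPerfect {K : Subgroup G} (hK : IsPComponent p K) : Group.IsPerfect ↥K :=
  isPerfect_iff.mpr (pComponent_commutator_self hK)

theorem dvd_card_pComponent {K : Subgroup G} (hK : IsPComponent p K) : p ∣ Nat.card K :=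
  (dvd_card_component (pPrimeCore_quotient_pPrimeCore p G) hK.2.1).trans
    (Subgroup.card_map_dvd K _)

/-! ### The `p`-layer -/

theorem pComponent_le_pLayer {K : Subgroup G} (hK : IsPComponent p K) : K ≤ pLayer p G :=
  le_sSup (α := Subgroup G) hK

theorem pLayer_le_iff {X : Subgroup G} :
    pLayer p G ≤ X ↔ ∀ K : Subgroup G, IsPComponent p K → K ≤ X :=
  sSup_le_iff (α := Subgroup G)

theorem map_pLayer : (pLayer p G).map (QuotientGroup.mk' (pPrimeCore p G)) =
    layer (G ⧸ pPrimeCore p G) := by
  refine le_antisymm ?_ (layer_le_iff.mpr fun Kb hKb => ?_)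
  · rw [map_le_iff_le_comap]
    exact pLayer_le_iff.mpr fun K hK => map_le_iff_le_comap.mp (component_le_layer hK.2.1)
  · rw [← map_pComponentOver hKb]
    exact map_mono (pComponent_le_pLayer (isPComponent_pComponentOver hKb))

theorem pLayer_eq_bot_iff : pLayer p G = ⊥ ↔ layer (G ⧸ pPrimeCore p G) = ⊥ := by
  constructor
  · intro h
    rw [← map_pLayer, h, Subgroup.map_bot]
  · intro h
    rw [eq_bot_iff]
    exact pLayer_le_iff.mpr fun K hK => absurd hK.2.1 (layer_eq_bot_iff.mp h _)

/-- The `p`-layer normalises every `p`-component. -/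
theorem pLayer_le_normalizer_pComponent {K : Subgroup G} (hK : IsPComponent p K) :
    pLayer p G ≤ normalizer (K : Set G) := by
  have h1 : pLayer p G ≤
      normalizer ((K.map (QuotientGroup.mk' (pPrimeCore p G))).comap
        (QuotientGroup.mk' (pPrimeCore p G)) : Set G) := by
    refine le_trans ?_ (le_normalizer_comap _)
    rw [← map_le_iff_le_comap, map_pLayer]
    exact layer_le_normalizer_of_subnormal hK.2.1.1
  refine h1.trans ?_
  conv_rhs => rw [pComponent_eq_over hK]
  exact normalizer_le_normalizer_pGenerated p _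

theorem pComponent_normal_in_pLayer {K : Subgroup G} (hK : IsPComponent p K) :
    (K.subgroupOf (pLayer p G)).Normal :=
  normal_subgroupOf_of_le_normalizer (pLayer_le_normalizer_pComponent hK)

/-! ### The core of a `p`-component -/

theorem map_pPrimeCore_pComponent {K : Subgroup G} (hK : IsPComponent p K) :
    (pPrimeCore p ↥K).map K.subtype = K ⊓ pPrimeCore p G := by
  refine le_antisymm (le_inf (map_subtype_le _) (map_pPrimeCore_le_of_isSubnormal hK.1)) ?_
  refine le_map_pPrimeCore inf_le_left ?_
    ((pPrimeCore_coprime p G).coprime_dvd_left (card_dvd_of_le inf_le_right))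
  exact (le_inf le_normalizer le_normalizer_of_normal).trans inf_normalizer_le_normalizer_inf

/-- `K ⧸ O_{p'}(K)` is quasisimple for a `p`-component `K`. -/
theorem pComponent_quotient_isQuasisimple {K : Subgroup G} (hK : IsPComponent p K) :
    IsQuasisimple (↥K ⧸ pPrimeCore p ↥K) := by
  let f : ↥K →* ↥(K.map (QuotientGroup.mk' (pPrimeCore p G))) :=
    (QuotientGroup.mk' (pPrimeCore p G)).subgroupMap K
  have hf : Function.Surjective f :=
    (QuotientGroup.mk' (pPrimeCore p G)).subgroupMap_surjective K
  have hker : f.ker = pPrimeCore p ↥K := by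
    apply map_injective K.subtype_injective
    rw [map_pPrimeCore_pComponent hK]
    ext x
    simp only [Subgroup.mem_map, MonoidHom.mem_ker, mem_inf]
    constructor
    · rintro ⟨y, hy, rfl⟩
      exact ⟨y.2, (QuotientGroup.eq_one_iff (y : G)).mp (congrArg Subtype.val hy)⟩
    · rintro ⟨hx, hxN⟩
      exact ⟨⟨x, hx⟩, Subtype.ext ((QuotientGroup.eq_one_iff x).mpr hxN), rfl⟩
  exact isQuasisimple_of_mulEquiv
    ((QuotientGroup.quotientMulEquivOfEq hker.symm).trans
      (QuotientGroup.quotientKerEquivOfSurjective f hf)).symm hK.2.1.2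

/-- Distinct `p`-components commute modulo their cores. -/
theorem pComponents_commutator_le {K L : Subgroup G} (hK : IsPComponent p K)
    (hL : IsPComponent p L) (hne : K ≠ L) :
    ⁅K, L⁆ ≤ K ⊓ L ⊓ pPrimeCore p G := by
  refine le_inf (le_inf ?_ ?_) ?_
  · exact le_normalizer_iff_commutator_le_left.mp
      ((pComponent_le_pLayer hL).trans (pLayer_le_normalizer_pComponent hK))
  · exact le_normalizer_iff_commutator_le.mp
      ((pComponent_le_pLayer hK).trans (pLayer_le_normalizer_pComponent hL))
  · rw [← map_mk'_eq_bot_iff, map_commutator]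
    exact components_commute hK.2.1 hL.2.1 fun h => hne (pComponent_eq_of_map_eq hK hL h)
where
  le_normalizer_iff_commutator_le {H M : Subgroup G} :
      H ≤ normalizer (M : Set G) ↔ ⁅H, M⁆ ≤ M := by
    constructor
    · intro h
      rw [Subgroup.commutator_le]
      exact fun a ha b hb => mul_mem ((mem_normalizer_iff.mp (h ha) b).mp hb) (inv_mem hb)
    · intro h g hg
      have key : ∀ x ∈ H, ∀ y ∈ M, x * y * x⁻¹ ∈ M := fun x hx y hy => by
        have := mul_mem (h (commutator_mem_commutator hx hy)) hy
        simpa [commutatorElement_def, mul_assoc] using this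
      refine mem_normalizer_iff.mpr fun y => ⟨key g hg y, fun hy => ?_⟩
      have := key g⁻¹ (inv_mem hg) _ hy
      simpa [mul_assoc] using this
  le_normalizer_iff_commutator_le_left {H M : Subgroup G} :
      H ≤ normalizer (M : Set G) ↔ ⁅M, H⁆ ≤ M := by
    rw [commutator_comm]
    exact le_normalizer_iff_commutator_le

/-! ### Components as `p`-components -/

theorem map_component_isComponent_or_eq_bot {N : Subgroup G} [N.Normal] {L : Subgroup G}
    (hL : IsComponent L) :
    L.map (QuotientGroup.mk' N) = ⊥ ∨ IsComponent (L.map (QuotientGroup.mk' N)) := by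
  by_cases h : L.map (QuotientGroup.mk' N) = ⊥
  · exact Or.inl h
  · refine Or.inr ⟨hL.1.quotient, ?_⟩
    haveI := (nontrivial_iff_ne_bot _).mpr h
    exact isQuasisimple_of_surjective hL.2 ((QuotientGroup.mk' N).subgroupMap L)
      ((QuotientGroup.mk' N).subgroupMap_surjective L)

theorem component_isPComponent_iff {L : Subgroup G} (hL : IsComponent L) :
    IsPComponent p L ↔ p ∣ Nat.card L := by
  refine ⟨dvd_card_pComponent, fun hp => ?_⟩
  have hne : L.map (QuotientGroup.mk' (pPrimeCore p G)) ≠ ⊥ := fun h =>
    (Fact.out : p.Prime).coprime_iff_not_dvd.mp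
      ((pPrimeCore_coprime p G).coprime_dvd_left (card_dvd_of_le (map_mk'_eq_bot_iff.mp h))).symm hp
  have hLb := (map_component_isComponent_or_eq_bot (N := pPrimeCore p G) hL).resolve_left hne
  have hover := isPComponent_pComponentOver hLb
  have hle := pComponentOver_le_of_isSubnormal hL.1
    (Kb := L.map (QuotientGroup.mk' (pPrimeCore p G))) rfl
  have : L ≤ pComponentOver (L.map (QuotientGroup.mk' (pPrimeCore p G))) := by
    conv_lhs => rw [← pGenerated_component hL hp]
    exact pGenerated_mono (le_comap_map _ _)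
  rw [le_antisymm this hle]
  exact hover

theorem pComponent_eq_of_quasisimple {K : Subgroup G} (hK : IsPComponent p K)
    (hq : IsQuasisimple ↥K) : IsComponent K :=
  ⟨hK.1, hq⟩

/-- An extension of a quasisimple group by a central subgroup is quasisimple if perfect. -/
theorem isQuasisimple_of_central_extension {Z : Subgroup G} [Z.Normal] (hZ : Z ≤ center G)
    (hperf : Group.IsPerfect G) (hq : IsQuasisimple (G ⧸ Z)) : IsQuasisimple G := by
  haveI := quasisimple_nontrivial hq
  haveI : Nontrivial G := (QuotientGroup.mk'_surjective Z).nontrivial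
  refine isQuasisimple_of_normal_le_center hperf fun M hM hne => ?_
  haveI := hM
  haveI : (M.map (QuotientGroup.mk' Z)).Normal := hM.map _ (QuotientGroup.mk'_surjective Z)
  rcases quasisimple_normal_eq_top_or_le_center hq (M.map (QuotientGroup.mk' Z)) with h | h
  · exfalso
    apply hne
    have h2 : M ⊔ Z = ⊤ := by
      have := congrArg (Subgroup.comap (QuotientGroup.mk' Z)) h
      rwa [comap_map_eq, comap_top, QuotientGroup.ker_mk'] at this
    rw [eq_top_iff, ← hperf.commutator_eq_top]
    exact Normal.commutator_le_of_self_sup_commutative_eq_top h2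
      (le_centralizer_iff_isMulCommutative.mp (hZ.trans (center_le_centralizer _)))
  · have h1 : ⁅(⊤ : Subgroup G), M⁆ ≤ Z := by
      rw [← map_mk'_eq_bot_iff, map_commutator,
        map_top_of_surjective _ (QuotientGroup.mk'_surjective Z),
        commutator_top_left_eq_bot_iff_le_center]
      exact h
    rw [← commutator_top_left_eq_bot_iff_le_center]
    apply commutator_eq_bot_of_perfect
    · rw [← commutator_def, hperf.commutator_eq_top]
    · rw [commutator_top_right_eq_bot_iff_le_center]
      exact h1.trans hZ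

/-- A `p`-component is quasisimple iff it centralises its `p'`-core. -/
theorem pComponent_isQuasisimple_iff {K : Subgroup G} (hK : IsPComponent p K) :
    IsQuasisimple ↥K ↔ ⁅K, (pPrimeCore p ↥K).map K.subtype⁆ = ⊥ := by
  have e : ⁅K, (pPrimeCore p ↥K).map K.subtype⁆ = ⊥ ↔ pPrimeCore p ↥K ≤ center ↥K := by
    rw [← commutator_top_left_eq_bot_iff_le_center,
      ← Subgroup.map_eq_bot_iff_of_injective _ K.subtype_injective, map_commutator,
      ← MonoidHom.range_eq_map, range_subtype]
  rw [e]
  constructor
  · intro hq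
    refine (quasisimple_normal_eq_top_or_le_center hq _).resolve_left fun h => ?_
    exact (Fact.out : p.Prime).coprime_iff_not_dvd.mp (pPrimeCore_eq_top_iff.mp h).symm
      (dvd_card_pComponent hK)
  · intro hZ
    exact isQuasisimple_of_central_extension hZ (pComponent_isPerfect hK)
      (pComponent_quotient_isQuasisimple hK)

/-- Minimality of a `p`-component among perfect subnormal subgroups of order divisible by `p`. -/
theorem pComponent_eq_of_perfect_le {K H : Subgroup G} (hK : IsPComponent p K) (hHK : H ≤ K)
    (hH : H.IsSubnormal) (hperf : ⁅H, H⁆ = H) (hp : p ∣ Nat.card H) : H = K := by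
  refine hK.2.2 H hH hHK ?_
  set f := QuotientGroup.mk' (pPrimeCore p G)
  have hle : H.map f ≤ K.map f := map_mono hHK
  rcases quasisimple_subnormal_eq_top_or_le_center hK.2.1.2
    ((hH.quotient (K := pPrimeCore p G)).subgroupOf (K := K.map f)) with h | h
  · exact le_antisymm hle (subgroupOf_eq_top.mp h)
  · exfalso
    have hab : H.map f ≤ centralizer (H.map f : Set (G ⧸ pPrimeCore p G)) := fun a ha =>
      mem_centralizer_iff.mpr fun b hb => congrArg Subtype.val
        (mem_center_iff.mp (h (show (⟨a, hle ha⟩ : ↥(K.map f)) ∈ _ from ha)) ⟨b, hle hb⟩)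
    rw [← commutator_eq_bot_iff_le_centralizer, ← map_commutator, hperf,
      map_mk'_eq_bot_iff] at hab
    exact (Fact.out : p.Prime).coprime_iff_not_dvd.mp
      ((pPrimeCore_coprime p G).coprime_dvd_left (card_dvd_of_le hab)).symm hp

/-- `E(G)` maps onto `E(G ⧸ O_{p'}(G))` iff every `p`-component is a component. -/
theorem map_layer_eq_layer_iff :
    (layer G).map (QuotientGroup.mk' (pPrimeCore p G)) = layer (G ⧸ pPrimeCore p G) ↔
      pLayer p G ≤ layer G := by
  constructor
  · intro h
    refine pLayer_le_iff.mpr fun K hK => ?_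
    set f := QuotientGroup.mk' (pPrimeCore p G)
    by_contra hKE
    have key : (layer G).map f ≤ centralizer (K.map f : Set (G ⧸ pPrimeCore p G)) := by
      rw [map_le_iff_le_comap]
      refine layer_le_iff.mpr fun L hL => map_le_iff_le_comap.mp ?_
      rcases map_component_isComponent_or_eq_bot (N := pPrimeCore p G) hL with h0 | hc
      · rw [h0]; exact bot_le
      · refine commutator_eq_bot_iff_le_centralizer.mp (components_commute hc hK.2.1 fun he => ?_)
        have hp : p ∣ Nat.card L :=
          (dvd_card_component (pPrimeCore_quotient_pPrimeCore p G) hc).trans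
            (Subgroup.card_map_dvd L f)
        exact hKE ((pComponent_eq_of_map_eq ((component_isPComponent_iff hL).mpr hp) hK he) ▸
          component_le_layer hL)
    rw [h] at key
    exact quasisimple_not_isMulCommutative hK.2.1.2
      (le_centralizer_iff_isMulCommutative.mp ((component_le_layer hK.2.1).trans key))
  · intro h
    refine le_antisymm ?_ (map_pLayer.symm.le.trans (map_mono h))
    rw [map_le_iff_le_comap]
    refine layer_le_iff.mpr fun L hL => map_le_iff_le_comap.mp ?_
    rcases map_component_isComponent_or_eq_bot (N := pPrimeCore p G) hL with h0 | hc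
    · rw [h0]; exact bot_le
    · exact component_le_layer hc

end Over

/-! ### Invariance under isomorphisms -/

theorem isPComponent_map_equiv (e : G ≃* G') {K : Subgroup G} (hK : IsPComponent p K) :
    IsPComponent p (K.map e.toMonoidHom) := by
  have hN : (pPrimeCore p G).map e.toMonoidHom = pPrimeCore p G' := map_pPrimeCore_mulEquiv e
  let eq : (G ⧸ pPrimeCore p G) ≃* (G' ⧸ pPrimeCore p G') := QuotientGroup.congr _ _ e hN
  have comm : ∀ H : Subgroup G,
      (H.map e.toMonoidHom).map (QuotientGroup.mk' (pPrimeCore p G')) =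
        (H.map (QuotientGroup.mk' (pPrimeCore p G))).map eq.toMonoidHom := by
    intro H
    rw [Subgroup.map_map, Subgroup.map_map]
    congr 1
  refine ⟨isSubnormal_map_equiv e hK.1, ?_, fun H hH hle himg => ?_⟩
  · rw [comm]
    exact isComponent_map_equiv eq hK.2.1
  · have h' : H.map e.symm.toMonoidHom = K := by
      refine hK.2.2 _ (isSubnormal_map_equiv e.symm hH) ?_ ?_
      · exact (map_mono hle).trans (map_equiv_symm_map e K).le
      · apply map_injective eq.injective (f := eq.toMonoidHom)
        rw [← comm, ← comm, map_equiv_map_symm, himg]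
    rw [← h', map_equiv_map_symm]

theorem pLayer_map_equiv (e : G ≃* G') : (pLayer p G).map e.toMonoidHom = pLayer p G' := by
  refine le_antisymm ?_ ?_
  · rw [map_le_iff_le_comap]
    exact sSup_le fun K hK => map_le_iff_le_comap.mp
      (le_sSup (α := Subgroup G') (isPComponent_map_equiv e hK))
  · refine sSup_le fun K hK => ?_
    have := map_mono (f := e.toMonoidHom)
      (show K.map e.symm.toMonoidHom ≤ pLayer p G from
        le_sSup (α := Subgroup G) (isPComponent_map_equiv e.symm hK))
    rwa [map_equiv_map_symm] at this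

instance pLayer_characteristic : (pLayer p G).Characteristic :=
  characteristic_iff_map_eq.mpr pLayer_map_equiv

end CfsgLib.Components
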