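import Mathlib
import Cfsg.Agent.Lib.PGroups.Basic
import Cfsg.Agent.Lib.OddOrder.ActionBasics

/-!
# Thompson's P × Q lemma
-/

set_option autoImplicit false
set_option linter.style.haveILetI false

open scoped Pointwise commutatorElement

namespace CfsgLib.Components

open Subgroup

variable {G : Type*} [Group G]

/-- P × Q lemma, element form: a `p'`-element `q` centralising the `p`-group `P` and normalising
the `p`-group `R` centralises `R` as soon as it centralises `C_R(P)`. -/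
theorem mem_centralizer_of_pTimesQ [Finite G] {p : ℕ} [Fact p.Prime] {P R : Subgroup G}
    (hP : IsPGroup p P) (hR : IsPGroup p R) (hPR : P ≤ normalizer (R : Set G)) {q : G}
    (hq : (orderOf q).Coprime p) (hqP : q ∈ centralizer (P : Set G))
    (hqR : q ∈ normalizer (R : Set G))
    (hfix : R ⊓ centralizer (P : Set G) ≤ centralizer ({q} : Set G)) :
    q ∈ centralizer (R : Set G) := by
  set X := R ⊓ centralizer ({q} : Set G) with hX
  have hqP' : ∀ u ∈ P, u * q = q * u := fun u hu => mem_centralizer_iff.mp hqP u hu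
  have hqX : ∀ x ∈ X, x * q = q * x := fun x hx =>
    (mem_centralizer_iff.mp hx.2 q rfl).symm
  by_cases hXR : R ≤ X
  · exact mem_centralizer_iff.mpr fun x hx => hqX x (hXR hx)
  exfalso
  -- `N_R(X)` is strictly larger than `X`
  set Y := R ⊓ normalizer (X : Set G) with hY
  have hXY : ¬ Y ≤ X := by
    intro hle
    have hlt : X.subgroupOf R < ⊤ :=
      lt_top_iff_ne_top.mpr fun h => hXR (subgroupOf_eq_top.mp h)
    obtain ⟨y, hy, hyX⟩ := SetLike.exists_of_lt (CfsgLib.PGroups.lt_normalizer hR hlt)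
    refine hyX (hle (mem_inf.mpr ⟨y.2, ?_⟩))
    have := le_normalizer_map R.subtype (mem_map_of_mem R.subtype hy)
    rwa [map_subgroupOf_eq_of_le inf_le_left] at this
  have hPX : P ≤ normalizer (X : Set G) := by
    refine (le_inf hPR ?_).trans inf_normalizer_le_normalizer_inf
    have : P ≤ centralizer ({q} : Set G) := fun u hu =>
      mem_centralizer_singleton_iff.mpr (hqP' u hu)
    exact this.trans le_normalizer
  have hPY : P ≤ normalizer (Y : Set G) :=
    (le_inf hPR (hPX.trans le_normalizer)).trans inf_normalizer_le_normalizer_inf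
  -- `M = Y P` is a `p`-group
  set M := Y ⊔ P with hM
  have hMp : IsPGroup p M :=
    (hR.to_le inf_le_left).to_sup_of_normal_left' hP hPY
  have hXn : (X.subgroupOf M).Normal :=
    normal_subgroupOf_of_le_normalizer (sup_le inf_le_right hPX)
  have hYn : (Y.subgroupOf M).Normal :=
    normal_subgroupOf_of_le_normalizer (sup_le le_normalizer hPY)
  set f := QuotientGroup.mk' (X.subgroupOf M) with hf
  haveI hNn : ((Y.subgroupOf M).map f).Normal := hYn.map f (QuotientGroup.mk'_surjective _)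
  have hne : (Y.subgroupOf M).map f ≠ ⊥ := by
    rw [ne_eq, Subgroup.map_eq_bot_iff, QuotientGroup.ker_mk']
    intro hle
    refine hXY fun y hy => ?_
    exact hle (show (⟨y, mem_sup_left hy⟩ : M) ∈ Y.subgroupOf M from hy)
  obtain ⟨z, hz, hz1⟩ := (bot_or_exists_ne_one _).resolve_left
    (CfsgLib.PGroups.inf_center_ne_bot (hMp.to_quotient (X.subgroupOf M)) hne)
  obtain ⟨⟨y', hy', rfl⟩, hzc⟩ := mem_inf.mp hz
  set y : G := (y' : G) with hy
  have hyY : y ∈ Y := hy'
  have hyX : y ∉ X := fun h => hz1 ((QuotientGroup.eq_one_iff y').mpr h)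
  have hyn : ∀ x, x ∈ X ↔ y * x * y⁻¹ ∈ X := fun x => mem_normalizer_iff.mp hyY.2 x
  have hcomm : ∀ u ∈ P, ⁅u, y⁆ ∈ X := by
    intro u hu
    have h := mem_center_iff.mp hzc (f ⟨u, mem_sup_right hu⟩)
    have : f ⁅(⟨u, mem_sup_right hu⟩ : M), y'⁆ = 1 := by
      rw [map_commutatorElement, commutatorElement_eq_one_iff_mul_comm]
      exact h
    exact mem_subgroupOf.mp ((QuotientGroup.eq_one_iff (⁅(⟨u, mem_sup_right hu⟩ : M), y'⁆)).mp this)
  set c : G := q * y * q⁻¹ * y⁻¹ with hc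
  have hcX : ∀ x ∈ X, x * c = c * x := by
    intro x hx
    have h1 : y⁻¹ * x * y ∈ X := by
      rw [hyn]
      simpa [mul_assoc] using hx
    have hA := hqX _ h1
    have hB : x * q = q * x := hqX x hx
    have h3 : (y⁻¹ * x * y) * q⁻¹ = q⁻¹ * (y⁻¹ * x * y) := by
      rw [eq_inv_mul_iff_mul_eq, ← mul_assoc, ← hA, mul_inv_cancel_right]
    calc x * c = (x * q) * (y * q⁻¹ * y⁻¹) := by rw [hc]; group
      _ = q * (y * ((y⁻¹ * x * y) * q⁻¹) * y⁻¹) := by rw [hB]; group
      _ = c * x := by rw [h3, hc]; group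
  have hcP : ∀ u ∈ P, u * c = c * u := by
    intro u hu
    have hd := hcomm u hu
    have hB : ⁅u, y⁆ * q = q * ⁅u, y⁆ := hqX _ hd
    have huq := hqP' u hu
    have huq' : q⁻¹ * u⁻¹ = u⁻¹ * q⁻¹ := by
      rw [← mul_inv_rev, huq, mul_inv_rev]
    have e1 : u * c * u⁻¹ = q * ⁅u, y⁆ * y * q⁻¹ * (y⁻¹ * ⁅u, y⁆⁻¹) := by
      calc u * c * u⁻¹ = (u * q) * y * (q⁻¹ * u⁻¹) * (u * y⁻¹ * u⁻¹) := by rw [hc]; group
        _ = (q * u) * y * (u⁻¹ * q⁻¹) * (u * y⁻¹ * u⁻¹) := by rw [huq, huq']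
        _ = _ := by group
    have e2 : u * c * u⁻¹ = c := by
      rw [e1, ← hB]
      calc ⁅u, y⁆ * q * y * q⁻¹ * (y⁻¹ * ⁅u, y⁆⁻¹) = ⁅u, y⁆ * c * ⁅u, y⁆⁻¹ := by rw [hc]; group
        _ = c := by rw [hcX _ hd, mul_inv_cancel_right]
    exact mul_inv_eq_iff_eq_mul.mp e2
  have hcR : c ∈ R := mul_mem ((mem_normalizer_iff.mp hqR y).mp hyY.1) (inv_mem hyY.1)
  have hqc : c ∈ centralizer ({q} : Set G) :=
    hfix (mem_inf.mpr ⟨hcR, mem_centralizer_iff.mpr hcP⟩)
  have hcop : (orderOf q).Coprime (orderOf c) := by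
    obtain ⟨n, hn⟩ := hR ⟨c, hcR⟩
    have : orderOf c ∣ p ^ n :=
      orderOf_dvd_of_pow_eq_one (by simpa using congrArg Subtype.val hn)
    exact (hq.pow_right n).coprime_dvd_right this
  have := CfsgLib.OddOrder.commute_of_conj_eq_mul (a := q) (d := c) (h := y)
    (mem_centralizer_singleton_iff.mp hqc).symm (by rw [hc]; group) hcop
  exact hyX (mem_inf.mpr ⟨hyY.1, mem_centralizer_singleton_iff.mpr this.eq.symm⟩)

/-- P × Q lemma: `Q` of order prime to `p`. -/
theorem le_centralizer_of_pTimesQ [Finite G] {p : ℕ} [Fact p.Prime] {P R Q : Subgroup G}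
    (hP : IsPGroup p P) (hR : IsPGroup p R) (hPR : P ≤ normalizer (R : Set G))
    (hQ : (Nat.card Q).Coprime p) (hQP : Q ≤ centralizer (P : Set G))
    (hQR : Q ≤ normalizer (R : Set G))
    (hfix : Q ≤ centralizer ((R ⊓ centralizer (P : Set G) : Subgroup G) : Set G)) :
    Q ≤ centralizer (R : Set G) := fun q hq =>
  mem_centralizer_of_pTimesQ hP hR hPR
    (hQ.coprime_dvd_left (by simpa using orderOf_dvd_natCard (⟨q, hq⟩ : Q)))
    (hQP hq) (hQR hq) fun x hx => mem_centralizer_singleton_iff.mpr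
      (mem_centralizer_iff.mp (hfix hq) x hx)

end CfsgLib.Components
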