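import Mathlib
import Cfsg.Prelude.Def_Local
import Cfsg.Agent.Lib.Components.FStar
import Cfsg.Agent.Lib.Components.PComponents
import Cfsg.Agent.Lib.Components.PTimesQ
import Cfsg.Agent.Lib.Transfer.NormalPComplement

/-!
# Local subgroups and `O_p(G)`: consequences of the P × Q lemma
-/

set_option autoImplicit false
set_option linter.style.haveILetI false
set_option linter.unusedSectionVars false

open scoped Pointwise

namespace CfsgLib.Components

open Cfsg Subgroup CfsgLib.Base

variable {G : Type*} [Group G] [Finite G] {p : ℕ} [Fact p.Prime]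

theorem pResidual_eq_top_of_perfect (h : Group.IsPerfect G) : pResidual p G = ⊤ := by
  haveI := h
  haveI := Transfer.pResidual_normal (G := G) (p := p)
  haveI : Group.IsNilpotent (G ⧸ pResidual p G) :=
    (Transfer.isPGroup_quotient_pResidual (G := G) (p := p)).isNilpotent
  rw [← QuotientGroup.subsingleton_iff]
  by_contra hc
  rw [not_subsingleton_iff_nontrivial] at hc
  exact Group.IsPerfect.not_isSolvable (G ⧸ pResidual p G) inferInstance

/-- To contain a perfect subgroup it is enough to contain its `p'`-elements. -/
theorem le_of_perfect_of_pPrime_elements {K X : Subgroup G} (hK : ⁅K, K⁆ = K)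
    (h : ∀ q ∈ K, (orderOf q).Coprime p → q ∈ X) : K ≤ X := by
  have h2 : pResidual p ↥K ≤ X.subgroupOf K := by
    rw [pResidual, closure_le]
    intro q hq
    exact h q q.2 (by simpa [Subgroup.orderOf_coe] using hq)
  rwa [pResidual_eq_top_of_perfect (isPerfect_iff.mpr hK), top_le_iff, subgroupOf_eq_top] at h2

theorem isPGroup_of_pPrime_elements_eq_one
    (h : ∀ q : G, (orderOf q).Coprime p → q = 1) : IsPGroup p G := by
  intro g
  obtain ⟨a, -, b, -, hab, ⟨k, hk⟩, hb⟩ := Transfer.exists_pPart_mul (p := p) g
  refine ⟨k, ?_⟩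
  rw [h b hb, mul_one] at hab
  rw [← hab]
  exact orderOf_dvd_iff_pow_eq_one.mp hk

/-- `F*(G) = O_p(G)` iff `C_G(O_p(G)) ≤ O_p(G)`. -/
theorem fstar_eq_pCore_iff :
    generalizedFittingSubgroup G = pCore p G ↔
      centralizer (pCore p G : Set G) ≤ pCore p G := by
  constructor
  · intro h
    have := centralizer_fstar_le (G := G)
    rwa [h] at this
  · intro h
    refine le_antisymm ?_ ((pCore_le_fittingSubgroup p G).trans fitting_le_fstar)
    refine sup_le (layer_le_iff.mpr fun L hL => absurd ?_ (component_not_le_fitting hL))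
      ?_
    · exact ((component_le_centralizer_fitting hL).trans
        (centralizer_le (pCore_le_fittingSubgroup p G))).trans
          (h.trans (pCore_le_fittingSubgroup p G))
    · have hO : pPrimeCore p G = ⊥ := by
        rw [eq_bot_iff]
        have h1 : pPrimeCore p G ≤ pCore p G :=
          (le_centralizer_iff.mp (pCore_le_centralizer_pPrimeCore p G)).trans h
        exact (le_inf h1 le_rfl).trans (pCore_inf_pPrimeCore p G).le
      rw [fittingSubgroup_eq_iSup_pCore]
      refine iSup_le fun q => ?_
      by_cases hqp : (q : ℕ) = p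
      · rw [hqp]
      · haveI := Fact.mk q.2
        obtain ⟨n, hn⟩ := pCore_eq_pow_card (q : ℕ) G
        refine le_trans (le_of_le_of_eq (le_pPrimeCore (p := p) ?_) hO) bot_le
        rw [hn]
        exact ((Nat.coprime_primes q.2 (Fact.out : p.Prime)).mpr hqp).pow_left n

/-- A `p`-subgroup `R` normalised by `C_G(T)` meets `C_G(T)` inside `O_p(N_G(T))`. -/
theorem inf_centralizer_le_pCore_normalizer {T R : Subgroup G} (hR : IsPGroup p R)
    (hCR : centralizer (T : Set G) ≤ normalizer (R : Set G)) :
    R ⊓ centralizer (T : Set G) ≤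
      (pCore p ↥(normalizer (T : Set G))).map (normalizer (T : Set G)).subtype := by
  refine le_trans (le_map_pCore inf_le_right ?_ (hR.to_le inf_le_left)) ?_
  · exact (le_inf hCR le_normalizer).trans inf_normalizer_le_normalizer_inf
  · exact map_pCore_le_of_normal_subgroupOf (centralizer_le_normalizer _) inferInstance

/-- The local criterion behind `F*(N_G(T)) = O_p(N_G(T))`. -/
theorem fstar_normalizer_eq_pCore {T R : Subgroup G} (hT : IsPGroup p T) (hR : IsPGroup p R)
    (hTR : T ≤ normalizer (R : Set G)) (hCR : centralizer (T : Set G) ≤ normalizer (R : Set G))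
    (hself : ∀ q ∈ centralizer (T : Set G), q ∈ centralizer (R : Set G) → q ∈ R) :
    generalizedFittingSubgroup ↥(normalizer (T : Set G)) = pCore p ↥(normalizer (T : Set G)) := by
  set H := normalizer (T : Set G) with hH
  rw [fstar_eq_pCore_iff]
  refine le_pCore ?_
  refine isPGroup_of_pPrime_elements_eq_one fun q hq => ?_
  have hTH : T ≤ (pCore p ↥H).map H.subtype := le_map_pCore le_normalizer le_rfl hT
  have hqC : ∀ x ∈ (pCore p ↥H).map H.subtype, x * ((q : ↥H) : G) = ((q : ↥H) : G) * x := by
    rintro _ ⟨x, hx, rfl⟩
    exact congrArg Subtype.val (mem_centralizer_iff.mp q.2 x hx)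
  have hqT : ((q : ↥H) : G) ∈ centralizer (T : Set G) :=
    mem_centralizer_iff.mpr fun x hx => hqC x (hTH hx)
  have hq' : (orderOf ((q : ↥H) : G)).Coprime p := by
    rwa [Subgroup.orderOf_coe, Subgroup.orderOf_coe]
  have h1 : ((q : ↥H) : G) ∈ centralizer (R : Set G) :=
    mem_centralizer_of_pTimesQ hT hR hTR hq' hqT (hCR hqT) fun x hx =>
      mem_centralizer_singleton_iff.mpr
        (hqC x (inf_centralizer_le_pCore_normalizer hR hCR hx))
  obtain ⟨n, hn⟩ := hR ⟨_, hself _ hqT h1⟩
  have h2 : orderOf ((q : ↥H) : G) ∣ p ^ n :=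
    orderOf_dvd_of_pow_eq_one (by simpa using congrArg Subtype.val hn)
  have h3 : orderOf ((q : ↥H) : G) = 1 :=
    Nat.eq_one_of_dvd_coprimes (hq'.pow_right n) dvd_rfl h2
  exact Subtype.ext (Subtype.ext (orderOf_eq_one_iff.mp h3))

/-- If `C_G(O_p(G)) ≤ O_p(G)`, the same holds in the normalizer of each `p`-subgroup. -/
theorem fstar_normalizer_of_fstar_eq_pCore (h : generalizedFittingSubgroup G = pCore p G)
    {P : Subgroup G} (hP : IsPGroup p P) :
    generalizedFittingSubgroup ↥(normalizer (P : Set G)) = pCore p ↥(normalizer (P : Set G)) :=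
  fstar_normalizer_eq_pCore hP (isPGroup_pCore p G) le_normalizer_of_normal le_normalizer_of_normal
    fun _ _ hq => fstar_eq_pCore_iff.mp h hq

/-- Characteristic `p` passes from element centralizers to `p`-local subgroups. -/
theorem fstar_normalizer_of_centralizers
    (h : ∀ t : G, orderOf t = p → generalizedFittingSubgroup ↥(centralizer ({t} : Set G)) =
      pCore p ↥(centralizer ({t} : Set G)))
    {T : Subgroup G} (hT : IsPGroup p T) (hT1 : T ≠ ⊥) :
    generalizedFittingSubgroup ↥(normalizer (T : Set G)) = pCore p ↥(normalizer (T : Set G)) := by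
  have hne : (⊤ : Subgroup ↥T) ≠ ⊥ := by
    intro h0
    apply hT1
    rw [← range_subtype T, MonoidHom.range_eq_map, h0, Subgroup.map_bot]
  have hZ := CfsgLib.PGroups.inf_center_ne_bot hT hne
  obtain ⟨z, hz⟩ := exists_prime_orderOf_dvd_card' p
    (CfsgLib.PGroups.dvd_card_of_ne_bot hT hZ)
  rw [← Subgroup.orderOf_coe, ← Subgroup.orderOf_coe] at hz
  set t : G := ((z : ↥T) : G) with ht
  set C := centralizer ({t} : Set G) with hC
  have htT : ∀ u ∈ T, u * t = t * u := fun u hu =>
    congrArg Subtype.val (mem_center_iff.mp z.2.2 ⟨u, hu⟩)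
  have hTC : T ≤ C := fun u hu => mem_centralizer_singleton_iff.mpr (htT u hu)
  have hCTC : centralizer (T : Set G) ≤ C := fun u hu =>
    mem_centralizer_singleton_iff.mpr (mem_centralizer_iff.mp hu t z.1.2).symm
  refine fstar_normalizer_eq_pCore hT (R := (pCore p ↥C).map C.subtype)
    (isPGroup_map_pCore p C) (hTC.trans (le_normalizer_map_pCore C))
    (hCTC.trans (le_normalizer_map_pCore C)) fun q hqT hq => ?_
  refine ⟨⟨q, hCTC hqT⟩, ?_, rfl⟩
  exact fstar_eq_pCore_iff.mp (h t hz)
    (mem_centralizer_iff.mpr fun x hx => Subtype.ext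
      (mem_centralizer_iff.mp hq x ⟨x, hx, rfl⟩))

/-- A perfect subgroup of `N_G(P)` centralising `P` and `O_p(N_G(P))` centralises `O_p(G)`. -/
theorem le_centralizer_pCore_of_perfect {P K : Subgroup G} (hP : IsPGroup p P)
    (hK : ⁅K, K⁆ = K) (hKP : K ≤ centralizer (P : Set G))
    (hKO : K ≤ centralizer (((pCore p ↥(normalizer (P : Set G))).map
      (normalizer (P : Set G)).subtype : Subgroup G) : Set G)) :
    K ≤ centralizer (pCore p G : Set G) :=
  le_of_perfect_of_pPrime_elements hK fun q hq hcop =>
    mem_centralizer_of_pTimesQ hP (isPGroup_pCore p G) le_normalizer_of_normal hcop (hKP hq)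
      (le_normalizer_of_normal (mem_top q))
      fun x hx => mem_centralizer_singleton_iff.mpr (mem_centralizer_iff.mp (hKO hq) x
        (inf_centralizer_le_pCore_normalizer (isPGroup_pCore p G) le_normalizer_of_normal hx))

theorem le_pCore_normalizer {P : Subgroup G} (hP : IsPGroup p P) :
    P ≤ (pCore p ↥(normalizer (P : Set G))).map (normalizer (P : Set G)).subtype :=
  le_map_pCore le_normalizer le_rfl hP

/-- `E(N_G(P)) = E(G)` for `P ≤ O_p(G)`. -/
theorem map_layer_normalizer {P : Subgroup G} (hP : P ≤ pCore p G) :
    (layer ↥(normalizer (P : Set G))).map (normalizer (P : Set G)).subtype = layer G := by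
  set N := normalizer (P : Set G) with hN
  set R := pCore p G with hR
  have hPp : IsPGroup p P := (isPGroup_pCore p G).to_le hP
  have hCN : centralizer (R : Set G) ≤ N :=
    (centralizer_le hP).trans (centralizer_le_normalizer _)
  refine le_antisymm ?_ ?_
  · rw [map_le_iff_le_comap]
    refine layer_le_iff.mpr fun K hK => map_le_iff_le_comap.mp ?_
    have hsol : Group.IsSolvable ↥(pCore p ↥N) :=
      haveI := (isPGroup_pCore p ↥N).isNilpotent
      inferInstance
    have h1 := component_commutator_eq_bot_of_isSolvable hK
      ((inferInstance : (pCore p ↥N).Normal).isSubnormal) hsol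
    have h2 : K.map N.subtype ≤ centralizer (((pCore p ↥N).map N.subtype : Subgroup G) : Set G) := by
      rw [← commutator_eq_bot_iff_le_centralizer, ← map_commutator, h1, Subgroup.map_bot]
    have h3 : K.map N.subtype ≤ centralizer (R : Set G) :=
      le_centralizer_pCore_of_perfect hPp
        (by rw [← map_commutator, component_commutator_self hK])
        (h2.trans (centralizer_le (le_pCore_normalizer hPp))) h2
    have hC : (centralizer (R : Set G)).Normal := inferInstance
    have hcomp : IsComponent ((K.map N.subtype).subgroupOf (centralizer (R : Set G))) := by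
      have hKN : K.map N.subtype ≤ N := map_subtype_le _
      have h4 : IsComponent (((K.map N.subtype).subgroupOf N).subgroupOf
          ((centralizer (R : Set G)).subgroupOf N)) := by
        rw [map_subtype_subgroupOf_self]
        refine isComponent_subgroupOf ?_ hK
        intro x hx
        exact h3 ⟨x, hx, rfl⟩
      have h5 := isComponent_map_equiv (subgroupOfEquivOfLe hCN) h4
      have heq : (((K.map N.subtype).subgroupOf N).subgroupOf
          ((centralizer (R : Set G)).subgroupOf N)).map (subgroupOfEquivOfLe hCN).toMonoidHom =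
          (K.map N.subtype).subgroupOf (centralizer (R : Set G)) := by
        ext x
        rw [mem_subgroupOf]
        constructor
        · rintro ⟨y, hy, rfl⟩
          exact hy
        · intro hx
          exact ⟨⟨⟨x, hCN x.2⟩, x.2⟩, hx, rfl⟩
      rwa [heq] at h5
    exact component_le_layer (isComponent_of_subgroupOf h3 hC.isSubnormal hcomp)
  · refine layer_le_iff.mpr fun L hL => le_layer_map_subtype hL ?_
    exact ((component_le_centralizer_fitting hL).trans
      (centralizer_le (pCore_le_fittingSubgroup p G))).trans hCN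

/-- The `p`-layer commutes with `O_p`. -/
theorem pLayer_le_centralizer_pCore : pLayer p G ≤ centralizer (pCore p G : Set G) := by
  refine pLayer_le_iff.mpr fun K hK => ?_
  rw [← commutator_eq_bot_iff_le_centralizer, eq_bot_iff, ← pCore_inf_pPrimeCore p G]
  refine le_inf (commutator_le_right _ _) ?_
  rw [← map_mk'_eq_bot_iff, map_commutator]
  have hsol : Group.IsSolvable ↥((pCore p G).map (QuotientGroup.mk' (pPrimeCore p G))) :=
    haveI := ((isPGroup_pCore p G).map (QuotientGroup.mk' (pPrimeCore p G))).isNilpotent
    inferInstance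
  exact component_commutator_eq_bot_of_isSolvable hK.2.1
    ((inferInstance : (pCore p G).Normal).map _ (QuotientGroup.mk'_surjective _)).isSubnormal hsol

/-- The preimage in `N_G(P)` of `E(N_G(P) ⧸ O_{p'})` centralises `O_p(G)`. -/
theorem layer_preimage_le_centralizer_pCore {P : Subgroup G} (hP : IsPGroup p P) :
    ((layer (↥(normalizer (P : Set G)) ⧸ pPrimeCore p ↥(normalizer (P : Set G)))).comap
      (QuotientGroup.mk' (pPrimeCore p ↥(normalizer (P : Set G))))).map
        (normalizer (P : Set G)).subtype ≤ centralizer (pCore p G : Set G) := by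
  set N := normalizer (P : Set G) with hN
  rw [← map_pLayer, comap_map_mk', Subgroup.map_sup]
  refine sup_le ?_ ?_
  · rw [map_le_iff_le_comap]
    refine pLayer_le_iff.mpr fun K hK => map_le_iff_le_comap.mp ?_
    have h2 : K.map N.subtype ≤
        centralizer (((pCore p ↥N).map N.subtype : Subgroup G) : Set G) := by
      rw [← commutator_eq_bot_iff_le_centralizer, ← map_commutator,
        (commutator_eq_bot_iff_le_centralizer.mpr
          ((pComponent_le_pLayer hK).trans pLayer_le_centralizer_pCore)), Subgroup.map_bot]
    exact le_centralizer_pCore_of_perfect hP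
      (by rw [← map_commutator, pComponent_commutator_self hK])
      (h2.trans (centralizer_le (le_pCore_normalizer hP))) h2
  · have h2 : (pPrimeCore p ↥N).map N.subtype ≤
        centralizer (((pCore p ↥N).map N.subtype : Subgroup G) : Set G) := by
      rw [← commutator_eq_bot_iff_le_centralizer, ← map_commutator,
        commutator_eq_bot_iff_le_centralizer.mpr
          (le_centralizer_iff.mp (pCore_le_centralizer_pPrimeCore p ↥N)), Subgroup.map_bot]
    refine le_centralizer_of_pTimesQ hP (isPGroup_pCore p G) le_normalizer_of_normal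
      (coprime_card_map_pPrimeCore N) (h2.trans (centralizer_le (le_pCore_normalizer hP)))
      le_normalizer_of_normal (h2.trans (centralizer_le ?_))
    exact inf_centralizer_le_pCore_normalizer (isPGroup_pCore p G) le_normalizer_of_normal

end CfsgLib.Components
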