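import Cfsg.Agent.Lib.Components.Balance
import Cfsg.Agent.Lib.Components.LocalLayer
import Cfsg.Agent.Lib.Components.FStar
import Cfsg.Agent.Lib.Base.MinimalNormal
import Cfsg.Prelude.Def_KGroupFacts

/-!
# `L_{p'}`-balance under the Schreier property
-/

set_option autoImplicit false
set_option linter.style.haveILetI false

namespace CfsgLib.Components

open Subgroup Cfsg CfsgLib.Base
open scoped commutatorElement

universe u
variable {G : Type u} [Group G] [Finite G] {p : ℕ} [Fact p.Prime]

theorem perfect_hom_to_solvable {K S : Type*} [Group K] [Group S] [Group.IsSolvable S]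
    (hK : commutator K = ⊤) (f : K →* S) : f = 1 := by
  have h : ⁅f.range, f.range⁆ = f.range := by
    conv_rhs => rw [MonoidHom.range_eq_map, ← hK]
    rw [_root_.commutator_def, map_commutator, ← MonoidHom.range_eq_map]
  have hder : ∀ n, f.range ≤ derivedSeries S n := fun n => by
    induction n with
    | zero => exact le_top
    | succ n ih => rw [derivedSeries_succ, ← h]; exact commutator_mono ih ih
  obtain ⟨n, hn⟩ := (Group.isSolvable_def S).1 inferInstance
  ext x
  exact mem_bot.1 ((hn ▸ hder n) ⟨x, rfl⟩)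

/-- An automorphism trivial modulo the centre of a perfect group is trivial. -/
theorem eq_self_of_mod_center {L : Type*} [Group L] (hL : commutator L = ⊤) (φ : MulAut L)
    (h : ∀ a, φ a * a⁻¹ ∈ center L) (a : L) : φ a = a := by
  let f : L →* center L := MonoidHom.mk' (fun a => ⟨φ a * a⁻¹, h a⟩) fun a b => Subtype.ext (by
    show φ (a * b) * (a * b)⁻¹ = φ a * a⁻¹ * (φ b * b⁻¹)
    rw [map_mul, mul_inv_rev]
    calc φ a * φ b * (b⁻¹ * a⁻¹) = φ a * ((φ b * b⁻¹) * a⁻¹) := by group
      _ = φ a * (a⁻¹ * (φ b * b⁻¹)) := by rw [(mem_center_iff.1 (h b) a⁻¹)]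
      _ = _ := by group)
  haveI : Group.IsSolvable (center L) :=
    Group.isSolvable_of_comm fun a b => Subtype.ext ((mem_center_iff.1 b.2) a)
  have := congrArg Subtype.val (DFunLike.congr_fun (perfect_hom_to_solvable hL f) a)
  exact mul_inv_eq_one.1 this

/-- A perfect subgroup normalising a component induces inner automorphisms on it, if the outer
automorphism group of its simple quotient is solvable. -/
theorem le_sup_centralizer_of_perfect {K L : Subgroup G} (hK : ⁅K, K⁆ = K)
    (hL : IsComponent L) (hS : Group.IsSolvable (Out (↥L ⧸ center ↥L)))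
    (hKL : K ≤ normalizer (L : Set G)) : K ≤ L ⊔ centralizer (L : Set G) := by
  let α : K →* MulAut L := L.normalizerMonoidHom.comp (inclusion hKL)
  let β : K →* MulAut (L ⧸ center L) :=
    { toFun := fun k => QuotientGroup.congr (center L) (center L) (α k)
        (characteristic_iff_map_eq.1 inferInstance (α k))
      map_one' := by
        refine MulEquiv.ext fun v => ?_
        induction v using QuotientGroup.induction_on with | _ x => ?_
        show QuotientGroup.mk ((α 1) x) = _
        rw [map_one]; rfl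
      map_mul' := fun a b => by
        refine MulEquiv.ext fun v => ?_
        induction v using QuotientGroup.induction_on with | _ x => ?_
        show QuotientGroup.mk ((α (a * b)) x) = _
        rw [map_mul]; rfl }
  have hKp : commutator K = ⊤ := by
    rw [eq_top_iff, ← map_le_map_iff_of_injective K.subtype_injective, _root_.commutator_def,
      map_commutator, ← MonoidHom.range_eq_map, range_subtype, hK]
  haveI := hS
  have h1 := perfect_hom_to_solvable hKp ((QuotientGroup.mk' (Inn (↥L ⧸ center ↥L))).comp β)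
  intro k hk
  have hin : β ⟨k, hk⟩ ∈ Inn (↥L ⧸ center ↥L) := by
    have h := DFunLike.congr_fun h1 ⟨k, hk⟩
    rw [MonoidHom.comp_apply, MonoidHom.one_apply, ← MonoidHom.mem_ker, QuotientGroup.ker_mk'] at h
    exact h
  obtain ⟨lb, hlb⟩ := hin
  obtain ⟨l, rfl⟩ := QuotientGroup.mk'_surjective (center L) lb
  have hc : (l : G)⁻¹ * k ∈ centralizer (L : Set G) := by
    have hn : (l : G)⁻¹ * k ∈ normalizer (L : Set G) :=
      mul_mem (inv_mem (le_normalizer l.2)) (hKL hk)
    have hφ := eq_self_of_mod_center (hL.2.1).commutator_eq_top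
      (L.normalizerMonoidHom ⟨_, hn⟩) fun a => by
      rw [← QuotientGroup.eq_one_iff, QuotientGroup.mk_mul, QuotientGroup.mk_inv, mul_inv_eq_one]
      have e : (L.normalizerMonoidHom ⟨_, hn⟩) a = l⁻¹ * (α ⟨k, hk⟩ a) * l := by
        apply Subtype.ext
        show (l : G)⁻¹ * k * a * ((l : G)⁻¹ * k)⁻¹ = (l : G)⁻¹ * (k * a * k⁻¹) * l
        group
      rw [e, QuotientGroup.mk_mul, QuotientGroup.mk_mul, QuotientGroup.mk_inv]
      have e2 : ((α ⟨k, hk⟩ a : L) : L ⧸ center L) = (l : L ⧸ center L) * a * (l : L ⧸ center L)⁻¹ :=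
        (DFunLike.congr_fun hlb (a : L ⧸ center L)).symm
      rw [e2]; group
    refine mem_centralizer_iff.2 fun a ha => ?_
    have h2 : (l : G)⁻¹ * k * a * ((l : G)⁻¹ * k)⁻¹ = a := congrArg Subtype.val (hφ ⟨a, ha⟩)
    exact (mul_inv_eq_iff_eq_mul.1 h2).symm
  rw [← mul_inv_cancel_left (l : G) k]
  exact mul_mem (mem_sup_left l.2) (mem_sup_right hc)

/-- A perfect subgroup normalising every component and centralising `O_p(G)` lies in `E(G)`. -/
theorem le_layer_of_perfect (hO : pPrimeCore p G = ⊥)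
    (hS : ∀ L : Subgroup G, IsComponent L → Group.IsSolvable (Out (↥L ⧸ center ↥L)))
    {K : Subgroup G} (hK : ⁅K, K⁆ = K)
    (hn : ∀ L : Subgroup G, IsComponent L → K ≤ normalizer (L : Set G))
    (hc : K ≤ centralizer (pCore p G : Set G)) : K ≤ layer G := by
  classical
  haveI := layer_normal (G := G)
  have key : ∀ (S : Finset (Subgroup G)), (∀ L ∈ S, IsComponent L) → ∀ k ∈ K,
      ∃ e ∈ layer G, ∀ L ∈ S, e⁻¹ * k ∈ centralizer (L : Set G) := by
    intro S
    induction S using Finset.induction_on with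
    | empty => exact fun _ k _ => ⟨1, one_mem _, by simp⟩
    | @insert L₀ S hnot ih =>
      intro hSc k hk
      obtain ⟨e, he, hec⟩ := ih (fun L hL => hSc L (Finset.mem_insert_of_mem hL)) k hk
      have hL₀ := hSc L₀ (Finset.mem_insert_self _ _)
      have hlay : layer G ≤ L₀ ⊔ centralizer (L₀ : Set G) := layer_le_iff.2 fun L hL => by
        by_cases h : L = L₀
        · exact h ▸ le_sup_left
        · exact le_sup_of_le_right (commutator_eq_bot_iff_le_centralizer.1 (components_commute hL hL₀ h))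
      have hck : e⁻¹ * k ∈ L₀ ⊔ centralizer (L₀ : Set G) :=
        mul_mem (inv_mem (hlay he)) (le_sup_centralizer_of_perfect hK hL₀ (hS L₀ hL₀) (hn L₀ hL₀) hk)
      rw [← SetLike.mem_coe,
        coe_mul_of_right_le_normalizer_left L₀ _ (centralizer_le_normalizer _)] at hck
      obtain ⟨l, hl, c, hcm, hlc⟩ := hck
      refine ⟨e * l, mul_mem he (component_le_layer hL₀ hl), fun L hL => ?_⟩
      have e1 : (e * l)⁻¹ * k = l⁻¹ * (e⁻¹ * k) := by group
      rcases Finset.mem_insert.1 hL with rfl | hLS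
      · rw [e1, ← hlc]
        simpa using hcm
      · rw [e1]
        have hne : L₀ ≠ L := fun h => hnot (h ▸ hLS)
        exact mul_mem (inv_mem ((commutator_eq_bot_iff_le_centralizer.1
          (components_commute hL₀ (hSc L (Finset.mem_insert_of_mem hLS)) hne)) hl)) (hec L hLS)
  have hle : K ≤ layer G ⊔ fittingSubgroup G := by
    intro k hk
    haveI : Fintype (Subgroup G) := Fintype.ofFinite _
    obtain ⟨e, he, hec⟩ := key (Finset.univ.filter fun L => IsComponent L) (by simp) k hk
    have h1 : layer G ≤ centralizer ({e⁻¹ * k} : Set G) := layer_le_iff.2 fun L hL a ha =>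
      mem_centralizer_singleton_iff.2 (mem_centralizer_iff.1 (hec L (by simp [hL])) a ha)
    have h2 : fittingSubgroup G ≤ centralizer ({e⁻¹ * k} : Set G) := fun a ha =>
      mem_centralizer_singleton_iff.2 (mem_centralizer_iff.1
        (mul_mem (inv_mem (layer_le_centralizer_fitting he))
          (show k ∈ centralizer (fittingSubgroup G : Set G) by
            rw [fittingSubgroup_eq_pCore_of_pPrimeCore_eq_bot hO]; exact hc hk)) a ha)
    have h3 : e⁻¹ * k ∈ fittingSubgroup G := centralizer_fstar_le_fitting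
      (mem_centralizer_iff.2 fun a ha => mem_centralizer_singleton_iff.1
        ((sup_le h1 h2 : generalizedFittingSubgroup G ≤ _) ha))
    rw [← mul_inv_cancel_left e k]
    exact mul_mem (mem_sup_left he) (mem_sup_right h3)
  -- a perfect group has trivial image in the solvable quotient
  haveI : (fittingSubgroup G).Normal := inferInstance
  have hsol : Group.IsSolvable ↥((fittingSubgroup G).map (QuotientGroup.mk' (layer G))) :=
    haveI := isSolvable_fitting (G := G)
    Group.isSolvable_of_surjective ((QuotientGroup.mk' (layer G)).subgroupMap_surjective _)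
  have hKp : commutator K = ⊤ := by
    rw [eq_top_iff, ← map_le_map_iff_of_injective K.subtype_injective, _root_.commutator_def,
      map_commutator, ← MonoidHom.range_eq_map, range_subtype, hK]
  have hmem : ∀ k : K, QuotientGroup.mk' (layer G) k ∈
      (fittingSubgroup G).map (QuotientGroup.mk' (layer G)) := fun k => by
    obtain ⟨a, ha, b, hb, hab⟩ := mem_sup_of_normal_left.1 (hle k.2)
    refine ⟨b, hb, ?_⟩
    rw [← hab, map_mul, show QuotientGroup.mk' (layer G) a = 1 from (QuotientGroup.eq_one_iff a).2 ha,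
      one_mul]
  have hone := perfect_hom_to_solvable hKp
    (((QuotientGroup.mk' (layer G)).comp K.subtype).codRestrict _ hmem)
  intro k hk
  have h := congrArg Subtype.val (DFunLike.congr_fun hone ⟨k, hk⟩)
  exact (QuotientGroup.eq_one_iff k).1 h

/-- The normaliser of a `p`-subgroup maps onto the normaliser of its image modulo a `p'`-group. -/
theorem map_normalizer_of_coprime {O R : Subgroup G} [O.Normal] (hO : (Nat.card O).Coprime p)
    (hR : IsPGroup p R) :
    (normalizer (R : Set G)).map (QuotientGroup.mk' O) =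
      normalizer ((R.map (QuotientGroup.mk' O) : Subgroup (G ⧸ O)) : Set (G ⧸ O)) := by
  refine le_antisymm (le_normalizer_map _) fun y hy => ?_
  obtain ⟨x, rfl⟩ := QuotientGroup.mk'_surjective O y
  set φ := QuotientGroup.mk' O
  set M := (R.map φ).comap φ with hM
  have hRM : R ≤ M := le_comap_map _ _
  have hdisj : ∀ {S : Subgroup G}, IsPGroup p S → ∀ s ∈ S, s ∈ O → s = 1 := fun {S} hS s hs hsO => by
    obtain ⟨k, hk⟩ := hS ⟨s, hs⟩
    have h1 : orderOf s ∣ p ^ k := orderOf_dvd_of_pow_eq_one (congrArg Subtype.val hk)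
    have h2 : orderOf s ∣ Nat.card O := by
      rw [show orderOf s = orderOf (⟨s, hsO⟩ : O) from Subgroup.orderOf_coe ⟨s, hsO⟩]
      exact orderOf_dvd_natCard _
    exact orderOf_eq_one_iff.1 (Nat.eq_one_of_dvd_coprimes ((hO.symm.pow_left k)) h1 h2)
  have hmax : ∀ R' : Subgroup G, IsPGroup p R' → R'.map φ = R.map φ →
      ∀ Q : Subgroup M, IsPGroup p Q → R'.subgroupOf M ≤ Q → Q = R'.subgroupOf M := by
    intro R' hR' hmap Q hQ hle
    refine le_antisymm (fun q hq => ?_) hle
    have hq2 : φ (q : G) ∈ R'.map φ := hmap.symm ▸ q.2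
    obtain ⟨r, hr, hrq⟩ := hq2
    have hrM : r ∈ M := by show φ r ∈ R.map φ; rw [hrq]; exact q.2
    have hrQ : (⟨r, hrM⟩ : M) ∈ Q := hle hr
    have hone := hdisj (hQ.map M.subtype) (r⁻¹ * (q : G))
      ⟨(⟨r, hrM⟩ : M)⁻¹ * q, mul_mem (inv_mem hrQ) hq, rfl⟩ ((QuotientGroup.eq).1 hrq)
    show (q : G) ∈ R'
    rw [← inv_mul_eq_one.1 hone]
    exact hr
  set R₁ := R.map (MulAut.conj x).toMonoidHom with hR₁
  have hR₁map : R₁.map φ = R.map φ := by
    rw [hR₁, Subgroup.map_map]
    have e : φ.comp (MulAut.conj x).toMonoidHom = (MulAut.conj (φ x)).toMonoidHom.comp φ := by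
      ext z; simp
    rw [e, ← Subgroup.map_map]
    exact mem_normalizer_iff_map_conj_eq.1 hy
  have hR₁M : R₁ ≤ M := fun r hr => show φ r ∈ R.map φ from hR₁map ▸ mem_map_of_mem φ hr
  let S₁ : Sylow p M := ⟨R.subgroupOf M, hR.comap_of_injective _ M.subtype_injective,
    fun {Q} hQ hle => hmax R hR rfl Q hQ hle⟩
  let S₂ : Sylow p M := ⟨R₁.subgroupOf M, (hR.map _).comap_of_injective _ M.subtype_injective,
    fun {Q} hQ hle => hmax R₁ (hR.map _) hR₁map Q hQ hle⟩
  obtain ⟨m, hm⟩ := MulAction.exists_smul_eq M S₂ S₁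
  have hnm : (m : G) * x ∈ normalizer (R : Set G) := by
    refine mem_normalizer_iff_map_conj_eq.2 (eq_of_le_of_card_ge ?_ ?_)
    · rintro _ ⟨r, hr, rfl⟩
      have h1 : m * ⟨x * r * x⁻¹, hR₁M ⟨r, hr, rfl⟩⟩ * m⁻¹ ∈ ((m • S₂ : Sylow p M) : Subgroup M) := by
        rw [Sylow.coe_subgroup_smul]
        exact ⟨⟨x * r * x⁻¹, hR₁M ⟨r, hr, rfl⟩⟩, show x * r * x⁻¹ ∈ R₁ from ⟨r, hr, rfl⟩, rfl⟩
      rw [hm] at h1
      have h2 : (m : G) * (x * r * x⁻¹) * (m : G)⁻¹ ∈ R := h1
      simpa [mul_assoc] using h2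
    · exact (Subgroup.card_map_of_injective (MulAut.conj ((m : G) * x)).injective).ge
  obtain ⟨r, hr, hrm⟩ := (m.2 : φ (m : G) ∈ R.map φ)
  refine ⟨r⁻¹ * ((m : G) * x), mul_mem (inv_mem (le_normalizer hr)) hnm, ?_⟩
  rw [map_mul, map_inv, map_mul, hrm, inv_mul_cancel_left]

/-- `L_{p'}`-balance. -/
theorem map_pLayer_normalizer_le
    (hS : ∀ K : Subgroup (G ⧸ pPrimeCore p G), IsComponent K →
      Group.IsSolvable (Out (↥K ⧸ center ↥K)))
    (R : Subgroup G) (hR : IsPGroup p R) :
    (pLayer p ↥(normalizer (R : Set G))).map (normalizer (R : Set G)).subtype ≤ pLayer p G := by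
  set O := pPrimeCore p G
  set φ := QuotientGroup.mk' O with hφ
  set N := normalizer (R : Set G) with hN
  set Nb := normalizer ((R.map φ : Subgroup (G ⧸ O)) : Set (G ⧸ O)) with hNb
  have hmap : N.map φ = Nb := map_normalizer_of_coprime (pPrimeCore_coprime p G) hR
  let g : N →* Nb := (φ.comp N.subtype).codRestrict Nb fun n => hmap ▸ ⟨n, n.2, rfl⟩
  have hg : Function.Surjective g := fun ⟨y, hy⟩ => by
    obtain ⟨n, hn, hny⟩ := hmap.symm ▸ hy
    exact ⟨⟨n, hn⟩, Subtype.ext hny⟩
  have hOq : pPrimeCore p (G ⧸ O) = ⊥ := pPrimeCore_quotient_pPrimeCore p G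
  rw [map_le_iff_le_comap]
  refine pLayer_le_iff.2 fun K hK => map_le_iff_le_comap.1 ?_
  set Kb := (K.map N.subtype).map φ with hKb
  have hKeq : Kb = (K.map g).map Nb.subtype := by
    rw [hKb, Subgroup.map_map, Subgroup.map_map]
    congr 1
  have hpre : Kb ≤ ((layer (↥Nb ⧸ pPrimeCore p ↥Nb)).comap (QuotientGroup.mk' (pPrimeCore p ↥Nb))).map
      Nb.subtype := by
    rw [hKeq]
    refine map_mono (map_le_iff_le_comap.1 ?_)
    have hle : pPrimeCore p ↥N ≤ ((QuotientGroup.mk' (pPrimeCore p ↥Nb)).comp g).ker := fun n hn =>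
      (QuotientGroup.eq_one_iff _).2 (map_pPrimeCore_le g hg ⟨n, hn, rfl⟩)
    let gb : ↥N ⧸ pPrimeCore p ↥N →* ↥Nb ⧸ pPrimeCore p ↥Nb := QuotientGroup.lift _ _ hle
    have hgb : Function.Surjective gb := QuotientGroup.lift_surjective_of_surjective _
      ((QuotientGroup.mk' (pPrimeCore p ↥Nb)).comp g) ((QuotientGroup.mk'_surjective _).comp hg) hle
    have e : (K.map g).map (QuotientGroup.mk' (pPrimeCore p ↥Nb)) =
        (K.map (QuotientGroup.mk' (pPrimeCore p ↥N))).map gb := by
      rw [Subgroup.map_map, Subgroup.map_map]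
      congr 1
    rw [e]
    by_cases hb : (K.map (QuotientGroup.mk' (pPrimeCore p ↥N))).map gb = ⊥
    · rw [hb]; exact bot_le
    · haveI := (nontrivial_iff_ne_bot _).mpr hb
      exact component_le_layer ⟨hK.2.1.1.map hgb,
        isQuasisimple_of_surjective hK.2.1.2 (gb.subgroupMap _) (gb.subgroupMap_surjective _)⟩
  have hperf : ⁅Kb, Kb⁆ = Kb := by
    rw [hKb, ← map_commutator, ← map_commutator, pComponent_commutator_self hK]
  have hKl : Kb ≤ layer (G ⧸ O) := le_layer_of_perfect hOq hS hperf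
    (fun L hL => hpre.trans (layer_preimage_le_normalizer hOq (hR.map φ) hL))
    (hpre.trans (layer_preimage_le_centralizer_pCore (hR.map φ)))
  -- back in `G`
  rw [← map_pLayer (p := p) (G := G), hKb, Subgroup.map_le_iff_le_comap, comap_map_eq] at hKl
  have hpl : (pLayer p G).Normal := by
    have : (pLayer p G).Characteristic :=
      characteristic_iff_map_eq.2 fun e => pLayer_map_equiv e
    infer_instance
  rw [← pGenerated_pComponent hK]
  refine (map_pGenerated_le N.subtype K).trans ?_
  unfold pGenerated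
  refine iSup_le ?_
  rintro ⟨Q, hQ⟩ q hq
  obtain ⟨a, ha, b, hb, hab⟩ := mem_sup_of_normal_left.1 (hKl (hQ.1 hq))
  rw [QuotientGroup.ker_mk'] at hb
  have hb2 : φ q ∈ (pLayer p G).map φ := ⟨a, ha, by
    rw [← hab, map_mul, show φ b = 1 from (QuotientGroup.eq_one_iff b).2 hb, mul_one]⟩
  -- the quotient of `pLayer ⊔ O` by the `p`-layer is a `p'`-group
  obtain ⟨k, hk⟩ := hQ.2 ⟨q, hq⟩
  have hk' : q ^ p ^ k = 1 := congrArg Subtype.val hk
  haveI := hpl
  set ψ := QuotientGroup.mk' (pLayer p G)
  have hψ : ψ q = ψ b := by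
    rw [← hab, map_mul, show ψ a = 1 from (QuotientGroup.eq_one_iff a).2 ha, one_mul]
  have h1 : orderOf (ψ q) ∣ p ^ k := orderOf_dvd_of_pow_eq_one (by rw [← map_pow, hk', map_one])
  have h2 : orderOf (ψ q) ∣ Nat.card O := by
    rw [hψ]
    refine (orderOf_map_dvd ψ b).trans ?_
    rw [show orderOf b = orderOf (⟨b, hb⟩ : O) from Subgroup.orderOf_coe ⟨b, hb⟩]
    exact orderOf_dvd_natCard _
  exact (QuotientGroup.eq_one_iff q).1 (orderOf_eq_one_iff.1
    (Nat.eq_one_of_dvd_coprimes ((pPrimeCore_coprime p G).symm.pow_left k) h1 h2))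

end CfsgLib.Components
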