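import Cfsg.Agent.Lib.Components.LocalBalance
import Cfsg.Agent.Lib.Components.SchreierBalance

/-!
Local balance passes from the central quotient of a perfect group to the group.
-/

set_option autoImplicit false
set_option linter.style.haveILetI false

namespace CfsgLib.Components

open Subgroup Cfsg CfsgLib.Base

universe u

variable {p k : ℕ} [Fact p.Prime]

theorem map_centralizerPPrimeCore_le {X Y : Type*} [Group X] [Finite X] [Group Y] (e : X ≃* Y) (x : X) :
    (centralizerPPrimeCore p x).map e.toMonoidHom ≤ centralizerPPrimeCore p (e x) := by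
  haveI : Finite Y := Finite.of_equiv X e.toEquiv
  refine le_map_pPrimeCore ?_ ?_ ?_
  · rintro _ ⟨y, hy, rfl⟩
    exact mem_centralizer_singleton_iff.2 (by
      show e y * e x = e x * e y
      rw [← map_mul, ← map_mul, mem_centralizer_singleton_iff.1 (map_subtype_le _ hy)])
  · intro q hq
    obtain ⟨g, rfl⟩ := e.surjective q
    refine le_normalizer_map e.toMonoidHom ⟨g, le_normalizer_map_pPrimeCore _ ?_, rfl⟩
    refine mem_centralizer_singleton_iff.2 (e.injective ?_)
    rw [map_mul, map_mul]
    exact mem_centralizer_singleton_iff.1 hq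
  · rw [Subgroup.card_map_of_injective e.injective]
    exact coprime_card_map_pPrimeCore _

theorem isLocallyKBalanced_of_center_quotient {L : Type u} [Group L] [Finite L]
    (hL : commutator L = ⊤) (h : IsLocallyKBalanced p k (L ⧸ center L)) :
    IsLocallyKBalanced p k L := by
  intro H hH A hA hcard
  let Φ : MulAut L →* MulAut (L ⧸ center L) :=
    { toFun := fun φ => QuotientGroup.congr (center L) (center L) φ
        (characteristic_iff_map_eq.1 inferInstance φ)
      map_one' := by
        refine MulEquiv.ext fun v => ?_
        induction v using QuotientGroup.induction_on with | _ x => ?_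
        rfl
      map_mul' := fun a b => by
        refine MulEquiv.ext fun v => ?_
        induction v using QuotientGroup.induction_on with | _ x => ?_
        rfl }
  have hΦ : Function.Injective Φ := by
    refine (injective_iff_map_eq_one Φ).2 fun φ hφ => MulEquiv.ext fun a => ?_
    refine eq_self_of_mod_center hL φ (fun b => ?_) a
    rw [← QuotientGroup.eq_one_iff, QuotientGroup.mk_mul, QuotientGroup.mk_inv, mul_inv_eq_one]
    exact DFunLike.congr_fun hφ (b : L ⧸ center L)
  let e := H.equivMapOfInjective Φ hΦ
  have hH' : (MulAut.conj : L ⧸ center L →* MulAut (L ⧸ center L)).range ≤ H.map Φ := by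
    rintro _ ⟨v, rfl⟩
    induction v using QuotientGroup.induction_on with | _ x => ?_
    refine ⟨MulAut.conj x, hH ⟨x, rfl⟩, MulEquiv.ext fun v => ?_⟩
    induction v using QuotientGroup.induction_on with | _ y => ?_
    rfl
  have hb := h (H.map Φ) hH' (A.map e.toMonoidHom) (isElementaryAbelian_map _ hA)
    (by rw [Subgroup.card_map_of_injective e.injective, hcard])
  rw [eq_bot_iff]
  intro y hy
  rw [mem_bot]
  refine e.injective ((mem_bot.1 (hb ▸ ?_ : e y ∈ (⊥ : Subgroup _))).trans (map_one e).symm)
  rw [signalizerDelta, mem_iInf]
  rintro ⟨_, ⟨a, ha, rfl⟩, ha1⟩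
  exact map_centralizerPPrimeCore_le e a ⟨y, signalizerDelta_le ha
    (fun h1 => ha1 (by rw [h1, map_one])) hy, rfl⟩

end CfsgLib.Components
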