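import Mathlib
import Cfsg.Agent.Lib.Components.LocalLayer
import Cfsg.Agent.Lib.PLocal.Constrained

/-!
# `p`-constraint and the `p`-layer
-/

set_option autoImplicit false
set_option linter.style.haveILetI false
set_option linter.unusedSectionVars false

namespace CfsgLib.Components

open Cfsg Subgroup CfsgLib.Base

universe u

variable {G : Type u} [Group G] [Finite G] {p : ℕ} [Fact p.Prime]

theorem fitting_eq_pCore_of_pPrimeCore_eq_bot (hO : pPrimeCore p G = ⊥) :
    fittingSubgroup G = pCore p G := by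
  refine le_antisymm ?_ (pCore_le_fittingSubgroup p G)
  rw [fittingSubgroup_eq_iSup_pCore]
  refine iSup_le fun q => ?_
  by_cases hqp : (q : ℕ) = p
  · rw [hqp]
  · haveI := Fact.mk q.2
    obtain ⟨n, hn⟩ := pCore_eq_pow_card (q : ℕ) G
    refine le_trans (le_of_le_of_eq (le_pPrimeCore (p := p) ?_) hO) bot_le
    rw [hn]
    exact ((Nat.coprime_primes q.2 (Fact.out : p.Prime)).mpr hqp).pow_left n

theorem centralizer_pCore_le_iff_layer (hO : pPrimeCore p G = ⊥) :
    centralizer (pCore p G : Set G) ≤ pCore p G ↔ layer G = ⊥ := by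
  rw [← centralizer_fitting_le_iff, fitting_eq_pCore_of_pPrimeCore_eq_bot hO]

theorem fstar_eq_pCore_iff_layer :
    generalizedFittingSubgroup G = pCore p G ↔ layer G = ⊥ ∧ pPrimeCore p G = ⊥ := by
  constructor
  · intro h
    have hC := fstar_eq_pCore_iff.mp h
    have hO : pPrimeCore p G = ⊥ := by
      rw [eq_bot_iff]
      exact (le_inf ((le_centralizer_iff.mp (pCore_le_centralizer_pPrimeCore p G)).trans hC)
        le_rfl).trans (pCore_inf_pPrimeCore p G).le
    exact ⟨(centralizer_pCore_le_iff_layer hO).mp hC, hO⟩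
  · rintro ⟨hL, hO⟩
    rw [generalizedFittingSubgroup, hL, bot_sup_eq, fitting_eq_pCore_of_pPrimeCore_eq_bot hO]

theorem isPConstrained_iff_pLayer : IsPConstrained p G ↔ pLayer p G = ⊥ := by
  rw [PLocal.isPConstrained_iff, pLayer_eq_bot_iff,
    centralizer_pCore_le_iff_layer (pPrimeCore_quotient_pPrimeCore p G)]

theorem pLayer_normalizer_eq_bot (hL : pLayer p G = ⊥) {P : Subgroup G} (hP : IsPGroup p P) :
    pLayer p ↥(normalizer (P : Set G)) = ⊥ :=
  isPConstrained_iff_pLayer.mp
    (PLocal.isPConstrained_normalizer (isPConstrained_iff_pLayer.mpr hL) hP)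

theorem map_pPrimeCore_normalizer_le (hL : pLayer p G = ⊥) {P : Subgroup G} (hP : IsPGroup p P) :
    (pPrimeCore p ↥(normalizer (P : Set G))).map (normalizer (P : Set G)).subtype ≤
      pPrimeCore p G := by
  rw [PLocal.map_pPrimeCore_normalizer (isPConstrained_iff_pLayer.mpr hL) hP]
  exact inf_le_left

end CfsgLib.Components
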