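import Mathlib
import Cfsg.Agent.Lib.Components.Basic
import Cfsg.Agent.Lib.Components.FStar
import Cfsg.Agent.Lib.Base.Cores
import Cfsg.Agent.Lib.Base.Fitting
import Cfsg.Agent.Lib.PLocal.Constrained

/-!
# Bender's maximal subgroup theorem
-/

set_option autoImplicit false
set_option linter.style.haveILetI false
set_option linter.unusedSectionVars false

open scoped commutatorElement Pointwise

namespace CfsgLib.Components

open Cfsg Subgroup CfsgLib.Base

variable {G : Type*} [Group G]

theorem isComponent_subgroupOf_of_le {L D M : Subgroup G} (hLD : L ≤ D) (hDM : D ≤ M)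
    (hL : IsComponent (L.subgroupOf M)) : IsComponent (L.subgroupOf D) := by
  refine ⟨?_, isQuasisimple_of_mulEquiv
    ((subgroupOfEquivOfLe (hLD.trans hDM)).trans (subgroupOfEquivOfLe hLD).symm) hL.2⟩
  have h := (hL.1.subgroupOf (K := D.subgroupOf M))
  have h2 := isSubnormal_map_equiv (subgroupOfEquivOfLe hDM) h
  convert h2 using 1
  ext x
  rw [Subgroup.mem_map_equiv, mem_subgroupOf, mem_subgroupOf, mem_subgroupOf]
  rfl

theorem pGroup_le_pCore_of_le_fitting [Finite G] {q : ℕ} [Fact q.Prime] {P : Subgroup G}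
    (hP : IsPGroup q P) (hPF : P ≤ fittingSubgroup G) : P ≤ pCore q G := by
  haveI := isNilpotent_fittingSubgroup G
  obtain ⟨S, hS⟩ := (hP.comap_of_injective (fittingSubgroup G).subtype
    (fittingSubgroup G).subtype_injective).exists_le_sylow
  haveI : (S : Subgroup (fittingSubgroup G)).Normal := inferInstance
  rw [← map_pCore_fittingSubgroup q G]
  exact fun x hx => ⟨⟨x, hPF hx⟩, le_pCore S.isPGroup' (hS hx), rfl⟩

theorem subgroupOf_le_normalizer {X Y : Subgroup G} (M : Subgroup G)
    (h : X ≤ normalizer (Y : Set G)) :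
    X.subgroupOf M ≤ normalizer ((Y.subgroupOf M : Subgroup M) : Set M) := by
  intro x hx
  rw [mem_normalizer_iff]
  intro y
  simpa [mem_subgroupOf] using mem_normalizer_iff.mp (h (mem_subgroupOf.mp hx)) (y : G)

theorem le_normalizer_of_conj_mem {X Y : Subgroup G} (h : ∀ x ∈ X, ∀ y ∈ Y, x * y * x⁻¹ ∈ Y) :
    X ≤ normalizer (Y : Set G) := by
  intro x hx
  rw [mem_normalizer_iff]
  refine fun y => ⟨h x hx y, fun hy => ?_⟩
  have := h x⁻¹ (inv_mem hx) _ hy
  simpa [mul_assoc] using this

variable [Finite G]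

/-- `O_q(M)` as a subgroup of the ambient group. -/
abbrev coreOf (q : ℕ) (M : Subgroup G) : Subgroup G := (pCore q M).map M.subtype

/-- The Fitting subgroup of `M` as a subgroup of the ambient group. -/
abbrev fitOf (M : Subgroup G) : Subgroup G := (fittingSubgroup M).map M.subtype

theorem coreOf_normalizer (q : ℕ) (M : Subgroup G) : M ≤ normalizer (coreOf q M : Set G) :=
  le_normalizer.trans (normalizer_le_normalizer_map_subtype M _)

theorem fitOf_eq_iSup (M : Subgroup G) : fitOf M = ⨆ t : Nat.Primes, coreOf (t : ℕ) M := by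
  rw [fitOf, fittingSubgroup_eq_iSup_pCore, Subgroup.map_iSup]

theorem coreOf_le_fitOf {q : ℕ} [Fact q.Prime] (M : Subgroup G) : coreOf q M ≤ fitOf M :=
  map_mono (pCore_le_fittingSubgroup q M)

theorem commute_coreOf {q r : ℕ} [Fact q.Prime] [Fact r.Prime] (hqr : q ≠ r) {M N : Subgroup G}
    (hMN : coreOf q M ≤ N) (hNM : coreOf r N ≤ M) {x y : G} (hx : x ∈ coreOf q M)
    (hy : y ∈ coreOf r N) : x * y = y * x := by
  rw [← commutatorElement_eq_one_iff_mul_comm, ← mem_bot]
  have hd := IsPGroup.disjoint_of_ne q r hqr _ _ ((isPGroup_pCore q M).map M.subtype)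
    ((isPGroup_pCore r N).map N.subtype)
  rw [← disjoint_iff.mp hd]
  refine mem_inf.mpr ⟨?_, ?_⟩
  · have e : ⁅x, y⁆ = x * (y * x⁻¹ * y⁻¹) := by group
    rw [e]
    exact mul_mem hx ((mem_normalizer_iff.mp (coreOf_normalizer q M (hNM hy)) _).mp (inv_mem hx))
  · have e : ⁅x, y⁆ = (x * y * x⁻¹) * y⁻¹ := by group
    rw [e]
    exact mul_mem ((mem_normalizer_iff.mp (coreOf_normalizer r N (hMN hx)) _).mp hy) (inv_mem hy)

theorem inf_centralizer_fitOf_le {N : Subgroup G} (hN : layer N = ⊥) :
    N ⊓ centralizer (fitOf N : Set G) ≤ fitOf N := by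
  intro x hx
  obtain ⟨hxN, hxC⟩ := mem_inf.mp hx
  refine ⟨⟨x, hxN⟩, centralizer_fstar_le_fitting (mem_centralizer_iff.mpr fun y hy => ?_), rfl⟩
  rw [generalizedFittingSubgroup, hN, bot_sup_eq] at hy
  exact Subtype.ext (mem_centralizer_iff.mp hxC y ⟨y, hy, rfl⟩)

theorem coreOf_le_coreOf_of_ne_bot {q : ℕ} [Fact q.Prime] {M N : Subgroup G}
    (h1 : fitOf M ≤ N) (h2 : fitOf N ≤ M) (hN : layer N = ⊥) (hNq : coreOf q N = ⊥) :
    coreOf q M = ⊥ := by
  have hMN : coreOf q M ≤ N := (coreOf_le_fitOf M).trans h1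
  have hc : coreOf q M ≤ fitOf N := by
    refine le_trans (le_inf hMN ?_) (inf_centralizer_fitOf_le hN)
    rw [le_centralizer_iff, fitOf_eq_iSup]
    refine iSup_le fun t => ?_
    haveI := Fact.mk t.2
    by_cases htq : (t : ℕ) = q
    · rw [htq, hNq]; exact bot_le
    · exact fun y hy => mem_centralizer_iff.mpr fun x hx =>
        commute_coreOf (Ne.symm htq) hMN ((coreOf_le_fitOf N).trans h2) hx hy
  rw [eq_bot_iff]
  intro x hx
  have h3 : (coreOf q M).subgroupOf N ≤ pCore q N := by
    refine pGroup_le_pCore_of_le_fitting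
      (((isPGroup_pCore q M).map M.subtype).comap_of_injective N.subtype N.subtype_injective) ?_
    intro y hy
    obtain ⟨z, hz, he⟩ := hc hy
    have : z = y := Subtype.ext he
    exact this ▸ hz
  have h4 : x ∈ coreOf q N := ⟨⟨x, hMN hx⟩, h3 hx, rfl⟩
  exact hNq ▸ h4

/-- For `r` and a second prime `q` the `r`-cores agree. -/
theorem coreOf_le_coreOf {r q : ℕ} [Fact r.Prime] [Fact q.Prime] (hqr : q ≠ r) {M N : Subgroup G}
    (h1 : fitOf M ≤ N) (h2 : fitOf N ≤ M) (hM : layer M = ⊥)
    (hNq : normalizer (coreOf q N : Set G) = N) : coreOf r N ≤ coreOf r M := by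
  classical
  set F' : Subgroup G := ⨆ t : {t : Nat.Primes // (t : ℕ) ≠ r}, coreOf ((t : Nat.Primes) : ℕ) M
    with hF'
  set Y : Subgroup G := ⨆ t : {t : Nat.Primes // (t : ℕ) ≠ r}, coreOf ((t : Nat.Primes) : ℕ) N
    with hY
  set C := M ⊓ centralizer (F' : Set G) with hC
  set C₀ := C ⊓ centralizer (Y : Set G) with hC₀
  set R := coreOf r N with hR
  have hRM : R ≤ M := (coreOf_le_fitOf N).trans h2
  have hMle : ∀ t : ℕ, t.Prime → coreOf t M ≤ N := fun t ht =>
    haveI := Fact.mk ht; (coreOf_le_fitOf M).trans h1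
  have hNle : ∀ t : ℕ, t.Prime → coreOf t N ≤ M := fun t ht =>
    haveI := Fact.mk ht; (coreOf_le_fitOf N).trans h2
  have hYM : Y ≤ M := iSup_le fun t => hNle _ t.1.2
  have hF'M : F' ≤ M := iSup_le fun t => map_subtype_le _
  have hMF' : M ≤ normalizer (F' : Set G) := by
    intro g hg
    rw [← map_conj_eq_self_iff, hF', Subgroup.map_iSup]
    exact iSup_congr fun t => map_conj_eq_self_iff.mpr (coreOf_normalizer _ M hg)
  have hRC₀ : R ≤ C₀ := by
    refine le_inf (le_inf hRM ?_) ?_
    · rw [le_centralizer_iff, hF']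
      refine iSup_le fun t => ?_
      haveI := Fact.mk t.1.2
      exact fun y hy => mem_centralizer_iff.mpr fun x hx =>
        (commute_coreOf t.2 (hMle _ t.1.2) hRM hy hx).symm
    · rw [le_centralizer_iff, hY]
      refine iSup_le fun t => ?_
      haveI := Fact.mk t.1.2
      exact fun y hy => mem_centralizer_iff.mpr fun x hx =>
        commute_coreOf (Ne.symm t.2) (map_subtype_le _) (map_subtype_le _) hx hy
  have hC₀N : C₀ ≤ N := by
    intro x hx
    rw [← hNq]
    refine centralizer_le_normalizer _ (mem_centralizer_iff.mpr fun y hy => ?_)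
    exact mem_centralizer_iff.mp (mem_inf.mp hx).2 y
      (le_iSup (fun t : {t : Nat.Primes // (t : ℕ) ≠ r} => coreOf ((t : Nat.Primes) : ℕ) N)
        ⟨⟨q, Fact.out⟩, hqr⟩ hy)
  -- commutators of `Y` and `C` lie in `F'`
  have hw : ∀ t : {t : Nat.Primes // (t : ℕ) ≠ r}, ∀ y ∈ coreOf ((t : Nat.Primes) : ℕ) N, ∀ c ∈ C,
      ⁅y, c⁆ ∈ F' := by
    intro t y hy c hc
    haveI := Fact.mk t.1.2
    obtain ⟨hcM, hcC⟩ := mem_inf.mp hc
    have hyM : y ∈ M := hNle _ t.1.2 hy
    set w := ⁅y, c⁆ with hwdef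
    have hwM : w ∈ M := mul_mem (mul_mem (mul_mem hyM hcM) (inv_mem hyM)) (inv_mem hcM)
    have hyr : ∀ x ∈ coreOf r M, x * y = y * x := fun x hx =>
      commute_coreOf (Ne.symm t.2) (hMle r Fact.out) (hNle _ t.1.2) hx hy
    have hwF : w ∈ fitOf M := by
      refine inf_centralizer_fitOf_le hM (mem_inf.mpr ⟨hwM, ?_⟩)
      have hle : fitOf M ≤ centralizer ({w} : Set G) := by
        rw [fitOf_eq_iSup]
        refine iSup_le fun s x hx => mem_centralizer_singleton_iff.mpr ?_
        by_cases hsr : (s : ℕ) = r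
        · rw [hsr] at hx
          have hcx : c⁻¹ * x * c ∈ coreOf r M := by
            simpa using (mem_normalizer_iff.mp (coreOf_normalizer r M (inv_mem hcM)) x).mp hx
          have e1 : y⁻¹ * x * y = x := by rw [mul_assoc, hyr x hx, inv_mul_cancel_left]
          have e2 : y * (c⁻¹ * x * c) * y⁻¹ = c⁻¹ * x * c := by
            rw [← hyr _ hcx, mul_inv_cancel_right]
          calc x * w = y * (y⁻¹ * x * y) * c * y⁻¹ * c⁻¹ := by rw [hwdef, commutatorElement_def]; group
            _ = y * c * ((c⁻¹ * x * c) * y⁻¹) * c⁻¹ := by rw [e1]; group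
            _ = y * c * (y⁻¹ * (y * (c⁻¹ * x * c) * y⁻¹)) * c⁻¹ := by group
            _ = w * x := by rw [e2, hwdef, commutatorElement_def]; group
        · have hxF : x ∈ F' := le_iSup (fun t : {t : Nat.Primes // (t : ℕ) ≠ r} =>
            coreOf ((t : Nat.Primes) : ℕ) M) ⟨s, hsr⟩ hx
          have hyx : y⁻¹ * x * y ∈ F' := by
            simpa using (mem_normalizer_iff.mp (hMF' (inv_mem hyM)) x).mp hxF
          have e1 : c * (y⁻¹ * x * y) = (y⁻¹ * x * y) * c := (mem_centralizer_iff.mp hcC _ hyx).symm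
          have e2 : x * c⁻¹ = c⁻¹ * x :=
            ((Commute.inv_right (mem_centralizer_iff.mp hcC x hxF)) : Commute x c⁻¹).eq
          calc x * w = y * ((y⁻¹ * x * y) * c) * y⁻¹ * c⁻¹ := by
                rw [hwdef, commutatorElement_def]; group
            _ = y * (c * (y⁻¹ * x * y)) * y⁻¹ * c⁻¹ := by rw [e1]
            _ = y * c * y⁻¹ * (x * c⁻¹) := by group
            _ = y * c * y⁻¹ * (c⁻¹ * x) := by rw [e2]
            _ = w * x := by rw [hwdef, commutatorElement_def]; group
      exact mem_centralizer_iff.mpr fun x hx => mem_centralizer_singleton_iff.mp (hle hx)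
    have hsplit : fitOf M ≤ F' ⊔ coreOf r M := by
      rw [fitOf_eq_iSup]
      refine iSup_le fun s => ?_
      by_cases hsr : (s : ℕ) = r
      · rw [hsr]; exact le_sup_right
      · exact le_sup_of_le_left (le_iSup (fun t : {t : Nat.Primes // (t : ℕ) ≠ r} =>
          coreOf ((t : Nat.Primes) : ℕ) M) ⟨s, hsr⟩)
    have hwset : w ∈ (F' : Set G) * (coreOf r M : Set G) := by
      rw [← coe_mul_of_right_le_normalizer_left F' (coreOf r M) ((map_subtype_le _).trans hMF')]
      exact hsplit hwF
    obtain ⟨f, hf, g, hg, hfg⟩ := Set.mem_mul.mp hwset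
    haveI hFn : (F'.subgroupOf M).Normal := normal_subgroupOf_of_le_normalizer hMF'
    set π := QuotientGroup.mk' (F'.subgroupOf M) with hπ
    set ym : M := ⟨y, hyM⟩ with hym
    set cm : M := ⟨c, hcM⟩ with hcm
    set gm : M := ⟨g, map_subtype_le _ hg⟩ with hgm
    have hcomm : Commute (π ym) (π gm) := by
      show π ym * π gm = π gm * π ym
      rw [← map_mul, ← map_mul]
      exact congrArg π (Subtype.ext (hyr g hg).symm)
    have hyc : π ym * π cm = π gm * π cm * π ym := by
      have e1 : (⟨w, hwM⟩ : M) = ⁅ym, cm⁆ := Subtype.ext rfl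
      have e2 : π (⟨w, hwM⟩ : M) = π gm := by
        rw [show (⟨w, hwM⟩ : M) = ⟨f, hF'M hf⟩ * gm from Subtype.ext hfg.symm, map_mul,
          show π (⟨f, hF'M hf⟩ : M) = 1 from
            (QuotientGroup.eq_one_iff (⟨f, hF'M hf⟩ : M)).mpr (mem_subgroupOf.mpr hf), one_mul]
      rw [← e2, e1, map_commutatorElement, commutatorElement_def]
      group
    have hpow : ∀ n : ℕ, π ym ^ n * π cm = π gm ^ n * π cm * π ym ^ n := by
      intro n
      induction n with
      | zero => simp
      | succ n ih =>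
        calc π ym ^ (n + 1) * π cm = π ym * (π ym ^ n * π cm) := by rw [pow_succ']; group
          _ = π ym * π gm ^ n * π cm * π ym ^ n := by rw [ih]; group
          _ = π gm ^ n * (π ym * π cm) * π ym ^ n := by
            rw [(hcomm.pow_right n).eq]; group
          _ = π gm ^ n * π gm * π cm * (π ym * π ym ^ n) := by rw [hyc]; group
          _ = π gm ^ (n + 1) * π cm * π ym ^ (n + 1) := by rw [← pow_succ, ← pow_succ']
    obtain ⟨i, hi⟩ := ((isPGroup_pCore (t : Nat.Primes) N).map N.subtype) ⟨y, hy⟩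
    obtain ⟨j, hj⟩ := ((isPGroup_pCore r M).map M.subtype) ⟨g, hg⟩
    have hyi : π ym ^ ((t : Nat.Primes) : ℕ) ^ i = 1 := by
      rw [← map_pow, show ym ^ ((t : Nat.Primes) : ℕ) ^ i = 1 from
        Subtype.ext (by simpa [Subtype.ext_iff] using hi), map_one]
    have hgj : π gm ^ r ^ j = 1 := by
      rw [← map_pow, show gm ^ r ^ j = 1 from
        Subtype.ext (by simpa [Subtype.ext_iff] using hj), map_one]
    have hgi : π gm ^ ((t : Nat.Primes) : ℕ) ^ i = 1 := by
      have := hpow (((t : Nat.Primes) : ℕ) ^ i)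
      rw [hyi, one_mul, mul_one] at this
      exact mul_eq_right.mp this.symm
    have hg1 : π gm = 1 := by
      rw [← orderOf_eq_one_iff]
      have hco : ((((t : Nat.Primes) : ℕ)) ^ i).Coprime (r ^ j) :=
        Nat.Coprime.pow _ _ ((Nat.coprime_primes t.1.2 Fact.out).mpr t.2)
      exact Nat.eq_one_of_dvd_coprimes hco (orderOf_dvd_of_pow_eq_one hgi)
        (orderOf_dvd_of_pow_eq_one hgj)
    rw [← hfg]
    exact mul_mem hf (mem_subgroupOf.mp ((QuotientGroup.eq_one_iff gm).mp hg1))
  -- `C₀` is normal in `C`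
  have hCn : C ≤ normalizer (C₀ : Set G) := by
    refine le_normalizer_of_conj_mem fun c hc z hz => ?_
    obtain ⟨hzC, hzY⟩ := mem_inf.mp hz
    refine mem_inf.mpr ⟨mul_mem (mul_mem hc hzC) (inv_mem hc), mem_centralizer_iff.mpr ?_⟩
    intro y hy
    have hle : Y ≤ centralizer ({c * z * c⁻¹} : Set G) := by
      refine iSup_le fun t y hy => mem_centralizer_singleton_iff.mpr ?_
      have h3 := hw t y hy c⁻¹ (inv_mem hc)
      have hzy : y * z = z * y := mem_centralizer_iff.mp hzY y
        (le_iSup (fun t : {t : Nat.Primes // (t : ℕ) ≠ r} => coreOf ((t : Nat.Primes) : ℕ) N) t hy)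
      have e : c⁻¹ * y * c = (⁅y, c⁻¹⁆)⁻¹ * y := by group
      have hzd : (⁅y, c⁻¹⁆)⁻¹ * z = z * (⁅y, c⁻¹⁆)⁻¹ :=
        mem_centralizer_iff.mp (mem_inf.mp hzC).2 _ (inv_mem h3)
      calc y * (c * z * c⁻¹) = c * (c⁻¹ * y * c * z) * c⁻¹ := by group
        _ = c * ((⁅y, c⁻¹⁆)⁻¹ * (y * z)) * c⁻¹ := by rw [e]; group
        _ = c * ((⁅y, c⁻¹⁆)⁻¹ * z * y) * c⁻¹ := by rw [hzy]; group
        _ = c * (z * (⁅y, c⁻¹⁆)⁻¹ * y) * c⁻¹ := by rw [hzd]
        _ = c * z * (c⁻¹ * y * c) * c⁻¹ := by rw [e]; group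
        _ = c * z * c⁻¹ * y := by group
    exact mem_centralizer_singleton_iff.mp (hle hy)
  have hC₀C : C₀ ≤ C := inf_le_left
  have h1 : ((R.subgroupOf M)).IsSubnormal := by
    have hCM : C ≤ M := inf_le_left
    haveI : (C.subgroupOf M).Normal := normal_subgroupOf_of_le_normalizer
      ((le_inf le_normalizer (hMF'.trans (CfsgLib.PLocal.normalizer_le_centralizer_normalizer F'))).trans
        inf_normalizer_le_normalizer_inf)
    have hCs : (C.subgroupOf M).IsSubnormal := Normal.isSubnormal inferInstance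
    have hC₀s : (C₀.subgroupOf M).IsSubnormal := by
      exact IsSubnormal.trans (fun x hx => hC₀C hx)
        (normal_subgroupOf_of_le_normalizer (subgroupOf_le_normalizer M hCn)).isSubnormal hCs
    exact IsSubnormal.trans (fun x hx => hRC₀ hx)
      (normal_subgroupOf_of_le_normalizer
        (subgroupOf_le_normalizer M (hC₀N.trans (coreOf_normalizer r N)))).isSubnormal hC₀s
  have h2 : R.subgroupOf M ≤ pCore r M := le_pCore_of_isSubnormal h1
    (((isPGroup_pCore r N).map N.subtype).comap_of_injective M.subtype M.subtype_injective)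
  exact fun x hx => ⟨⟨x, hRM hx⟩, h2 hx, rfl⟩

/-- A component of a maximal member is a component of the other one. -/
theorem component_transfer {M N : Subgroup G}
    (h1 : (layer M).map M.subtype ≤ N) (h2 : (generalizedFittingSubgroup N).map N.subtype ≤ M)
    {L : Subgroup M} (hL : IsComponent L) :
    L.map M.subtype ≤ N ∧ IsComponent ((L.map M.subtype).subgroupOf N) := by
  set L' := L.map M.subtype with hL'
  set D := M ⊓ N with hD
  have hLN : L' ≤ N := (map_mono (component_le_layer hL)).trans h1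
  refine ⟨hLN, ?_⟩
  have hLD : L' ≤ D := le_inf (map_subtype_le _) hLN
  have hLc : IsComponent (L'.subgroupOf D) :=
    isComponent_subgroupOf_of_le hLD inf_le_left (by
      rwa [hL', subgroupOf, comap_map_eq_self_of_injective M.subtype_injective])
  by_contra hne
  have hcent : ∀ X : Subgroup G, X ≤ D → ⁅L'.subgroupOf D, X.subgroupOf D⁆ = ⊥ →
      ∀ l ∈ L', ∀ x ∈ X, x * l = l * x := fun X hX h l hl x hx =>
    congrArg Subtype.val (mem_centralizer_iff.mp (commutator_eq_bot_iff_le_centralizer.mp h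
      (show (⟨l, hLD hl⟩ : D) ∈ L'.subgroupOf D from hl)) ⟨x, hX hx⟩ hx)
  have hF : L'.subgroupOf N ≤ centralizer (generalizedFittingSubgroup N : Set N) := by
    rw [le_centralizer_iff, generalizedFittingSubgroup, sup_le_iff, layer_le_iff]
    refine ⟨fun K hK => ?_, fun x hx => mem_centralizer_iff.mpr fun l hl => ?_⟩
    · have hKD : K.map N.subtype ≤ D := le_inf
        (le_trans (map_mono ((component_le_layer hK).trans layer_le_fstar)) h2) (map_subtype_le _)
      have hKc : IsComponent ((K.map N.subtype).subgroupOf D) :=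
        isComponent_subgroupOf_of_le hKD inf_le_right (by
          rwa [subgroupOf, comap_map_eq_self_of_injective N.subtype_injective])
      have hne' : L'.subgroupOf D ≠ (K.map N.subtype).subgroupOf D := fun h => hne (by
        have h' := congrArg (Subgroup.map D.subtype) h
        rw [map_subgroupOf_eq_of_le hLD, map_subgroupOf_eq_of_le hKD] at h'
        rw [h', subgroupOf, comap_map_eq_self_of_injective N.subtype_injective]
        exact hK)
      exact fun x hx => mem_centralizer_iff.mpr fun l hl => Subtype.ext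
        (hcent _ hKD (components_commute hLc hKc hne') l hl x ⟨x, hx, rfl⟩).symm
    · have hXD : fitOf N ≤ D := le_inf ((map_mono fitting_le_fstar).trans h2) (map_subtype_le _)
      haveI hn : ((fitOf N).subgroupOf D).Normal := normal_subgroupOf_of_le_normalizer
        (inf_le_right.trans (le_normalizer.trans (normalizer_le_normalizer_map_subtype N _)))
      exact Subtype.ext (hcent _ hXD (component_commutator_eq_bot_of_isSolvable hLc hn.isSubnormal
        (haveI : Group.IsSolvable ↥(fittingSubgroup N) := isSolvable_fitting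
         haveI : Group.IsSolvable ↥(fitOf N) := Group.isSolvable_of_surjective
          (N.subtype.subgroupMap_surjective (fittingSubgroup N))
         Group.isSolvable_of_isSolvable_injective (f := (subgroupOfEquivOfLe hXD).toMonoidHom)
          (subgroupOfEquivOfLe hXD).injective)) l hl x ⟨x, hx, rfl⟩).symm
  haveI : Group.IsSolvable ↥(fittingSubgroup N) := isSolvable_fitting
  haveI : Group.IsSolvable ↥(L'.subgroupOf N) := Group.isSolvable_of_isSolvable_injective
      (inclusion_injective (hF.trans centralizer_fstar_le_fitting))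
  exact quasisimple_not_isSolvable hLc.2 (Group.isSolvable_of_isSolvable_injective
    (f := ((subgroupOfEquivOfLe hLD).trans (subgroupOfEquivOfLe hLN).symm).toMonoidHom)
    ((subgroupOfEquivOfLe hLD).trans (subgroupOfEquivOfLe hLN).symm).injective)

theorem map_layer_le_of_forall {M N : Subgroup G}
    (h : ∀ L : Subgroup M, IsComponent L →
      L.map M.subtype ≤ N ∧ IsComponent ((L.map M.subtype).subgroupOf N)) :
    (layer M).map M.subtype ≤ (layer N).map N.subtype := by
  rw [layer_eq_iSup, Subgroup.map_iSup]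
  refine iSup_le fun L => ?_
  obtain ⟨h1, h2⟩ := h L L.2
  rw [← map_subgroupOf_eq_of_le h1]
  exact map_mono (component_le_layer h2)

theorem normalizer_eq_of_isCoatom [IsSimpleGroup G] {M X : Subgroup G} (hM : IsCoatom M)
    (hX : X ≤ M) (hX1 : X ≠ ⊥) (hn : M ≤ normalizer (X : Set G)) :
    normalizer (X : Set G) = M := by
  rcases hM.le_iff.mp hn with h | h
  · exfalso
    haveI := normalizer_eq_top_iff.mp h
    rcases Normal.eq_bot_or_eq_top (inferInstance : X.Normal) with h' | h'
    · exact hX1 h'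
    · exact hM.1 (top_le_iff.mp (h' ▸ hX))
  · exact h

/-- **Bender's maximal subgroup theorem.** -/
theorem bender [IsSimpleGroup G] (hna : ¬ IsMulCommutative G) {M N : Subgroup G} (hM : IsCoatom M)
    (hN : IsCoatom N) (hMN : M ≠ N) (h1 : (generalizedFittingSubgroup M).map M.subtype ≤ N)
    (h2 : (generalizedFittingSubgroup N).map N.subtype ≤ M) :
    ∃ p : ℕ, p.Prime ∧ IsPGroup p ↥(generalizedFittingSubgroup M) ∧
      IsPGroup p ↥(generalizedFittingSubgroup N) := by
  have hEM : layer M = ⊥ := by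
    by_contra hne
    have hne' : (layer M).map M.subtype ≠ ⊥ := fun h =>
      hne ((map_eq_bot_iff_of_injective _ M.subtype_injective).mp h)
    have he : (layer M).map M.subtype = (layer N).map N.subtype := le_antisymm
      (map_layer_le_of_forall fun L hL =>
        component_transfer ((map_mono layer_le_fstar).trans h1) h2 hL)
      (map_layer_le_of_forall fun L hL =>
        component_transfer ((map_mono layer_le_fstar).trans h2) h1 hL)
    have hn1 := normalizer_eq_of_isCoatom hM (map_subtype_le _) hne'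
      (le_normalizer.trans (normalizer_le_normalizer_map_subtype M _))
    have hn2 := normalizer_eq_of_isCoatom hN (map_subtype_le _) (he ▸ hne')
      (le_normalizer.trans (normalizer_le_normalizer_map_subtype N _))
    exact hMN (by rw [← hn1, he, hn2])
  have hEN : layer N = ⊥ := by
    by_contra hne
    refine hne ((map_eq_bot_iff_of_injective _ N.subtype_injective).mp (eq_bot_iff.mpr ?_))
    refine le_trans (map_layer_le_of_forall fun L hL =>
      component_transfer ((map_mono layer_le_fstar).trans h2) h1 hL) ?_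
    rw [hEM, Subgroup.map_bot]
  have h1' : fitOf M ≤ N := (map_mono fitting_le_fstar).trans h1
  have h2' : fitOf N ≤ M := (map_mono fitting_le_fstar).trans h2
  have hnorm : ∀ {K : Subgroup G} {q : ℕ}, IsCoatom K → coreOf q K ≠ ⊥ →
      normalizer (coreOf q K : Set G) = K := fun hK h =>
    normalizer_eq_of_isCoatom hK (map_subtype_le _) h (coreOf_normalizer _ _)
  have hiff : ∀ t : Nat.Primes, coreOf (t : ℕ) M = ⊥ ↔ coreOf (t : ℕ) N = ⊥ := fun t =>
    haveI := Fact.mk t.2
    ⟨coreOf_le_coreOf_of_ne_bot h2' h1' hEM, coreOf_le_coreOf_of_ne_bot h1' h2' hEN⟩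
  have hM1 : Nontrivial M := by
    rw [nontrivial_iff_ne_bot]
    intro hb
    subst hb
    -- then every nontrivial subgroup is the whole group
    refine hna ?_
    obtain ⟨g, hg⟩ := exists_ne (1 : G)
    have htop : zpowers g = ⊤ := hM.2 _ (bot_lt_iff_ne_bot.mpr (zpowers_ne_bot.mpr hg))
    exact ⟨⟨fun a b => by
      obtain ⟨i, rfl⟩ := mem_zpowers_iff.mp (htop ▸ mem_top a)
      obtain ⟨j, rfl⟩ := mem_zpowers_iff.mp (htop ▸ mem_top b)
      exact zpow_mul_comm g i j⟩⟩
  have hex : ∃ t : Nat.Primes, coreOf (t : ℕ) M ≠ ⊥ := by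
    by_contra hcon
    push Not at hcon
    have hF : fitOf M = ⊥ := by
      rw [fitOf_eq_iSup]; exact iSup_eq_bot.mpr hcon
    have h := inf_centralizer_fitOf_le hEM
    rw [hF] at h
    obtain ⟨x, hx⟩ := exists_ne (1 : M)
    exact hx (Subtype.ext (mem_bot.mp (h (mem_inf.mpr ⟨x.2, mem_centralizer_iff.mpr fun y hy => by
      rw [coe_bot, Set.mem_singleton_iff] at hy; simp [hy]⟩))))
  obtain ⟨⟨p, hp⟩, hpM⟩ := hex
  haveI := Fact.mk hp
  have honly : ∀ t : Nat.Primes, (t : ℕ) ≠ p → coreOf (t : ℕ) M = ⊥ := by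
    intro t htp
    by_contra htM
    haveI := Fact.mk t.2
    have h3 : coreOf p N ≤ coreOf p M := coreOf_le_coreOf htp h1' h2' hEM
      (hnorm hN (fun h => htM ((hiff t).mpr h)))
    have h4 : coreOf p M ≤ coreOf p N := coreOf_le_coreOf htp h2' h1' hEN (hnorm hM htM)
    have hpN : coreOf p N ≠ ⊥ := fun h => hpM ((hiff ⟨p, hp⟩).mpr h)
    exact hMN (by rw [← hnorm hM hpM, le_antisymm h4 h3, hnorm hN hpN])
  have key : ∀ K : Subgroup G, layer K = ⊥ → (∀ t : Nat.Primes, (t : ℕ) ≠ p → coreOf (t : ℕ) K = ⊥) →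
      IsPGroup p ↥(generalizedFittingSubgroup K) := by
    intro K hK hcore
    refine (isPGroup_pCore p K).to_le ?_
    rw [generalizedFittingSubgroup, hK, bot_sup_eq, fittingSubgroup_eq_iSup_pCore]
    refine iSup_le fun t => ?_
    by_cases htp : (t : ℕ) = p
    · rw [htp]
    · rw [(map_eq_bot_iff_of_injective _ K.subtype_injective).mp (hcore t htp)]; exact bot_le
  exact ⟨p, hp, key M hEM honly, key N hEN fun t ht => (hiff t).mp (honly t ht)⟩

end CfsgLib.Components
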