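import Mathlib
import Cfsg.Prelude.Def_Balance
import Cfsg.Agent.Lib.Base.Cores
import Cfsg.Agent.Lib.Coprime.Action2

/-!
# Signalizer functors: elementary facts and the transitivity theorem
-/

set_option autoImplicit false
set_option linter.style.haveILetI false
set_option linter.unusedSectionVars false

open scoped Pointwise commutatorElement

namespace CfsgLib.Signalizer

open Cfsg Subgroup CfsgLib.Base

variable {G : Type*} [Group G] [Finite G] {p : ℕ} [Fact p.Prime] {A : Subgroup G}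

theorem conj_invariant_iff {X : Subgroup G} :
    (∀ b ∈ A, ∀ x ∈ X, b * x * b⁻¹ ∈ X) ↔ A ≤ normalizer (X : Set G) := by
  refine ⟨fun h b hb => mem_normalizer_iff.mpr fun x => ⟨h b hb x, fun hx => ?_⟩,
    fun h b hb x hx => (mem_normalizer_iff.mp (h hb) x).mp hx⟩
  simpa [mul_assoc] using h b⁻¹ (inv_mem hb) _ hx

theorem elemAb_isPGroup (hA : IsElementaryAbelian p A) : IsPGroup p A :=
  fun a => ⟨1, Subtype.ext (by simpa using hA.2 a a.2)⟩

theorem elemAb_of_le (hA : IsElementaryAbelian p A) {B : Subgroup G} (hB : B ≤ A) :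
    IsElementaryAbelian p B :=
  ⟨⟨⟨fun a b => Subtype.ext (congrArg (Subtype.val : ↥A → G)
    (hA.1.is_comm.comm ⟨a, hB a.2⟩ ⟨b, hB b.2⟩))⟩⟩, fun a ha => hA.2 a (hB ha)⟩

theorem elemAb_card_eq_pow (hA : IsElementaryAbelian p A) : ∃ n, Nat.card A = p ^ n :=
  IsPGroup.iff_card.mp (elemAb_isPGroup hA)

theorem elemAb_comm (hA : IsElementaryAbelian p A) {a b : G} (ha : a ∈ A) (hb : b ∈ A) :
    a * b = b * a :=
  congrArg Subtype.val (hA.1.is_comm.comm ⟨a, ha⟩ ⟨b, hb⟩)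

theorem card_zpowers_le (hA : IsElementaryAbelian p A) {a : G} (ha : a ∈ A) :
    Nat.card (zpowers a) ≤ p := by
  rw [Nat.card_zpowers]
  exact orderOf_le_of_pow_eq_one (Fact.out : p.Prime).pos (hA.2 a ha)

theorem elemAb_not_isCyclic (hA : IsElementaryAbelian p A) (h2 : p ^ 2 ≤ Nat.card A) :
    ¬ IsCyclic A := fun h => by
  obtain ⟨g, hg⟩ := h.exists_generator
  have h1 : orderOf g ≤ p :=
    orderOf_le_of_pow_eq_one (Fact.out : p.Prime).pos (Subtype.ext (by simpa using hA.2 g g.2))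
  rw [orderOf_eq_card_of_forall_mem_zpowers hg] at h1
  nlinarith [(Fact.out : p.Prime).two_le, h2]

theorem sq_le_of_cube_le {n : ℕ} (h : p ^ 3 ≤ n) : p ^ 2 ≤ n :=
  le_trans (Nat.pow_le_pow_right (Fact.out : p.Prime).pos (by norm_num)) h

theorem coprime_of_not_dvd (hA : IsElementaryAbelian p A) {U : Subgroup G}
    (hU : ¬ p ∣ Nat.card U) : (Nat.card A).Coprime (Nat.card U) := by
  obtain ⟨n, hn⟩ := elemAb_card_eq_pow hA
  rw [hn]
  exact ((Fact.out : p.Prime).coprime_iff_not_dvd.mpr hU).pow_left n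

theorem ne_bot_of_pow_le {B : Subgroup G} {k : ℕ} (hk : 1 ≤ k) (h : p ^ k ≤ Nat.card B) : B ≠ ⊥ := by
  rintro rfl
  rw [Subgroup.card_bot] at h
  exact absurd ((Nat.one_lt_pow (by omega) (Fact.out : p.Prime).one_lt).trans_le h) (lt_irrefl 1)

/-- A subgroup with cyclic quotient has index at most `p`. -/
theorem relIndex_le_of_sup_zpowers (hA : IsElementaryAbelian p A) {B : Subgroup G} (hB : B ≤ A)
    {a : G} (ha : a ∈ A) (h : B ⊔ zpowers a = A) : B.relIndex A ≤ p := by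
  haveI : (B.subgroupOf A).Normal := ⟨fun x hx g => by
    have : g * x * g⁻¹ = x := by
      rw [show g * x = x * g from Subtype.ext (elemAb_comm hA g.2 x.2), mul_inv_cancel_right]
    rwa [this]⟩
  have hza : zpowers a ≤ A := zpowers_le.mpr ha
  rw [relIndex, ← relIndex_top_right, show (⊤ : Subgroup A) = B.subgroupOf A ⊔ (zpowers a).subgroupOf A
    from ?_, sup_comm, relIndex_sup_right]
  · calc (B.subgroupOf A).relIndex ((zpowers a).subgroupOf A)
        ≤ Nat.card ((zpowers a).subgroupOf A) := Nat.le_of_dvd Nat.card_pos (relIndex_dvd_card _ _)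
      _ ≤ p := by rw [card_subgroupOf hza]; exact card_zpowers_le hA ha
  · apply map_injective A.subtype_injective
    rw [← MonoidHom.range_eq_map, range_subtype, Subgroup.map_sup, map_subgroupOf_eq_of_le hB,
      map_subgroupOf_eq_of_le hza, h]

theorem exists_le_relIndex_eq (hA : IsElementaryAbelian p A) (hne : A ≠ ⊥) {B : Subgroup G}
    (hB : B ≤ A) (hidx : B.relIndex A ≤ p) : ∃ D ≤ B, D.relIndex A = p := by
  have hp : p.Prime := Fact.out
  obtain ⟨n, hn⟩ := elemAb_card_eq_pow hA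
  have hdvd : B.relIndex A ∣ p ^ n := hn ▸ relIndex_dvd_card B A
  obtain ⟨k, -, hk⟩ := (Nat.dvd_prime_pow hp).mp hdvd
  have hk1 : k ≤ 1 := by
    by_contra hlt
    have : p ^ 2 ≤ p ^ k := Nat.pow_le_pow_right hp.pos (by omega)
    nlinarith [hp.two_le]
  rcases k with _ | k
  swap
  · exact ⟨B, le_rfl, by rw [hk, show k = 0 by omega, pow_one]⟩
  have hBA : A ≤ B := relIndex_eq_one.mp (by simpa using hk)
  obtain ⟨m, rfl⟩ : ∃ m, n = m + 1 := by
    rcases n with _ | m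
    · exact absurd (Subgroup.card_eq_one.mp (by simpa using hn)) hne
    · exact ⟨m, rfl⟩
  obtain ⟨D, hD⟩ := Sylow.exists_subgroup_card_pow_prime (G := A) p (n := m)
    (hn ▸ pow_dvd_pow p (Nat.le_succ m))
  refine ⟨D.map A.subtype, (map_subtype_le D).trans hBA, ?_⟩
  have h1 : Nat.card D * D.index = p ^ (m + 1) := by rw [Subgroup.card_mul_index, hn]
  rw [hD, pow_succ] at h1
  rw [relIndex, ← comap_subtype, comap_map_eq_self_of_injective A.subtype_injective]
  exact Nat.eq_of_mul_eq_mul_left (pow_pos hp.pos m) h1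

/-- Generation by the centralisers of the hyperplanes. -/
theorem le_of_hyperplanes (hA : IsElementaryAbelian p A) (hne : A ≠ ⊥) {K R : Subgroup G}
    (hAK : A ≤ normalizer (K : Set G)) (hK : ¬ p ∣ Nat.card K)
    (h : ∀ B : Subgroup G, B ≤ A → B.relIndex A = p → K ⊓ centralizer (B : Set G) ≤ R) : K ≤ R := by
  haveI := hA.1
  refine CfsgLib.Coprime.le_of_cyclic_quotient hAK (coprime_of_not_dvd hA hK) fun B hB ⟨a, ha, he⟩ => ?_
  obtain ⟨D, hDB, hD⟩ := exists_le_relIndex_eq hA hne hB (relIndex_le_of_sup_zpowers hA hB ha he)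
  exact (inf_le_inf_left K (centralizer_le hDB)).trans (h D (hDB.trans hB) hD)

theorem card_mul_relIndex {B : Subgroup G} (hB : B ≤ A) :
    Nat.card B * B.relIndex A = Nat.card A := by
  rw [← relIndex_bot_left B, ← relIndex_bot_left A, relIndex_mul_relIndex _ _ _ bot_le hB]

/-- Two hyperplanes of a group of rank at least three meet nontrivially. -/
theorem exists_mem_inf (hA3 : p ^ 3 ≤ Nat.card A) {B₁ B₂ : Subgroup G} (h₁ : B₁ ≤ A)
    (h1 : B₁.relIndex A = p) (h2 : B₂.relIndex A = p) : ∃ a ∈ B₁, a ∈ B₂ ∧ a ≠ 1 := by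
  have hne : B₁ ⊓ B₂ ≠ ⊥ := by
    intro hbot
    have h4 := relIndex_inf_le (H := B₁) (K := B₂) (L := A)
    rw [hbot, relIndex_bot_left, h1, h2] at h4
    nlinarith [(Fact.out : p.Prime).two_le, hA3]
  obtain ⟨a, ha, ha1⟩ := (bot_or_exists_ne_one _).resolve_left hne
  exact ⟨a, ha.1, ha.2, ha1⟩

/-! ## Coprime action: fixed points of products and quotients -/

theorem inf_centralizer_sup_eq {B X Y : Subgroup G} (hBX : B ≤ normalizer (X : Set G))
    (hBY : B ≤ normalizer (Y : Set G)) (hYX : Y ≤ normalizer (X : Set G))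
    (hcop : (Nat.card B).Coprime (Nat.card Y)) (hsolv : Group.IsSolvable B ∨ Group.IsSolvable Y) :
    (X ⊔ Y) ⊓ centralizer (B : Set G) =
      (X ⊓ centralizer (B : Set G)) ⊔ (Y ⊓ centralizer (B : Set G)) := by
  refine le_antisymm ?_ (sup_le (inf_le_inf_right _ le_sup_left) (inf_le_inf_right _ le_sup_right))
  rintro k ⟨hk, hkB⟩
  have hk' : k ∈ ((X : Set G) * (Y : Set G)) := by
    rw [← coe_mul_of_right_le_normalizer_left X Y hYX]
    exact hk
  obtain ⟨x, hx, y, hy, rfl⟩ := Set.mem_mul.mp hk'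
  set N := X ⊓ Y with hN
  have hcop' : (Nat.card B).Coprime (Nat.card N) :=
    hcop.coprime_dvd_right (card_dvd_of_le inf_le_right)
  have hsolv' : Group.IsSolvable B ∨ Group.IsSolvable N := by
    rcases hsolv with h | h
    · exact Or.inl h
    · exact Or.inr
        (@Group.isSolvable_of_isSolvable_injective _ _ _ _ _ (inclusion_injective (inf_le_right : N ≤ Y)) h)
  have hfix : ∀ b ∈ B, y⁻¹ * (b * y * b⁻¹) ∈ N := by
    intro b hb
    have hby : b * y * b⁻¹ ∈ Y := (mem_normalizer_iff.mp (hBY hb) y).mp hy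
    refine mem_inf.mpr ⟨?_, mul_mem (inv_mem hy) hby⟩
    have hbx : b * x * b⁻¹ ∈ X := (mem_normalizer_iff.mp (hBX hb) x).mp hx
    have e : (b * x * b⁻¹) * (b * y * b⁻¹) = x * y := by
      have : b * (x * y) * b⁻¹ = x * y := by
        rw [mem_centralizer_iff.mp hkB b hb, mul_inv_cancel_right]
      rw [← this]
      group
    have e2 : b * y * b⁻¹ = (b * x * b⁻¹)⁻¹ * x * y := by
      rw [mul_assoc _ x y, ← e]
      group
    rw [e2]
    have := (mem_normalizer_iff.mp (hYX (inv_mem hy)) ((b * x * b⁻¹)⁻¹ * x)).mp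
      (mul_mem (inv_mem hbx) hx)
    simpa [mul_assoc] using this
  obtain ⟨c, hc, hcN⟩ := CfsgLib.Coprime.exists_centralizing_in_coset
    ((le_inf hBX hBY).trans inf_normalizer_le_normalizer_inf) hcop' hsolv' hfix
  have hcY : c ∈ Y := by simpa using mul_mem hy (mem_inf.mp hcN).2
  have hxc : x * y * c⁻¹ ∈ X := by
    have h1 : y * c⁻¹ ∈ X := by
      have h2 : c⁻¹ * y ∈ X := by simpa using inv_mem (mem_inf.mp hcN).1
      have := (mem_normalizer_iff.mp (hYX hy) (c⁻¹ * y)).mp h2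
      simpa [mul_assoc] using this
    rw [mul_assoc]
    exact mul_mem hx h1
  have := mul_mem_sup (S := X ⊓ centralizer (B : Set G)) (T := Y ⊓ centralizer (B : Set G))
    (mem_inf.mpr ⟨hxc, mul_mem hkB (inv_mem hc)⟩) (mem_inf.mpr ⟨hcY, hc⟩)
  simpa using this

theorem map_inf_centralizer_le {N X : Subgroup G} [N.Normal] {b : G}
    (hb : b ∈ normalizer (X : Set G)) (hcop : (orderOf b).Coprime (Nat.card N)) :
    X.map (QuotientGroup.mk' N) ⊓ centralizer {QuotientGroup.mk' N b} ≤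
      (X ⊓ centralizer {b}).map (QuotientGroup.mk' N) := by
  rintro q ⟨⟨x, hx, rfl⟩, hq⟩
  set f := QuotientGroup.mk' N
  have hbN : zpowers b ≤ normalizer ((X ⊓ N : Subgroup G) : Set G) :=
    (le_inf (zpowers_le.mpr hb) le_normalizer_of_normal).trans inf_normalizer_le_normalizer_inf
  have hcop' : (Nat.card (zpowers b)).Coprime (Nat.card ↥(X ⊓ N)) := by
    rw [Nat.card_zpowers]
    exact hcop.coprime_dvd_right (card_dvd_of_le inf_le_right)
  have hfix : ∀ a ∈ zpowers b, x⁻¹ * (a * x * a⁻¹) ∈ X ⊓ N := by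
    intro a ha
    refine mem_inf.mpr ⟨mul_mem (inv_mem hx)
      ((mem_normalizer_iff.mp (zpowers_le.mpr hb ha) x).mp hx), ?_⟩
    obtain ⟨k, rfl⟩ := mem_zpowers_iff.mp ha
    rw [← QuotientGroup.eq_one_iff]
    have hc : Commute (f b) (f x) := (mem_centralizer_singleton_iff.mp hq).symm
    show f (x⁻¹ * (b ^ k * x * (b ^ k)⁻¹)) = 1
    rw [map_mul, map_mul, map_mul, map_inv, map_inv, map_zpow, (hc.zpow_left k).eq,
      mul_inv_cancel_right, inv_mul_cancel]
  have hbs : Group.IsSolvable (zpowers b) := inferInstance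
  obtain ⟨c, hc, hcN⟩ :=
    CfsgLib.Coprime.exists_centralizing_in_coset hbN hcop' (Or.inl hbs) hfix
  refine ⟨c, mem_inf.mpr ⟨?_, ?_⟩, ?_⟩
  · simpa using mul_mem hx (mem_inf.mp hcN).1
  · exact mem_centralizer_singleton_iff.mpr (mem_centralizer_iff.mp hc b (mem_zpowers b)).symm
  · exact ((QuotientGroup.eq (s := N)).mpr (mem_inf.mp hcN).2).symm

/-! ## The family of a solvable signalizer functor -/

variable {θ : G → Subgroup G}

theorem le_centralizer (hθ : IsSolvableSignalizerFunctor p A θ) {a : G} (ha : a ∈ A) (ha1 : a ≠ 1) :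
    θ a ≤ centralizer {a} := hθ.1.1 a ha ha1

theorem le_normalizer_value (hθ : IsSolvableSignalizerFunctor p A θ) {a : G} (ha : a ∈ A)
    (ha1 : a ≠ 1) : A ≤ normalizer (θ a : Set G) :=
  conj_invariant_iff.mp (hθ.1.2.2.1 a ha ha1)

theorem balance (hθ : IsSolvableSignalizerFunctor p A θ) {a b : G} (ha : a ∈ A) (ha1 : a ≠ 1)
    (hb : b ∈ A) (hb1 : b ≠ 1) : θ a ⊓ centralizer {b} ≤ θ b :=
  hθ.1.2.2.2 a ha ha1 b hb hb1

theorem mem_family_of_le_value (hθ : IsSolvableSignalizerFunctor p A θ) {a : G} (ha : a ∈ A)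
    (ha1 : a ≠ 1) {U : Subgroup G} (hU : U ≤ θ a) (hAU : A ≤ normalizer (U : Set G)) :
    U ∈ signalizerFamily p A θ :=
  ⟨haveI := hθ.2 a ha ha1; Group.isSolvable_of_isSolvable_injective (inclusion_injective hU),
    fun h => hθ.1.2.1 a ha ha1 (h.trans (card_dvd_of_le hU)), conj_invariant_iff.mpr hAU,
    fun _ hb hb1 => (inf_le_inf_right _ hU).trans (balance hθ ha ha1 hb hb1)⟩

theorem mem_family_of_le (_hθ : IsSolvableSignalizerFunctor p A θ) {U V : Subgroup G}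
    (hV : V ∈ signalizerFamily p A θ) (hU : U ≤ V) (hAU : A ≤ normalizer (U : Set G)) :
    U ∈ signalizerFamily p A θ :=
  ⟨haveI := hV.1; Group.isSolvable_of_isSolvable_injective (inclusion_injective hU),
    fun h => hV.2.1 (h.trans (card_dvd_of_le hU)), conj_invariant_iff.mpr hAU,
    fun a ha ha1 => (inf_le_inf_right _ hU).trans (hV.2.2.2 a ha ha1)⟩

theorem family_normalizer {U : Subgroup G} (hU : U ∈ signalizerFamily p A θ) :
    A ≤ normalizer (U : Set G) := conj_invariant_iff.mp hU.2.2.1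

theorem centralizer_singleton_eq (a : G) :
    centralizer (zpowers a : Set G) = centralizer ({a} : Set G) := by
  rw [zpowers_eq_closure, centralizer_closure]

theorem isSolvable_of_quotient {Y : Subgroup G} (hY : Group.IsSolvable Y) {X : Subgroup G}
    (hX : Group.IsSolvable X) (hn : Y ≤ normalizer (X : Set G)) : Group.IsSolvable ↥(X ⊔ Y) := by
  haveI := hX
  haveI := hY
  have hle : X ≤ X ⊔ Y := le_sup_left
  haveI : (X.subgroupOf (X ⊔ Y)).Normal :=
    normal_subgroupOf_of_le_normalizer (sup_le le_normalizer hn)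
  let g : ↥Y →* ↥(X ⊔ Y) ⧸ X.subgroupOf (X ⊔ Y) :=
    (QuotientGroup.mk' _).comp (inclusion le_sup_right)
  have hg : Function.Surjective g := by
    intro q
    obtain ⟨⟨k, hk⟩, rfl⟩ := QuotientGroup.mk'_surjective _ q
    have hk' : k ∈ ((X : Set G) * (Y : Set G)) := by
      rw [← coe_mul_of_right_le_normalizer_left X Y hn]
      exact hk
    obtain ⟨x, hx, y, hy, rfl⟩ := Set.mem_mul.mp hk'
    refine ⟨⟨y, hy⟩, ?_⟩
    have e : (⟨x * y, hk⟩ : ↥(X ⊔ Y)) = ⟨x, hle hx⟩ * inclusion le_sup_right ⟨y, hy⟩ := rfl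
    rw [e, map_mul, show QuotientGroup.mk' (X.subgroupOf (X ⊔ Y)) ⟨x, hle hx⟩ = 1 from
      (QuotientGroup.eq_one_iff (⟨x, hle hx⟩ : ↥(X ⊔ Y))).mpr hx, one_mul]
    rfl
  haveI : Group.IsSolvable ↥(X.subgroupOf (X ⊔ Y)) :=
    Group.isSolvable_of_isSolvable_injective (f := (subgroupOfEquivOfLe hle).toMonoidHom)
      (subgroupOfEquivOfLe hle).injective
  haveI : Group.IsSolvable (↥(X ⊔ Y) ⧸ X.subgroupOf (X ⊔ Y)) := Group.isSolvable_of_surjective hg
  exact (Group.isSolvable_iff_subgroup_quotient (X.subgroupOf (X ⊔ Y))).mpr ⟨inferInstance, inferInstance⟩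

theorem not_dvd_card_sup {X Y : Subgroup G} (hX : ¬ p ∣ Nat.card X) (hY : ¬ p ∣ Nat.card Y)
    (hn : Y ≤ normalizer (X : Set G)) : ¬ p ∣ Nat.card ↥(X ⊔ Y) := by
  haveI : (X.subgroupOf (X ⊔ Y)).Normal :=
    normal_subgroupOf_of_le_normalizer (sup_le le_normalizer hn)
  intro h
  have h2 : Nat.card ↥(Y.subgroupOf (X ⊔ Y) ⊔ X.subgroupOf (X ⊔ Y)) = Nat.card ↥(X ⊔ Y) := by
    have e : Y.subgroupOf (X ⊔ Y) ⊔ X.subgroupOf (X ⊔ Y) = ⊤ := by
      apply map_injective (X ⊔ Y).subtype_injective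
      rw [Subgroup.map_sup, map_subgroupOf_eq_of_le le_sup_right,
        map_subgroupOf_eq_of_le le_sup_left, ← MonoidHom.range_eq_map, range_subtype, sup_comm]
    rw [e, card_top]
  have h1 := card_sup_dvd (Y.subgroupOf (X ⊔ Y)) (X.subgroupOf (X ⊔ Y))
  rw [h2, card_subgroupOf le_sup_right, card_subgroupOf le_sup_left] at h1
  exact ((Fact.out : p.Prime).dvd_mul.mp (h.trans h1)).elim hY hX

/-- Products in the family. -/
theorem sup_mem_family (hA : IsElementaryAbelian p A) {X Y : Subgroup G}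
    (hX : X ∈ signalizerFamily p A θ) (hY : Y ∈ signalizerFamily p A θ)
    (hn : Y ≤ normalizer (X : Set G)) : X ⊔ Y ∈ signalizerFamily p A θ := by
  refine ⟨isSolvable_of_quotient hY.1 hX.1 hn, not_dvd_card_sup hX.2.1 hY.2.1 hn,
    conj_invariant_iff.mpr ?_, fun a ha ha1 => ?_⟩
  · intro b hb
    rw [← map_conj_eq_self_iff, Subgroup.map_sup, map_conj_eq_self_iff.mpr (family_normalizer hX hb),
      map_conj_eq_self_iff.mpr (family_normalizer hY hb)]
  · have haA : zpowers a ≤ A := zpowers_le.mpr ha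
    rw [← centralizer_singleton_eq, inf_centralizer_sup_eq (haA.trans (family_normalizer hX))
      (haA.trans (family_normalizer hY)) hn
      ((coprime_of_not_dvd hA hY.2.1).coprime_dvd_left (card_dvd_of_le haA)) (Or.inr hY.1),
      centralizer_singleton_eq]
    exact sup_le (hX.2.2.2 a ha ha1) (hY.2.2.2 a ha ha1)

theorem signalizerInf_le {B : Subgroup G} {b : G} (hb : b ∈ B) (hb1 : b ≠ 1) :
    signalizerInf B θ ≤ θ b :=
  iInf_le_of_le ⟨b, hb, hb1⟩ le_rfl

theorem signalizerInf_le_centralizer (hθ : IsSolvableSignalizerFunctor p A θ) {B : Subgroup G}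
    (hB : B ≤ A) : signalizerInf B θ ≤ centralizer (B : Set G) := by
  intro x hx
  refine mem_centralizer_iff.mpr fun b hb => ?_
  by_cases hb1 : b = 1
  · simp [hb1]
  · exact (mem_centralizer_singleton_iff.mp
      (le_centralizer hθ (hB hb) hb1 (signalizerInf_le hb hb1 hx))).symm

theorem signalizerInf_mem_family (hθ : IsSolvableSignalizerFunctor p A θ) {B : Subgroup G}
    (hB : B ≤ A) (hne : B ≠ ⊥) : signalizerInf B θ ∈ signalizerFamily p A θ := by
  obtain ⟨b, hb, hb1⟩ := (bot_or_exists_ne_one B).resolve_left hne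
  refine mem_family_of_le_value hθ (hB hb) hb1 (signalizerInf_le hb hb1) ?_
  refine conj_invariant_iff.mp fun a ha x hx => ?_
  simp only [signalizerInf, mem_iInf] at hx ⊢
  exact fun c => hθ.1.2.2.1 c (hB c.2.1) c.2.2 a ha x (hx c)

theorem inf_centralizer_le_signalizerInf {X B : Subgroup G} (hX : X ∈ signalizerFamily p A θ)
    (hB : B ≤ A) : X ⊓ centralizer (B : Set G) ≤ signalizerInf B θ := by
  refine le_iInf fun b => ?_
  refine le_trans (inf_le_inf_left X ?_) (hX.2.2.2 b (hB b.2.1) b.2.2)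
  exact centralizer_le (Set.singleton_subset_iff.mpr b.2.1)

theorem inf_centralizer_eq_inf_signalizerInf (hθ : IsSolvableSignalizerFunctor p A θ)
    {X B : Subgroup G} (hX : X ∈ signalizerFamily p A θ) (hB : B ≤ A) :
    X ⊓ centralizer (B : Set G) = X ⊓ signalizerInf B θ :=
  le_antisymm (le_inf inf_le_left (inf_centralizer_le_signalizerInf hX hB))
    (inf_le_inf_left X (signalizerInf_le_centralizer hθ hB))

/-- A family member is generated by its intersections with `θ(C_G(D))`, `D` hyperplanes of `B`. -/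
theorem eq_iSup_inf_signalizerInf (hA : IsElementaryAbelian p A)
    (hθ : IsSolvableSignalizerFunctor p A θ) {X B : Subgroup G} (hX : X ∈ signalizerFamily p A θ)
    (hB : B ≤ A) (hB2 : p ^ 2 ≤ Nat.card B) :
    X = ⨆ D : {D : Subgroup G // D ≤ B ∧ D.relIndex B = p}, X ⊓ signalizerInf (D : Subgroup G) θ := by
  refine le_antisymm ?_ (iSup_le fun D => inf_le_left)
  refine le_of_hyperplanes (elemAb_of_le hA hB) (ne_bot_of_pow_le (by norm_num) hB2)
    (hB.trans (family_normalizer hX)) hX.2.1 fun D hD hidx => ?_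
  refine le_iSup_of_le (⟨D, hD, hidx⟩ : {D : Subgroup G // D ≤ B ∧ D.relIndex B = p}) ?_
  exact le_inf inf_le_left (inf_centralizer_le_signalizerInf hX (hD.trans hB))

/-- Conjugation by `θ(C_G(A))` preserves the family. -/
theorem map_conj_mem_family (hθ : IsSolvableSignalizerFunctor p A θ) {U : Subgroup G}
    (hU : U ∈ signalizerFamily p A θ) {c : G} (hc : c ∈ signalizerInf A θ) :
    U.map (MulAut.conj c).toMonoidHom ∈ signalizerFamily p A θ := by
  have hcA := mem_centralizer_iff.mp (signalizerInf_le_centralizer hθ le_rfl hc)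
  haveI := hU.1
  refine ⟨Group.isSolvable_of_surjective ((MulAut.conj c).toMonoidHom.subgroupMap_surjective U),
    by rw [card_map_conj]; exact hU.2.1, ?_, ?_⟩
  · rintro b hb _ ⟨u, hu, rfl⟩
    refine ⟨b * u * b⁻¹, hU.2.2.1 b hb u hu, ?_⟩
    show c * (b * u * b⁻¹) * c⁻¹ = b * (c * u * c⁻¹) * b⁻¹
    have h1 : c * b = b * c := (hcA b hb).symm
    have h2 : b⁻¹ * c⁻¹ = c⁻¹ * b⁻¹ := by rw [← mul_inv_rev, h1, mul_inv_rev]
    calc c * (b * u * b⁻¹) * c⁻¹ = (c * b) * u * (b⁻¹ * c⁻¹) := by group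
      _ = (b * c) * u * (c⁻¹ * b⁻¹) := by rw [h1, h2]
      _ = _ := by group
  · intro a ha ha1 w hw
    obtain ⟨⟨u, hu, rfl⟩, hw2⟩ := mem_inf.mp hw
    have h1 : c * a = a * c := (hcA a ha).symm
    have hu2 : u ∈ centralizer ({a} : Set G) := by
      rw [mem_centralizer_singleton_iff] at hw2 ⊢
      have hw3 : c * u * c⁻¹ * a = a * (c * u * c⁻¹) := hw2
      calc u * a = c⁻¹ * ((c * u * c⁻¹) * (c * a)) := by group
        _ = c⁻¹ * ((c * u * c⁻¹) * (a * c)) := by rw [h1]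
        _ = c⁻¹ * (((c * u * c⁻¹) * a) * c) := by group
        _ = c⁻¹ * ((a * (c * u * c⁻¹)) * c) := by rw [hw3]
        _ = c⁻¹ * (a * c) * u := by group
        _ = c⁻¹ * (c * a) * u := by rw [h1]
        _ = a * u := by group
    have hcθ := signalizerInf_le ha ha1 hc
    exact mul_mem (mul_mem hcθ (hU.2.2.2 a ha ha1 ⟨hu, hu2⟩)) (inv_mem hcθ)

/-- Enlarging a `q`-member of the family to a maximal one. -/
theorem exists_maximal_ge {q : ℕ} {U : Subgroup G} (hU : U ∈ signalizerFamily p A θ)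
    (hUq : IsPGroup q U) : ∃ Q, Q ∈ signalizerFamily p A θ ∧ IsPGroup q Q ∧ U ≤ Q ∧
      ∀ R ∈ signalizerFamily p A θ, IsPGroup q R → Q ≤ R → R = Q := by
  have hfin := Set.toFinite {R : Subgroup G | R ∈ signalizerFamily p A θ ∧ IsPGroup q R}
  obtain ⟨Q, hUQ, hQ⟩ := hfin.exists_le_maximal (a := U) ⟨hU, hUq⟩
  exact ⟨Q, hQ.prop.1, hQ.prop.2, hUQ,
    fun R hR hRq hle => le_antisymm (hQ.le_of_ge ⟨hR, hRq⟩ hle) hle⟩

/-- Two `q`-groups with a common proper intersection: a nontrivial element of `A` moves both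
out of the intersection. -/
theorem exists_common_centralizing (hA : IsElementaryAbelian p A) (hA3 : p ^ 3 ≤ Nat.card A)
    {q : ℕ} [Fact q.Prime] {Q₁ Q₂ : Subgroup G} (h₁ : IsPGroup q Q₁) (h₂ : IsPGroup q Q₂)
    (hp₁ : ¬ p ∣ Nat.card Q₁) (hp₂ : ¬ p ∣ Nat.card Q₂)
    (hA₁ : A ≤ normalizer (Q₁ : Set G)) (hA₂ : A ≤ normalizer (Q₂ : Set G))
    (hD₁ : Q₁ ⊓ Q₂ ≠ Q₁) (hD₂ : Q₁ ⊓ Q₂ ≠ Q₂) :
    ∃ a ∈ A, a ≠ 1 ∧
      ¬ (normalizer ((Q₁ ⊓ Q₂ : Subgroup G) : Set G) ⊓ Q₁ ⊓ centralizer {a} ≤ Q₁ ⊓ Q₂) ∧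
      ¬ (normalizer ((Q₁ ⊓ Q₂ : Subgroup G) : Set G) ⊓ Q₂ ⊓ centralizer {a} ≤ Q₁ ⊓ Q₂) := by
  have key : ∀ Q D : Subgroup G, IsPGroup q Q → ¬ p ∣ Nat.card Q → A ≤ normalizer (Q : Set G) →
      A ≤ normalizer (D : Set G) → D ≤ Q → D ≠ Q →
      ∃ B ≤ A, B.relIndex A = p ∧
        ¬ (normalizer (D : Set G) ⊓ Q) ⊓ centralizer (B : Set G) ≤ D := by
    intro Q D hQ hpQ hAQ hAD hDQ hne
    by_contra hcon
    push Not at hcon
    have h1 : normalizer (D : Set G) ⊓ Q ≤ D := le_of_hyperplanes hA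
      (ne_bot_of_pow_le (k := 3) (by norm_num) hA3)
      ((le_inf (hAD.trans le_normalizer) hAQ).trans inf_normalizer_le_normalizer_inf)
      (fun h => hpQ (h.trans (card_dvd_of_le inf_le_right))) hcon
    haveI := hQ.isNilpotent
    have hlt : D.subgroupOf Q < ⊤ :=
      lt_top_iff_ne_top.mpr fun h => hne (le_antisymm hDQ (subgroupOf_eq_top.mp h))
    obtain ⟨y, hy, hyD⟩ := SetLike.exists_of_lt (normalizerCondition_of_isNilpotent _ hlt)
    refine hyD (h1 (mem_inf.mpr ⟨?_, y.2⟩))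
    have := le_normalizer_map Q.subtype (mem_map_of_mem Q.subtype hy)
    rwa [map_subgroupOf_eq_of_le hDQ] at this
  have hAD := (le_inf hA₁ hA₂).trans inf_normalizer_le_normalizer_inf
  obtain ⟨B₁, hB₁, hi₁, hn₁⟩ := key Q₁ _ h₁ hp₁ hA₁ hAD inf_le_left hD₁
  obtain ⟨B₂, hB₂, hi₂, hn₂⟩ := key Q₂ _ h₂ hp₂ hA₂ hAD inf_le_right hD₂
  obtain ⟨a, ha1, ha2, hane⟩ := exists_mem_inf hA3 hB₁ hi₁ hi₂
  exact ⟨a, hB₁ ha1, hane,
    fun h => hn₁ ((inf_le_inf_left _ (centralizer_le (Set.singleton_subset_iff.mpr ha1))).trans h),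
    fun h => hn₂ ((inf_le_inf_left _ (centralizer_le (Set.singleton_subset_iff.mpr ha2))).trans h)⟩

/-- **Transitivity theorem.** -/
theorem transitivity (hA : IsElementaryAbelian p A) (hA3 : p ^ 3 ≤ Nat.card A)
    (hθ : IsSolvableSignalizerFunctor p A θ) {q : ℕ} [Fact q.Prime] :
    ∀ {Q₁ Q₂ : Subgroup G}, Q₁ ∈ signalizerFamily p A θ → IsPGroup q Q₁ →
      (∀ R ∈ signalizerFamily p A θ, IsPGroup q R → Q₁ ≤ R → R = Q₁) →
      Q₂ ∈ signalizerFamily p A θ → IsPGroup q Q₂ →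
      (∀ R ∈ signalizerFamily p A θ, IsPGroup q R → Q₂ ≤ R → R = Q₂) →
      ∃ c ∈ signalizerInf A θ, Q₁.map (MulAut.conj c).toMonoidHom = Q₂ := by
  have hAne : A ≠ ⊥ := ne_bot_of_pow_le (k := 3) (by norm_num) hA3
  suffices ∀ n, ∀ {Q₁ Q₂ : Subgroup G}, Q₁ ∈ signalizerFamily p A θ → IsPGroup q Q₁ →
      (∀ R ∈ signalizerFamily p A θ, IsPGroup q R → Q₁ ≤ R → R = Q₁) →
      Q₂ ∈ signalizerFamily p A θ → IsPGroup q Q₂ →
      (∀ R ∈ signalizerFamily p A θ, IsPGroup q R → Q₂ ≤ R → R = Q₂) →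
      Nat.card G - Nat.card ↥(Q₁ ⊓ Q₂) = n →
      ∃ c ∈ signalizerInf A θ, Q₁.map (MulAut.conj c).toMonoidHom = Q₂ by
    intro Q₁ Q₂ a b c d e f
    exact this _ a b c d e f rfl
  intro n
  induction n using Nat.strong_induction_on with
  | _ n ih =>
  intro Q₁ Q₂ h₁ h₁q h₁m h₂ h₂q h₂m hn
  set D := Q₁ ⊓ Q₂ with hD
  have hrefl : ∀ Q : Subgroup G, ∃ c ∈ signalizerInf A θ, Q.map (MulAut.conj c).toMonoidHom = Q :=
    fun Q => ⟨1, one_mem _, map_conj_eq_self_iff.mpr (one_mem _)⟩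
  by_cases hD₁ : D = Q₁
  · rw [h₁m Q₂ h₂ h₂q (hD₁ ▸ inf_le_right)]
    exact hrefl Q₁
  by_cases hD₂ : D = Q₂
  · rw [← h₂m Q₁ h₁ h₁q (hD₂ ▸ inf_le_left)]
    exact hrefl Q₁
  obtain ⟨a, ha, ha1, hn₁, hn₂⟩ := exists_common_centralizing hA hA3 h₁q h₂q h₁.2.1 h₂.2.1
    (family_normalizer h₁) (family_normalizer h₂) hD₁ hD₂
  have hAD : A ≤ normalizer (D : Set G) :=
    (le_inf (family_normalizer h₁) (family_normalizer h₂)).trans inf_normalizer_le_normalizer_inf
  have hAC : A ≤ normalizer (centralizer ({a} : Set G) : Set G) := by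
    refine le_trans (fun b hb => ?_) le_normalizer
    exact mem_centralizer_singleton_iff.mpr (elemAb_comm hA hb ha)
  set T := θ a ⊓ normalizer (D : Set G) with hT
  have hAT : A ≤ normalizer (T : Set G) :=
    (le_inf (le_normalizer_value hθ ha ha1) (hAD.trans le_normalizer)).trans
      inf_normalizer_le_normalizer_inf
  have hpT : ¬ p ∣ Nat.card T := fun h => hθ.1.2.1 a ha ha1 (h.trans (card_dvd_of_le inf_le_left))
  have hAsol : Group.IsSolvable A := haveI := (elemAb_isPGroup hA).isNilpotent; inferInstance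
  have hRA : ∀ Q : Subgroup G, A ≤ normalizer (Q : Set G) →
      A ≤ normalizer ((normalizer (D : Set G) ⊓ Q ⊓ centralizer {a} : Subgroup G) : Set G) :=
    fun Q hQ => (le_inf ((le_inf (hAD.trans le_normalizer) hQ).trans inf_normalizer_le_normalizer_inf)
      hAC).trans inf_normalizer_le_normalizer_inf
  have hRT : ∀ Q ∈ signalizerFamily p A θ,
      normalizer (D : Set G) ⊓ Q ⊓ centralizer {a} ≤ T := fun Q hQ =>
    le_inf (le_trans (inf_le_inf_right _ inf_le_right) (hQ.2.2.2 a ha ha1))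
      (inf_le_left.trans inf_le_left)
  obtain ⟨S₁, hS₁, hAS₁⟩ := CfsgLib.Coprime.exists_invariant_sylow_ge hAT
    (coprime_of_not_dvd hA hpT) (Or.inl hAsol) (hRT Q₁ h₁)
    (h₁q.to_le (inf_le_left.trans inf_le_right) : IsPGroup q _) (hRA Q₁ (family_normalizer h₁))
  obtain ⟨S₂, hS₂, hAS₂⟩ := CfsgLib.Coprime.exists_invariant_sylow_ge hAT
    (coprime_of_not_dvd hA hpT) (Or.inl hAsol) (hRT Q₂ h₂)
    (h₂q.to_le (inf_le_left.trans inf_le_right) : IsPGroup q _) (hRA Q₂ (family_normalizer h₂))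
  obtain ⟨c, hcA, hcS⟩ := CfsgLib.Coprime.invariant_sylow_conj hAT (coprime_of_not_dvd hA hpT)
    (Or.inl hAsol) S₁ S₂ hAS₁ hAS₂
  set V₁ := (S₁ : Subgroup T).map T.subtype with hV₁
  set V₂ := (S₂ : Subgroup T).map T.subtype with hV₂
  have hV₁T : V₁ ≤ T := map_subtype_le _
  have hcK : (c : G) ∈ signalizerInf A θ := by
    simp only [signalizerInf, mem_iInf]
    exact fun b => balance hθ ha ha1 b.2.1 b.2.2
      ⟨c.2.1, mem_centralizer_singleton_iff.mpr (mem_centralizer_iff.mp hcA b b.2.1).symm⟩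
  have hcD : (c : G) ∈ normalizer (D : Set G) := c.2.2
  have hV₁n : V₁ ≤ normalizer (D : Set G) := hV₁T.trans inf_le_right
  have hV₁mem := mem_family_of_le_value hθ ha ha1 (hV₁T.trans inf_le_left) hAS₁
  have hDmem := mem_family_of_le hθ h₁ (inf_le_left : D ≤ Q₁) hAD
  have hMmem : D ⊔ V₁ ∈ signalizerFamily p A θ := sup_mem_family hA hDmem hV₁mem hV₁n
  have hMq : IsPGroup q ↥(D ⊔ V₁) :=
    (h₁q.to_le (inf_le_left : D ≤ Q₁)).to_sup_of_normal_left' (S₁.isPGroup'.map _) hV₁n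
  obtain ⟨Q₃, h₃, h₃q, hM₃, h₃m⟩ := exists_maximal_ge hMmem hMq
  have hlt : ∀ Q Q' R : Subgroup G, D ≤ Q → D ≤ Q' → R ≤ Q → R ≤ Q' → ¬ R ≤ D →
      Nat.card G - Nat.card ↥(Q ⊓ Q') < n := by
    intro Q Q' R h1 h2 h3 h4 h5
    have hc : Nat.card D < Nat.card ↥(Q ⊓ Q') :=
      lt_of_le_of_ne (card_le_of_le (le_inf h1 h2)) fun he =>
        h5 (eq_of_le_of_card_ge (le_inf h1 h2) he.ge ▸ le_inf h3 h4)
    have hG : Nat.card ↥(Q ⊓ Q') ≤ Nat.card G := card_le_card_group _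
    omega
  obtain ⟨c₁, hc₁, hQ₁₃⟩ := ih _ (hlt Q₁ Q₃ _ inf_le_left (le_sup_left.trans hM₃)
    (inf_le_left.trans inf_le_right) (hS₁.trans (le_sup_right.trans hM₃)) hn₁)
    h₁ h₁q h₁m h₃ h₃q h₃m rfl
  set Q₄ := Q₃.map (MulAut.conj (c : G)).toMonoidHom with hQ₄
  have h₄ := map_conj_mem_family hθ h₃ hcK
  have h₄q : IsPGroup q Q₄ := h₃q.map _
  have h₄m : ∀ R ∈ signalizerFamily p A θ, IsPGroup q R → Q₄ ≤ R → R = Q₄ := by
    intro R hR hRq hle
    refine (eq_of_le_of_card_ge hle ?_).symm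
    have h5 := h₃m _ (map_conj_mem_family hθ hR (inv_mem hcK)) (hRq.map _) ?_
    · rw [hQ₄, card_map_conj, ← h5, card_map_conj]
    · intro x hx
      rw [mem_map_conj, inv_inv]
      exact hle ⟨x, hx, rfl⟩
  have hD₄ : D ≤ Q₄ := by
    rw [← map_conj_eq_self_iff.mpr hcD]
    exact map_mono (le_sup_left.trans hM₃)
  have hV₂₄ : V₂ ≤ Q₄ := by
    intro x hx
    obtain ⟨y, hy, rfl⟩ := hx
    rw [← hcS] at hy
    obtain ⟨z, hz, rfl⟩ := hy
    exact ⟨(z : G), hM₃ (mem_sup_right ⟨z, hz, rfl⟩), rfl⟩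
  obtain ⟨c₂, hc₂, hQ₄₂⟩ := ih _ (hlt Q₄ Q₂ _ hD₄ inf_le_right (hS₂.trans hV₂₄)
    (inf_le_left.trans inf_le_right) hn₂) h₄ h₄q h₄m h₂ h₂q h₂m rfl
  refine ⟨c₂ * c * c₁, mul_mem (mul_mem hc₂ hcK) hc₁, ?_⟩
  rw [← hQ₄₂, ← hQ₁₃, Subgroup.map_map, Subgroup.map_map]
  congr 1
  ext x
  simp [mul_assoc]

/-- Some conjugate of a maximal `q`-member meets each member in a Sylow `q`-subgroup. -/
theorem exists_sylow_inf (hA : IsElementaryAbelian p A) (hA3 : p ^ 3 ≤ Nat.card A)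
    (hθ : IsSolvableSignalizerFunctor p A θ) {q : ℕ} [Fact q.Prime] {Q : Subgroup G}
    (hQW : Q ∈ signalizerFamily p A θ) (hQq : IsPGroup q Q)
    (hQmax : ∀ R ∈ signalizerFamily p A θ, IsPGroup q R → Q ≤ R → R = Q) {H : Subgroup G}
    (hH : H ∈ signalizerFamily p A θ) :
    ∃ c ∈ signalizerInf A θ, ∃ S : Sylow q H,
      (S : Subgroup H).map H.subtype = Q.map (MulAut.conj c).toMonoidHom ⊓ H := by
  obtain ⟨S, hS⟩ := CfsgLib.Coprime.exists_invariant_sylow (p := q) (family_normalizer hH)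
    (coprime_of_not_dvd hA hH.2.1)
    (Or.inl (haveI := (elemAb_isPGroup hA).isNilpotent; inferInstance))
  set V := (S : Subgroup H).map H.subtype with hV
  obtain ⟨Q', h', h'q, hVQ, h'm⟩ := exists_maximal_ge
    (mem_family_of_le hθ hH (map_subtype_le _) hS) (S.isPGroup'.map _)
  obtain ⟨c, hc, hcQ⟩ := transitivity hA hA3 hθ hQW hQq hQmax h' h'q h'm
  refine ⟨c, hc, S, le_antisymm (le_inf (hcQ ▸ hVQ) (map_subtype_le _)) ?_⟩
  intro x hx
  have hle : (S : Subgroup H) ≤ (Q.map (MulAut.conj c).toMonoidHom).subgroupOf H := fun y hy => by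
    rw [mem_subgroupOf, hcQ]
    exact hVQ ⟨y, hy, rfl⟩
  have := S.is_maximal' ((hQq.map _).comap_of_injective _ H.subtype_injective) hle
  exact ⟨⟨x, hx.2⟩, this ▸ hx.1, rfl⟩

theorem exists_sylow_signalizerInf (hA : IsElementaryAbelian p A) (hA3 : p ^ 3 ≤ Nat.card A)
    (hθ : IsSolvableSignalizerFunctor p A θ) {q : ℕ} [Fact q.Prime] {Q : Subgroup G}
    (hQW : Q ∈ signalizerFamily p A θ) (hQq : IsPGroup q Q)
    (hQmax : ∀ R ∈ signalizerFamily p A θ, IsPGroup q R → Q ≤ R → R = Q) {B : Subgroup G}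
    (hB : B ≤ A) (hne : B ≠ ⊥) :
    ∃ S : Sylow q ↥(signalizerInf B θ),
      (S : Subgroup ↥(signalizerInf B θ)).map (signalizerInf B θ).subtype =
        Q ⊓ centralizer (B : Set G) := by
  set K := signalizerInf B θ with hK
  obtain ⟨c, hc, S, hS⟩ := exists_sylow_inf hA hA3 hθ hQW hQq hQmax
    (signalizerInf_mem_family hθ hB hne)
  have hcK : c ∈ K := le_iInf (fun b : {b : G // b ∈ B ∧ b ≠ 1} =>
    signalizerInf_le (hB b.2.1) b.2.2) hc
  refine ⟨(⟨c, hcK⟩ : K)⁻¹ • S, ?_⟩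
  rw [inf_centralizer_eq_inf_signalizerInf hθ hQW hB]
  show ((S : Subgroup K).map (MulAut.conj (⟨c, hcK⟩ : K)⁻¹).toMonoidHom).map K.subtype = Q ⊓ K
  have h1 : ((S : Subgroup K).map (MulAut.conj (⟨c, hcK⟩ : K)⁻¹).toMonoidHom).map K.subtype =
      ((S : Subgroup K).map K.subtype).map (MulAut.conj c⁻¹).toMonoidHom := by
    rw [Subgroup.map_map, Subgroup.map_map]
    congr 1
  rw [h1, hS, Subgroup.map_inf _ _ _ (MulAut.conj c⁻¹).injective, Subgroup.map_map,
    map_conj_eq_self_iff.mpr (le_normalizer (inv_mem hcK))]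
  congr 1
  convert Subgroup.map_id Q using 2
  ext x
  simp [mul_assoc]

/-- A functor with values in `q`-groups is complete. -/
theorem complete_of_isPGroup (hA : IsElementaryAbelian p A) (hA3 : p ^ 3 ≤ Nat.card A)
    (hθ : IsSolvableSignalizerFunctor p A θ) {q : ℕ} [Fact q.Prime]
    (hq : ∀ a ∈ A, a ≠ 1 → IsPGroup q (θ a)) : IsCompleteSignalizerFunctor p A θ := by
  have hAne : A ≠ ⊥ := ne_bot_of_pow_le (k := 3) (by norm_num) hA3
  obtain ⟨b, hb, hb1⟩ := (bot_or_exists_ne_one A).resolve_left hAne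
  set K := signalizerInf A θ with hK
  have hKW := signalizerInf_mem_family hθ le_rfl hAne
  obtain ⟨Q, hQ, hQq, -, hQm⟩ :=
    exists_maximal_ge hKW ((hq b hb hb1).to_le (signalizerInf_le hb hb1))
  have hKQ : K ≤ Q := by
    obtain ⟨S, hS⟩ := exists_sylow_signalizerInf hA hA3 hθ hQ hQq hQm le_rfl hAne
    have hKq : IsPGroup q (⊤ : Subgroup K) :=
      ((hq b hb hb1).to_le (signalizerInf_le hb hb1)).to_subgroup ⊤
    have : (S : Subgroup K) = ⊤ := (S.is_maximal' hKq le_top).symm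
    rw [this, ← MonoidHom.range_eq_map, range_subtype] at hS
    exact hS.le.trans inf_le_left
  refine ⟨hθ.1, Q, hQ.2.2.1, hQ.2.1, fun a ha ha1 => le_antisymm (hQ.2.2.2 a ha ha1) ?_⟩
  refine le_inf ?_ (le_centralizer hθ ha ha1)
  obtain ⟨c, hc, S, hS⟩ := exists_sylow_inf hA hA3 hθ hQ hQq hQm
    (mem_family_of_le_value hθ ha ha1 le_rfl (le_normalizer_value hθ ha ha1))
  have : (S : Subgroup (θ a)) = ⊤ :=
    (S.is_maximal' ((hq a ha ha1).to_subgroup ⊤) le_top).symm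
  rw [this, ← MonoidHom.range_eq_map, range_subtype,
    map_conj_eq_self_iff.mpr (le_normalizer (hKQ hc))] at hS
  exact hS.le.trans inf_le_left

end CfsgLib.Signalizer
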