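import Mathlib
import Cfsg.Agent.Lib.Components.Basic

/-!
# Products of pairwise commuting subgroups and the centre of the layer
-/

set_option autoImplicit false

open scoped Pointwise

namespace CfsgLib.Components

open Cfsg Subgroup

variable {G : Type*} [Group G]

/-- An element of a join of pairwise commuting subgroups which centralises the join lies in the
join of their centres. -/
theorem mem_iSup_center_of_commuting (S : Finset (Subgroup G))
    (hS : (↑S : Set (Subgroup G)).Pairwise fun A B => ⁅A, B⁆ = ⊥) {x : G}
    (hx : x ∈ S.sup id) (hc : x ∈ centralizer ((S.sup id : Subgroup G) : Set G)) :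
    x ∈ S.sup (fun L => L ⊓ centralizer (L : Set G)) := by
  classical
  induction S using Finset.induction_on generalizing x with
  | empty => simpa using hx
  | insert L T hLT ih =>
    rw [Finset.sup_insert, id] at hx hc
    have hpair : ∀ M ∈ T, ⁅L, M⁆ = ⊥ := fun M hM =>
      hS (Finset.mem_coe.mpr (Finset.mem_insert_self L T))
        (Finset.mem_coe.mpr (Finset.mem_insert_of_mem hM)) (fun h => hLT (h ▸ hM))
    have hLc : L ≤ centralizer ((T.sup id : Subgroup G) : Set G) := by
      rw [le_centralizer_iff, Finset.sup_le_iff]
      intro M hM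
      exact le_centralizer_iff.mp (commutator_eq_bot_iff_le_centralizer.mp (hpair M hM))
    have hmem : x ∈ ((L : Set G) * ((T.sup id : Subgroup G) : Set G)) := by
      rw [← coe_mul_of_left_le_normalizer_right L (T.sup id)
        (hLc.trans (centralizer_le_normalizer _))]
      exact hx
    obtain ⟨a, ha, b, hb, rfl⟩ := Set.mem_mul.mp hmem
    have hac : a ∈ centralizer (L : Set G) := by
      rw [mem_centralizer_iff]
      intro y hy
      have h1 : y * (a * b) = a * b * y := mem_centralizer_iff.mp hc y (mem_sup_left hy)
      have h2 : b * y = y * b := mem_centralizer_iff.mp (hLc hy) b hb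
      rw [mul_assoc a b y, h2, ← mul_assoc, ← mul_assoc] at h1
      exact mul_right_cancel h1
    have hbc : b ∈ centralizer ((T.sup id : Subgroup G) : Set G) := by
      rw [mem_centralizer_iff]
      intro y hy
      have h1 : y * (a * b) = a * b * y := mem_centralizer_iff.mp hc y (mem_sup_right hy)
      have h2 : y * a = a * y := mem_centralizer_iff.mp (hLc ha) y hy
      rw [← mul_assoc, h2, mul_assoc, mul_assoc] at h1
      exact mul_left_cancel h1
    rw [Finset.sup_insert]
    exact mul_mem_sup (mem_inf.mpr ⟨ha, hac⟩) (ih (hS.mono (by simp)) hb hbc)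

theorem inf_centralizer_self_eq_map_center (H : Subgroup G) :
    H ⊓ centralizer (H : Set G) = (center ↥H).map H.subtype := by
  ext x
  constructor
  · rintro ⟨hx, hxc⟩
    exact ⟨⟨x, hx⟩, mem_center_iff.mpr fun y => Subtype.ext
      (mem_centralizer_iff.mp hxc y y.2), rfl⟩
  · rintro ⟨y, hy, rfl⟩
    exact ⟨y.2, mem_centralizer_iff.mpr fun z hz =>
      congrArg Subtype.val (mem_center_iff.mp hy ⟨z, hz⟩)⟩

/-- `Z(E(G))` is generated by the centres of the components. -/
theorem layer_inf_centralizer_eq_iSup [Finite G] :
    layer G ⊓ centralizer (layer G : Set G) =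
      ⨆ L : {K : Subgroup G // IsComponent K},
        (L : Subgroup G) ⊓ centralizer ((L : Subgroup G) : Set G) := by
  classical
  haveI : Finite (Subgroup G) := inferInstance
  apply le_antisymm
  · let S : Finset (Subgroup G) := (Set.toFinite {K : Subgroup G | IsComponent K}).toFinset
    have hS : ∀ K, K ∈ S ↔ IsComponent K := fun K => by simp [S]
    have he : S.sup id = layer G :=
      le_antisymm (Finset.sup_le fun K hK => component_le_layer ((hS K).mp hK))
        (layer_le_iff.mpr fun K hK => Finset.le_sup (f := id) ((hS K).mpr hK))
    intro x hx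
    have hp : (↑S : Set (Subgroup G)).Pairwise fun A B => ⁅A, B⁆ = ⊥ := fun A hA B hB hne =>
      components_commute ((hS A).mp hA) ((hS B).mp hB) hne
    have := mem_iSup_center_of_commuting S hp (x := x) (he ▸ hx.1) (he ▸ hx.2)
    refine (Finset.sup_le fun K hK => ?_ : S.sup (fun L => L ⊓ centralizer (L : Set G)) ≤ _) this
    exact le_iSup_of_le ⟨K, (hS K).mp hK⟩ le_rfl
  · refine iSup_le fun K => le_inf (inf_le_left.trans (component_le_layer K.2)) ?_
    rw [le_centralizer_iff]
    refine layer_le_iff.mpr fun M hM => ?_
    by_cases h : M = K.1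
    · subst h
      exact le_centralizer_iff.mp inf_le_right
    · rw [le_centralizer_iff]
      exact inf_le_left.trans (le_centralizer_iff.mp
        (commutator_eq_bot_iff_le_centralizer.mp (components_commute hM K.2 h)))

theorem map_center_layer [Finite G] :
    (center ↥(layer G)).map (layer G).subtype =
      ⨆ L : {K : Subgroup G // IsComponent K},
        (center ↥(L : Subgroup G)).map (L : Subgroup G).subtype := by
  rw [← inf_centralizer_self_eq_map_center, layer_inf_centralizer_eq_iSup]
  simp only [inf_centralizer_self_eq_map_center]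

end CfsgLib.Components
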