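import Mathlib
import Cfsg.Prelude.Def_Balance
import Cfsg.Agent.Lib.Components.PComponents
import Cfsg.Agent.Lib.Transfer.NormalPComplement

/-!
# The extended 2-layer, and normalisers of `p`-components
-/

set_option autoImplicit false
set_option linter.style.haveILetI false
set_option linter.unusedSectionVars false

open scoped Pointwise

namespace CfsgLib.Components

open Cfsg Subgroup CfsgLib.Base

variable {G : Type*} [Group G] {G' : Type*} [Group G'] {p : ℕ}

theorem card_map_pPrimeCore_coprime [Finite G] (C : Subgroup G) :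
    (Nat.card ((pPrimeCore p C).map C.subtype)).Coprime p :=
  coprime_card_map_pPrimeCore C

theorem map_map_pPrimeCore_le [Finite G] (e : G ≃* G') (C : Subgroup G) :
    ((pPrimeCore p C).map C.subtype).map e.toMonoidHom ≤
      (pPrimeCore p ↥(C.map e.toMonoidHom)).map (C.map e.toMonoidHom).subtype := by
  haveI := Finite.of_equiv G e.toEquiv
  refine le_map_pPrimeCore (map_mono (map_subtype_le _)) ?_ ?_
  · exact (map_mono (le_normalizer_map_pPrimeCore C)).trans (le_normalizer_map _)
  · rw [card_map_mulEquiv]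
    exact coprime_card_map_pPrimeCore C

/-- Isomorphisms carry `O_{p'}` of a subgroup to `O_{p'}` of the image. -/
theorem map_map_pPrimeCore [Finite G] (e : G ≃* G') (C : Subgroup G) :
    ((pPrimeCore p C).map C.subtype).map e.toMonoidHom =
      (pPrimeCore p ↥(C.map e.toMonoidHom)).map (C.map e.toMonoidHom).subtype := by
  haveI := Finite.of_equiv G e.toEquiv
  refine le_antisymm (map_map_pPrimeCore_le e C) ?_
  have h := map_mono (f := e.toMonoidHom)
    (map_map_pPrimeCore_le (p := p) e.symm (C.map e.toMonoidHom))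
  rw [map_equiv_map_symm] at h
  refine h.trans (map_mono ?_)
  rw [map_equiv_symm_map]

/-- `g` normalises a `p`-component iff its image normalises the component of the quotient. -/
theorem mem_normalizer_pComponent_iff [Finite G] [Fact p.Prime] {K : Subgroup G}
    (hK : IsPComponent p K) (g : G) :
    g ∈ normalizer (K : Set G) ↔ QuotientGroup.mk' (pPrimeCore p G) g ∈
      normalizer ((K.map (QuotientGroup.mk' (pPrimeCore p G)) : Subgroup _) : Set _) := by
  set f := QuotientGroup.mk' (pPrimeCore p G) with hf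
  have comm : (K.map (MulAut.conj g).toMonoidHom).map f =
      (K.map f).map (MulAut.conj (f g)).toMonoidHom := by
    rw [Subgroup.map_map, Subgroup.map_map]
    congr 1
  rw [← map_conj_eq_self_iff, ← map_conj_eq_self_iff, ← comm]
  refine ⟨fun h => by rw [h], fun h => ?_⟩
  exact pComponent_eq_of_map_eq (isPComponent_map_equiv _ hK) hK h

theorem pPrimeCore_le_normalizer_pComponent [Finite G] [Fact p.Prime] {K : Subgroup G}
    (hK : IsPComponent p K) : pPrimeCore p G ≤ normalizer (K : Set G) := fun g hg => by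
  rw [mem_normalizer_pComponent_iff hK, show QuotientGroup.mk' (pPrimeCore p G) g = 1 from
    (QuotientGroup.eq_one_iff g).mpr hg]
  exact one_mem _

/-- A Sylow subgroup meets a subnormal subgroup in a Sylow subgroup. -/
theorem not_dvd_relIndex_of_isSubnormal [Finite G] [Fact p.Prime] (P : Sylow p G) {H : Subgroup G}
    (hH : H.IsSubnormal) : ¬ p ∣ (P : Subgroup G).relIndex H := by
  induction hH with
  | top => rw [relIndex_top_right]; exact P.not_dvd_index
  | step H K hle _ hn ih =>
    haveI := hn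
    let S : Sylow p ↥K :=
      (P.isPGroup'.comap_of_injective K.subtype K.subtype_injective).toSylow ih
    have h := Transfer.not_dvd_index_subgroupOf_of_normal S (H.subgroupOf K)
    have h2 : ((S : Subgroup ↥K).relIndex (H.subgroupOf K)) = (P : Subgroup G).relIndex H := by
      show ((P : Subgroup G).subgroupOf K).relIndex (H.subgroupOf K) = _
      exact relIndex_subgroupOf hle
    rw [← h2]
    exact h

/-- A `p`-subgroup of index prime to `p` in a component of `G ⧸ O_{p'}(G)` is not central. -/
theorem component_sylow_not_central [Finite G] [Fact p.Prime] (hO : pPrimeCore p G = ⊥)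
    {L Q : Subgroup G} (hL : IsComponent L) (hQ : IsPGroup p Q) (hidx : ¬ p ∣ Q.relIndex L) :
    ¬ Q ⊓ L ≤ centralizer (L : Set G) := by
  intro hc
  have hQ' : IsPGroup p ↥(Q.subgroupOf L) := hQ.comap_of_injective L.subtype L.subtype_injective
  have hle : Q.subgroupOf L ≤ center ↥L := fun x hx => mem_center_iff.mpr fun y =>
    Subtype.ext (mem_centralizer_iff.mp (hc (mem_inf.mpr ⟨hx, x.2⟩)) y y.2)
  have hcop : (center ↥L).index.Coprime p :=
    ((Fact.out : p.Prime).coprime_iff_not_dvd.mpr hidx).symm.coprime_dvd_left (index_dvd_of_le hle)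
  have hbot := central_pSubgroup_eq_bot_of_perfect hL.2.1 hQ' hle hcop
  have hidx' : ¬ p ∣ (Q.subgroupOf L).index := hidx
  rw [hbot, index_bot] at hidx'
  exact hidx' (dvd_card_component hO hL)

section Extended

variable [Finite G]

/-- `O(C_G(T))` inside `G`. -/
def coreCent (G : Type*) [Group G] (T : Subgroup G) : Subgroup G :=
  (oddCore ↥(centralizer (T : Set G))).map (centralizer (T : Set G)).subtype

theorem map_coreCent (e : G ≃* G') (T : Subgroup G) :
    (coreCent G T).map e.toMonoidHom = coreCent G' (T.map e.toMonoidHom) := by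
  have h : (centralizer (T : Set G)).map e.toMonoidHom =
      centralizer ((T.map e.toMonoidHom : Subgroup G') : Set G') := by
    rw [map_centralizer_mulEquiv]
    rfl
  rw [coreCent, oddCore, map_map_pPrimeCore, h]
  rfl

/-- The base subgroup `L_{2'}(G) O_{2',2}(G)` of the extended 2-layer. -/
abbrev extBase (G : Type*) [Group G] : Subgroup G := pLayer 2 G ⊔ pPrimePCore 2 G

theorem pPrimePCore_normal' (p : ℕ) (G : Type*) [Group G] : (pPrimePCore p G).Normal :=
  (inferInstance : (pCore p (G ⧸ pPrimeCore p G)).Normal).comap _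

theorem extBase_normal : (extBase G).Normal :=
  haveI := pPrimePCore_normal' 2 G
  sup_normal _ _

theorem relIndex_extBase : ∃ k, (pLayer 2 G ⊔ oddCore G).relIndex (extBase G) ∣ 2 ^ k := by
  obtain ⟨k, hk⟩ := pCore_eq_pow_card 2 (G ⧸ pPrimeCore 2 G)
  refine ⟨k, ?_⟩
  haveI : (pLayer 2 G ⊔ oddCore G).Normal := sup_normal _ _
  have hle : oddCore G ≤ pPrimePCore 2 G := pPrimeCore_le_pPrimePCore 2 G
  have h1 : extBase G = pPrimePCore 2 G ⊔ (pLayer 2 G ⊔ oddCore G) := by
    refine le_antisymm (sup_le (le_sup_left.trans le_sup_right) le_sup_left)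
      (sup_le le_sup_right (sup_le le_sup_left (hle.trans le_sup_right)))
  rw [h1, relIndex_sup_right]
  refine (relIndex_dvd_of_le_left _ le_sup_right).trans ?_
  show (pPrimeCore 2 G).relIndex (pPrimePCore 2 G) ∣ 2 ^ k
  rw [← hk, pPrimePCore]
  have hN := card_comap_mk' (pPrimeCore 2 G) (pCore 2 (G ⧸ pPrimeCore 2 G))
  have h2 : Nat.card ↥(pPrimeCore 2 G) *
      (pPrimeCore 2 G).relIndex ((pCore 2 (G ⧸ pPrimeCore 2 G)).comap (QuotientGroup.mk' _)) =
      Nat.card ↥((pCore 2 (G ⧸ pPrimeCore 2 G)).comap (QuotientGroup.mk' (pPrimeCore 2 G))) := by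
    rw [← relIndex_bot_left (pPrimeCore 2 G), ← relIndex_bot_left (Subgroup.comap _ _),
      relIndex_mul_relIndex _ _ _ bot_le (QuotientGroup.le_comap_mk' _ _)]
  rw [hN] at h2
  exact (Nat.eq_of_mul_eq_mul_left Nat.card_pos h2).le.antisymm
    (Nat.eq_of_mul_eq_mul_left Nat.card_pos h2).ge |> fun h => h ▸ dvd_rfl

theorem extBase_le_sup (T : Sylow 2 ↥(extBase G)) :
    extBase G ≤ (pLayer 2 G ⊔ oddCore G) ⊔ (T : Subgroup ↥(extBase G)).map (extBase G).subtype := by
  set M := pLayer 2 G ⊔ oddCore G with hM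
  have hMW : M ≤ extBase G := sup_le le_sup_left ((pPrimeCore_le_pPrimePCore 2 G).trans le_sup_right)
  obtain ⟨k, hk⟩ := relIndex_extBase (G := G)
  have h1 : (M.subgroupOf (extBase G) ⊔ (T : Subgroup ↥(extBase G))).index ∣ 2 ^ k :=
    (index_dvd_of_le le_sup_left).trans hk
  have h2 : ¬ 2 ∣ (M.subgroupOf (extBase G) ⊔ (T : Subgroup ↥(extBase G))).index := fun h =>
    T.not_dvd_index (h.trans (index_dvd_of_le le_sup_right))
  obtain ⟨j, -, hj⟩ := (Nat.dvd_prime_pow Nat.prime_two).mp h1
  have : M.subgroupOf (extBase G) ⊔ (T : Subgroup ↥(extBase G)) = ⊤ := by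
    rcases j with _ | j
    · exact index_eq_one.mp (by simpa using hj)
    · exact absurd (hj ▸ dvd_pow_self 2 j.succ_ne_zero) h2
  have := congrArg (Subgroup.map (extBase G).subtype) this
  rw [Subgroup.map_sup, map_subgroupOf_eq_of_le hMW, ← MonoidHom.range_eq_map, range_subtype] at this
  exact this.ge

theorem coreCent_le_of_sylow (T T' : Sylow 2 ↥(extBase G)) :
    coreCent G ((T' : Subgroup ↥(extBase G)).map (extBase G).subtype) ≤
      pLayer 2 G ⊔ oddCore G ⊔
        coreCent G ((T : Subgroup ↥(extBase G)).map (extBase G).subtype) := by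
  set T₀ := (T : Subgroup ↥(extBase G)).map (extBase G).subtype with hT₀
  set M := pLayer 2 G ⊔ oddCore G with hM
  haveI : M.Normal := sup_normal _ _
  haveI : Fact (Nat.Prime 2) := ⟨Nat.prime_two⟩
  obtain ⟨w, hw⟩ := MulAction.exists_smul_eq ↥(extBase G) T T'
  have hT' : (T' : Subgroup ↥(extBase G)).map (extBase G).subtype = T₀.map (MulAut.conj (w : G)).toMonoidHom := by
    rw [← hw]
    show ((T : Subgroup ↥(extBase G)).map (MulAut.conj w).toMonoidHom).map (extBase G).subtype = _
    rw [hT₀, Subgroup.map_map, Subgroup.map_map]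
    congr 1
  have hmem : (w : G) ∈ ((M : Set G) * (T₀ : Set G)) := by
    rw [← normal_mul]
    exact extBase_le_sup T w.2
  obtain ⟨m, hm, t, ht, hmt⟩ := Set.mem_mul.mp hmem
  have hT'2 : (T' : Subgroup ↥(extBase G)).map (extBase G).subtype = T₀.map (MulAut.conj m).toMonoidHom := by
    rw [hT', ← hmt]
    conv_rhs => rw [← map_conj_eq_self_iff.mpr (le_normalizer ht : t ∈ normalizer (T₀ : Set G))]
    rw [Subgroup.map_map, show (MulAut.conj (m * t)).toMonoidHom =
      (MulAut.conj m).toMonoidHom.comp (MulAut.conj t).toMonoidHom from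
      MonoidHom.ext fun x => by simp [mul_assoc]]
    simp only [hT₀, Subgroup.map_map]
    rfl
  rw [hT'2, ← map_coreCent]
  rintro _ ⟨x, hx, rfl⟩
  exact mul_mem (mul_mem (mem_sup_left hm) (mem_sup_right hx)) (inv_mem (mem_sup_left hm))

theorem extendedTwoLayer_eq (T : Sylow 2 ↥(extBase G)) :
    extendedTwoLayer G = pLayer 2 G ⊔ oddCore G ⊔
      coreCent G ((T : Subgroup ↥(extBase G)).map (extBase G).subtype) :=
  le_antisymm (sup_le le_sup_left (iSup_le fun T' => coreCent_le_of_sylow T T'))
    (sup_le le_sup_left (le_sup_of_le_right (le_iSup_of_le T le_rfl)))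

theorem extendedTwoLayer_normal : (extendedTwoLayer G).Normal := by
  haveI : Fact (Nat.Prime 2) := ⟨Nat.prime_two⟩
  haveI := extBase_normal (G := G)
  refine normal_of_map_conj_le fun g => ?_
  obtain ⟨T⟩ : Nonempty (Sylow 2 ↥(extBase G)) := inferInstance
  conv_lhs => rw [extendedTwoLayer_eq T, Subgroup.map_sup, Subgroup.map_sup, pLayer_map_equiv,
    show (oddCore G).map (MulAut.conj g).toMonoidHom = oddCore G from map_pPrimeCore_mulEquiv _,
    map_coreCent]
  set T₁ := ((T : Subgroup ↥(extBase G)).map (extBase G).subtype).map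
    (MulAut.conj g).toMonoidHom with hT₁
  have hle : T₁ ≤ extBase G := by
    rw [hT₁, map_le_iff_le_comap]
    rintro _ ⟨x, hx, rfl⟩
    exact (inferInstance : (extBase G).Normal).conj_mem _ x.2 g
  have hTg : IsPGroup 2 ↥(T₁.subgroupOf (extBase G)) :=
    ((T.isPGroup'.map _).map _).comap_of_injective _ (extBase G).subtype_injective
  obtain ⟨T', hT'⟩ := hTg.exists_le_sylow
  have hcard : Nat.card ↥(T₁.subgroupOf (extBase G)) = Nat.card ↥(T' : Subgroup ↥(extBase G)) := by
    rw [card_subgroupOf hle, hT₁, card_map_mulEquiv, card_map_subtype, T.card_eq_multiplicity,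
      T'.card_eq_multiplicity]
  have heq : T₁ = (T' : Subgroup ↥(extBase G)).map (extBase G).subtype := by
    rw [← eq_of_le_of_card_ge hT' hcard.ge, map_subgroupOf_eq_of_le hle]
  rw [heq]
  exact (extendedTwoLayer_eq T').ge

/-- A Sylow 2-subgroup of the base is cut out by a Sylow 2-subgroup of `G`. -/
theorem exists_sylow_inf_extBase (T : Sylow 2 ↥(extBase G)) : ∃ S : Sylow 2 G,
    (T : Subgroup ↥(extBase G)) = (S : Subgroup G).subgroupOf (extBase G) := by
  obtain ⟨S, hS⟩ := (T.isPGroup'.map (extBase G).subtype).exists_le_sylow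
  refine ⟨S, (T.is_maximal' (S.isPGroup'.comap_of_injective _ (extBase G).subtype_injective)
    fun x hx => ?_).symm⟩
  exact hS ⟨x, hx, rfl⟩

theorem exists_odd_sup_eq_extendedTwoLayer :
    ∃ F : Subgroup G, Odd (Nat.card ↥F) ∧
      (∃ S : Sylow 2 G, (S : Subgroup G) ≤ normalizer (F : Set G)) ∧
      extendedTwoLayer G = pLayer 2 G ⊔ F := by
  haveI : Fact (Nat.Prime 2) := ⟨Nat.prime_two⟩
  haveI := extBase_normal (G := G)
  obtain ⟨T⟩ : Nonempty (Sylow 2 ↥(extBase G)) := inferInstance
  obtain ⟨S, hS⟩ := exists_sylow_inf_extBase T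
  refine ⟨oddCore G ⊔ coreCent G ((T : Subgroup ↥(extBase G)).map (extBase G).subtype), ?_,
    ⟨S, ?_⟩, by rw [extendedTwoLayer_eq T, sup_assoc]⟩
  · rw [sup_comm, ← Nat.coprime_two_right]
    exact (Nat.Coprime.mul_left (coprime_card_map_pPrimeCore _)
      (pPrimeCore_coprime 2 G)).coprime_dvd_left (card_sup_dvd _ _)
  · intro s hs
    refine map_conj_eq_self_iff.mp ?_
    rw [Subgroup.map_sup,
      show (oddCore G).map (MulAut.conj s).toMonoidHom = oddCore G from map_pPrimeCore_mulEquiv _,
      map_coreCent]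
    congr 2
    refine map_conj_eq_self_iff.mpr ?_
    rw [hS, subgroupOf_map_subtype]
    exact (le_inf le_normalizer le_normalizer_of_normal).trans
      inf_normalizer_le_normalizer_inf hs

theorem extendedTwoLayer_le_normalizer_pComponent {K : Subgroup G} (hK : IsPComponent 2 K) :
    extendedTwoLayer G ≤ normalizer (K : Set G) := by
  haveI : Fact (Nat.Prime 2) := ⟨Nat.prime_two⟩
  obtain ⟨T⟩ : Nonempty (Sylow 2 ↥(extBase G)) := inferInstance
  rw [extendedTwoLayer_eq T]
  refine sup_le (sup_le (pLayer_le_normalizer_pComponent hK)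
    (pPrimeCore_le_normalizer_pComponent hK)) fun c hc => ?_
  rw [mem_normalizer_pComponent_iff hK, ← map_conj_eq_self_iff]
  set f := QuotientGroup.mk' (pPrimeCore 2 G) with hf
  set T₀ := (T : Subgroup ↥(extBase G)).map (extBase G).subtype with hT₀
  have hcT : c ∈ centralizer (T₀ : Set G) := map_subtype_le _ hc
  by_contra hne
  have hKle : K ≤ extBase G := (pComponent_le_pLayer hK).trans le_sup_left
  -- a Sylow subgroup of `K̄` is fixed by `c̄`
  refine component_sylow_not_central (pPrimeCore_quotient_pPrimeCore 2 G) hK.2.1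
    (Q := (T₀ ⊓ K).map f) ((T.isPGroup'.map _).to_le inf_le_left |>.map f) ?_ ?_
  · have h1 : ¬ 2 ∣ T₀.relIndex K := by
      have h := not_dvd_relIndex_of_isSubnormal T (hK.1.subgroupOf (K := extBase G))
      rwa [← map_subtype_subgroupOf_self (extBase G) (T : Subgroup ↥(extBase G)),
        relIndex_subgroupOf hKle] at h
    intro h2
    apply h1
    rw [← inf_relIndex_right]
    refine h2.trans ?_
    have e : ((T₀ ⊓ K).subgroupOf K).map (f.subgroupMap K) =
        ((T₀ ⊓ K).map f).subgroupOf (K.map f) := by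
      ext x
      constructor
      · rintro ⟨y, hy, rfl⟩
        exact ⟨(y : G), hy, rfl⟩
      · rintro ⟨y, hy, hyx⟩
        exact ⟨⟨y, hy.2⟩, hy, Subtype.ext hyx⟩
    rw [relIndex, ← e]
    exact index_map_dvd _ (f.subgroupMap_surjective K)
  · intro x hx
    have hfx : MulAut.conj (f c) x = x := by
      obtain ⟨⟨y, hy, rfl⟩, -⟩ := mem_inf.mp hx
      have : y * c = c * y := mem_centralizer_iff.mp hcT y hy.1
      rw [MulAut.conj_apply, ← map_inv, ← map_mul, ← map_mul, ← this, mul_inv_cancel_right]
    have hxK : x ∈ (K.map f).map (MulAut.conj (f c)).toMonoidHom := ⟨x, hx.2, hfx⟩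
    exact commutator_eq_bot_iff_le_centralizer.mp
      (components_commute (isComponent_map_equiv (MulAut.conj (f c)) hK.2.1) hK.2.1 hne) hxK
end Extended

end CfsgLib.Components
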