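import Mathlib
import Cfsg.Prelude.Def_Balance
import Cfsg.Agent.Lib.Components.LocalLayer
import Cfsg.Agent.Lib.Components.ExtendedLayer
import Cfsg.Agent.Lib.Components.PConstrained

/-!
# Action of `p'`-cores of `p`-local subgroups on the components

If `O_{p'}(G) = 1` and `P` is a `p`-subgroup, then `O_{p'}(N_G(P))` and the `p`-components of
`N_G(P)` normalise every component of `G`.
-/

set_option autoImplicit false
set_option linter.style.haveILetI false
set_option linter.unusedSectionVars false

open scoped Pointwise commutatorElement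

namespace CfsgLib.Components

open Cfsg Subgroup CfsgLib.Base

variable {G : Type*} [Group G] [Finite G] {p : ℕ} [Fact p.Prime]

/-- The product of the `P`-conjugates of `L`. -/
def orbitJoin (P L : Subgroup G) : Subgroup G :=
  ⨆ u : ↥P, L.map (MulAut.conj (u : G)).toMonoidHom

theorem map_conj_mul (a b : G) (L : Subgroup G) :
    L.map (MulAut.conj (a * b)).toMonoidHom =
      (L.map (MulAut.conj b).toMonoidHom).map (MulAut.conj a).toMonoidHom := by
  rw [Subgroup.map_map]
  congr 1
  ext x
  simp [mul_assoc]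

theorem map_conj_one (L : Subgroup G) : L.map (MulAut.conj (1 : G)).toMonoidHom = L := by
  rw [map_conj_eq_self_iff]
  exact one_mem _

theorem le_orbitJoin (P L : Subgroup G) : L ≤ orbitJoin P L :=
  le_iSup_of_le (1 : ↥P) (map_conj_one L).ge

theorem le_normalizer_orbitJoin (P L : Subgroup G) :
    P ≤ normalizer (orbitJoin P L : Set G) := by
  intro u hu
  refine map_conj_eq_self_iff.mp (le_antisymm ?_ (iSup_le fun v => ?_))
  · rw [orbitJoin, Subgroup.map_iSup]
    refine iSup_le fun v => le_iSup_of_le (⟨u, hu⟩ * v : ↥P) (le_of_eq ?_)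
    rw [Subgroup.coe_mul, map_conj_mul]
  · rw [orbitJoin, Subgroup.map_iSup]
    refine le_iSup_of_le (⟨u, hu⟩⁻¹ * v : ↥P) (le_of_eq ?_)
    rw [← map_conj_mul]
    simp

theorem orbitJoin_le_layer {P L : Subgroup G} (hL : IsComponent L) : orbitJoin P L ≤ layer G :=
  iSup_le fun _ => component_le_layer (isComponent_conj hL _)

theorem layer_le_normalizer_orbitJoin {P L : Subgroup G} (hL : IsComponent L) :
    layer G ≤ normalizer (orbitJoin P L : Set G) := by
  intro g hg
  refine map_conj_eq_self_iff.mp ?_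
  rw [orbitJoin, Subgroup.map_iSup]
  refine iSup_congr fun u => map_conj_eq_self_iff.mpr ?_
  exact layer_le_normalizer_of_subnormal (isComponent_conj hL _).1 hg

theorem orbitJoin_isSubnormal {P L : Subgroup G} (hL : IsComponent L) :
    (orbitJoin P L).IsSubnormal :=
  IsSubnormal.step _ _ (orbitJoin_le_layer hL) (layer_normal (G := G)).isSubnormal
    (normal_subgroupOf_of_le_normalizer (layer_le_normalizer_orbitJoin hL))

/-- `y` moves the orbit to a disjoint one unless it stabilises it. -/
theorem commutator_map_orbitJoin_eq_bot {P L : Subgroup G} (hL : IsComponent L) {y : G}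
    (hy : y ∈ centralizer (P : Set G))
    (hne : ∀ u ∈ P, L.map (MulAut.conj y).toMonoidHom ≠ L.map (MulAut.conj u).toMonoidHom) :
    ⁅(orbitJoin P L).map (MulAut.conj y).toMonoidHom, orbitJoin P L⁆ = ⊥ := by
  rw [commutator_eq_bot_iff_le_centralizer, orbitJoin, Subgroup.map_iSup, iSup_le_iff]
  intro u
  rw [le_centralizer_iff, iSup_le_iff]
  intro v
  rw [← commutator_eq_bot_iff_le_centralizer]
  refine components_commute (isComponent_conj hL _) (isComponent_map_equiv _ (isComponent_conj hL _))
    fun he => hne ((u : G)⁻¹ * v) (mul_mem (inv_mem u.2) v.2) ?_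
  rw [map_conj_mul, he, ← map_conj_mul, ← map_conj_mul]
  congr 3
  rw [mul_assoc, ← mem_centralizer_iff.mp hy u u.2, inv_mul_cancel_left]

/-- Semiregularity: a `p'`-element centralising `P` that maps `L` into its `P`-orbit fixes `L`. -/
theorem mem_normalizer_of_mem_orbit {P L : Subgroup G} (hP : IsPGroup p P) {y : G}
    (hy : y ∈ centralizer (P : Set G)) (hcop : (orderOf y).Coprime p) {u : G} (hu : u ∈ P)
    (he : L.map (MulAut.conj y).toMonoidHom = L.map (MulAut.conj u).toMonoidHom) :
    y ∈ normalizer (L : Set G) := by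
  have hcomm : Commute y u := (mem_centralizer_iff.mp hy u hu).symm
  have hpow : ∀ k : ℕ, L.map (MulAut.conj (y ^ k)).toMonoidHom =
      L.map (MulAut.conj (u ^ k)).toMonoidHom := by
    intro k
    induction k with
    | zero => simp
    | succ k ih =>
      rw [pow_succ, map_conj_mul, he, ← map_conj_mul, (hcomm.pow_left k).eq, map_conj_mul, ih,
        ← map_conj_mul, pow_succ']
  have h1 : u ^ orderOf y ∈ normalizer (L : Set G) := by
    rw [← map_conj_eq_self_iff, ← hpow, pow_orderOf_eq_one, map_conj_one]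
  obtain ⟨n, hn⟩ := hP ⟨u, hu⟩
  have hu1 : orderOf u ∣ p ^ n :=
    orderOf_dvd_of_pow_eq_one (by simpa using congrArg Subtype.val hn)
  have h2 : (orderOf y).Coprime (orderOf u) := (hcop.pow_right n).coprime_dvd_right hu1
  obtain ⟨m, hm⟩ := exists_pow_eq_self_of_coprime h2
  have h3 : u ∈ normalizer (L : Set G) := hm ▸ pow_mem h1 m
  rw [← map_conj_eq_self_iff, he, map_conj_eq_self_iff]
  exact h3

theorem isPGroup_inf_centralizer_of_subnormal (hO : pPrimeCore p G = ⊥) {M : Subgroup G}
    (hM : M.IsSubnormal) : IsPGroup p ↥(M ⊓ centralizer (M : Set G)) := by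
  refine (isPGroup_pCore p G).to_le ?_
  rw [← fitting_eq_pCore_of_pPrimeCore_eq_bot hO]
  haveI : IsMulCommutative ↥(M ⊓ centralizer (M : Set G)) :=
    le_centralizer_iff_isMulCommutative.mp (inf_le_right.trans (centralizer_le inf_le_left))
  refine le_fittingSubgroup_of_isSubnormal ?_ ?_
  · refine IsSubnormal.step _ M inf_le_left hM (normal_subgroupOf_of_le_normalizer ?_)
    exact (le_inf le_normalizer (le_normalizer.trans (normalizer_le_centralizer_normalizer' M))).trans
      inf_normalizer_le_normalizer_inf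
  · refine (isNilpotent_iff_lowerCentralSeries _).mpr ⟨1, ?_⟩
    rw [Subgroup.lowerCentralSeries_succ, Subgroup.lowerCentralSeries_zero,
      commutator_self_eq_bot_iff]
    infer_instance
where
  normalizer_le_centralizer_normalizer' (M : Subgroup G) :
      normalizer (M : Set G) ≤ normalizer (centralizer (M : Set G) : Set G) :=
    CfsgLib.PLocal.normalizer_le_centralizer_normalizer M

/-- A `P`-invariant product of components has a non-central `p`-element fixed by `P` modulo
the centre. -/
theorem exists_orbit_element (hO : pPrimeCore p G = ⊥) {P L : Subgroup G} (hP : IsPGroup p P)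
    (hL : IsComponent L) :
    ∃ c : G, c ∈ orbitJoin P L ∧ c ∉ centralizer (orbitJoin P L : Set G) ∧
      (∃ n, c ^ p ^ n = 1) ∧
      ∀ u ∈ P, ⁅c, u⁆ ∈ orbitJoin P L ⊓ centralizer (orbitJoin P L : Set G) := by
  set M := orbitJoin P L with hM
  set Z := M ⊓ centralizer (M : Set G) with hZ
  have hPM := le_normalizer_orbitJoin P L
  haveI : (M.subgroupOf (M ⊔ P)).Normal :=
    normal_subgroupOf_of_le_normalizer (sup_le le_normalizer hPM)
  obtain ⟨S, hS⟩ := (hP.comap_of_injective _ (M ⊔ P).subtype_injective).exists_le_sylow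
  set S₀ := (S : Subgroup ↥(M ⊔ P)).map (M ⊔ P).subtype with hS₀
  have hS₀p : IsPGroup p S₀ := S.isPGroup'.map _
  have hPS : P ≤ S₀ := by
    rw [← map_subgroupOf_eq_of_le (le_sup_right : P ≤ M ⊔ P)]
    exact map_mono hS
  have hPN : M ⊔ P ≤ normalizer (M : Set G) := sup_le le_normalizer hPM
  have hS₀M : S₀ ≤ normalizer (M : Set G) := (map_subtype_le _).trans hPN
  -- a Sylow subgroup of `M` is not central
  have hidx : ¬ p ∣ S₀.relIndex L := by
    have hsn : (L.subgroupOf (M ⊔ P)).IsSubnormal := hL.1.subgroupOf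
    have h := not_dvd_relIndex_of_isSubnormal S hsn
    rwa [← map_subtype_subgroupOf_self (M ⊔ P) (S : Subgroup ↥(M ⊔ P)),
      relIndex_subgroupOf ((le_orbitJoin P L).trans le_sup_left)] at h
  have hQne : ¬ S₀ ⊓ M ≤ centralizer (M : Set G) := fun h =>
    component_sylow_not_central hO hL hS₀p hidx
      (((inf_le_inf_left S₀ (le_orbitJoin P L)).trans h).trans (centralizer_le (le_orbitJoin P L)))
  have hZn : (Z.subgroupOf S₀).Normal := normal_subgroupOf_of_le_normalizer
    ((le_inf hS₀M (hS₀M.trans (CfsgLib.PLocal.normalizer_le_centralizer_normalizer M))).trans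
      inf_normalizer_le_normalizer_inf)
  have hQn : (M.subgroupOf S₀).Normal := normal_subgroupOf_of_le_normalizer hS₀M
  set f := QuotientGroup.mk' (Z.subgroupOf S₀) with hf
  haveI : ((M.subgroupOf S₀).map f).Normal := hQn.map f (QuotientGroup.mk'_surjective _)
  have hne : (M.subgroupOf S₀).map f ≠ ⊥ := by
    rw [ne_eq, Subgroup.map_eq_bot_iff, QuotientGroup.ker_mk']
    intro hle
    apply hQne
    rintro x ⟨hx, hxM⟩
    exact (hle (show (⟨x, hx⟩ : S₀) ∈ M.subgroupOf S₀ from hxM)).2
  obtain ⟨z, hz, hz1⟩ := (bot_or_exists_ne_one _).resolve_left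
    (CfsgLib.PGroups.inf_center_ne_bot (hS₀p.to_quotient _) hne)
  obtain ⟨⟨c, hc, rfl⟩, hzc⟩ := mem_inf.mp hz
  refine ⟨c, hc, fun h => hz1 ((QuotientGroup.eq_one_iff c).mpr ⟨hc, h⟩), ?_, fun u hu => ?_⟩
  · obtain ⟨n, hn⟩ := hS₀p c
    exact ⟨n, by simpa using congrArg Subtype.val hn⟩
  · have h := mem_center_iff.mp hzc (f ⟨u, hPS hu⟩)
    have h1 : f ⁅c, (⟨u, hPS hu⟩ : S₀)⁆ = 1 := by
      rw [map_commutatorElement, commutatorElement_eq_one_iff_mul_comm]
      exact h.symm
    exact mem_subgroupOf.mp ((QuotientGroup.eq_one_iff ⁅c, (⟨u, hPS hu⟩ : S₀)⁆).mp h1)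

theorem mem_map_pPrimeCore_coprime {X : Subgroup G} {y : G}
    (hy : y ∈ (pPrimeCore p ↥X).map X.subtype) : (orderOf y).Coprime p :=
  (coprime_card_map_pPrimeCore X).coprime_dvd_left
    (by simpa using orderOf_dvd_natCard (⟨y, hy⟩ : ↥((pPrimeCore p ↥X).map X.subtype)))

theorem map_pPrimeCore_normalizer_le_centralizer {P : Subgroup G} (hP : IsPGroup p P) :
    (pPrimeCore p ↥(normalizer (P : Set G))).map (normalizer (P : Set G)).subtype ≤
      centralizer (P : Set G) := by
  refine le_trans ?_ (centralizer_le (le_pCore_normalizer hP))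
  rw [← commutator_eq_bot_iff_le_centralizer, ← map_commutator,
    commutator_eq_bot_iff_le_centralizer.mpr
      (le_centralizer_iff.mp (pCore_le_centralizer_pPrimeCore p _)), Subgroup.map_bot]

/-- `O_{p'}(N_G(P))` centralises `O_p(G)`. -/
theorem map_pPrimeCore_normalizer_le_centralizer_pCore {P : Subgroup G} (hP : IsPGroup p P) :
    (pPrimeCore p ↥(normalizer (P : Set G))).map (normalizer (P : Set G)).subtype ≤
      centralizer (pCore p G : Set G) := by
  refine le_trans (map_mono ?_) (layer_preimage_le_centralizer_pCore hP)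
  exact QuotientGroup.le_comap_mk' _ _

/-- `O_{p'}(N(P))` inside `O_{p'}(N(P'))` for `P' ⊇ P` centralised by it. -/
theorem inf_le_pPrimeCore_normalizer {P P' : Subgroup G} (hPP' : P ≤ P')
    {y : G} (hy : y ∈ (pPrimeCore p ↥(normalizer (P : Set G))).map (normalizer (P : Set G)).subtype)
    (hy' : y ∈ centralizer (P' : Set G)) :
    y ∈ (pPrimeCore p ↥(normalizer (P' : Set G))).map (normalizer (P' : Set G)).subtype := by
  set O := (pPrimeCore p ↥(normalizer (P : Set G))).map (normalizer (P : Set G)).subtype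
  have h1 : O ⊓ centralizer (P' : Set G) ≤
      (pPrimeCore p ↥(centralizer (P' : Set G))).map (centralizer (P' : Set G)).subtype := by
    refine le_map_pPrimeCore inf_le_right ?_
      ((coprime_card_map_pPrimeCore (normalizer (P : Set G))).coprime_dvd_left
        (card_dvd_of_le inf_le_left))
    exact (le_inf (((centralizer_le hPP').trans (centralizer_le_normalizer _)).trans
      (le_normalizer_map_pPrimeCore _)) le_normalizer).trans inf_normalizer_le_normalizer_inf
  exact map_pPrimeCore_le_of_normal_subgroupOf (centralizer_le_normalizer _) inferInstance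
    (h1 ⟨hy, hy'⟩)

/-- The auxiliary data for moving an element past an orbit. -/
theorem orbit_setup (hO : pPrimeCore p G = ⊥) {P L : Subgroup G} (hP : IsPGroup p P)
    (hL : IsComponent L) :
    ∃ (P' : Subgroup G) (c : G), P ≤ P' ∧ IsPGroup p P' ∧
      P' ≤ P ⊔ pCore p G ∧
      c ∈ orbitJoin P L ∧ c ∉ centralizer (orbitJoin P L : Set G) ∧ (∃ n, c ^ p ^ n = 1) ∧
      c ∈ normalizer (P' : Set G) := by
  obtain ⟨c, hcM, hcne, hcp, hcomm⟩ := exists_orbit_element hO hP hL
  set M := orbitJoin P L with hM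
  set Z := M ⊓ centralizer (M : Set G) with hZ
  have hPM := le_normalizer_orbitJoin P L
  have hPZ : P ≤ normalizer (Z : Set G) :=
    (le_inf hPM (hPM.trans (CfsgLib.PLocal.normalizer_le_centralizer_normalizer M))).trans
      inf_normalizer_le_normalizer_inf
  have hZp : IsPGroup p Z := isPGroup_inf_centralizer_of_subnormal hO (orbitJoin_isSubnormal hL)
  refine ⟨Z ⊔ P, c, le_sup_right, hZp.to_sup_of_normal_left' hP hPZ, ?_, hcM, hcne, hcp, ?_⟩
  · refine sup_le (le_sup_of_le_right ?_) le_sup_left
    refine le_pCore_of_isSubnormal (IsSubnormal.step _ M inf_le_left (orbitJoin_isSubnormal hL)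
      (normal_subgroupOf_of_le_normalizer ?_)) hZp
    exact (le_inf le_normalizer
      (le_normalizer.trans (CfsgLib.PLocal.normalizer_le_centralizer_normalizer M))).trans
        inf_normalizer_le_normalizer_inf
  · have key : ∀ d : G, d ∈ M → (∀ u ∈ P, ⁅d, u⁆ ∈ Z) →
        (Z ⊔ P).map (MulAut.conj d).toMonoidHom ≤ Z ⊔ P := by
      intro d hd hdu
      rw [Subgroup.map_sup, sup_le_iff]
      constructor
      · rintro _ ⟨z, hz, rfl⟩
        refine mem_sup_left ?_
        show d * z * d⁻¹ ∈ Z
        rw [mem_centralizer_iff.mp hz.2 d hd, mul_inv_cancel_right]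
        exact hz
      · rintro _ ⟨u, hu, rfl⟩
        show d * u * d⁻¹ ∈ Z ⊔ P
        have : d * u * d⁻¹ = ⁅d, u⁆ * u := by group
        rw [this]
        exact mul_mem_sup (hdu u hu) hu
    refine map_conj_eq_self_iff.mp (eq_of_le_of_card_ge (key c hcM hcomm) ?_)
    rw [card_map_conj]

/-- `O_{p'}(N_G(P))` normalises every component. -/
theorem mem_normalizer_component_of_pPrimeCore (hO : pPrimeCore p G = ⊥) {P L : Subgroup G}
    (hP : IsPGroup p P) (hL : IsComponent L) {y : G}
    (hy : y ∈ (pPrimeCore p ↥(normalizer (P : Set G))).map (normalizer (P : Set G)).subtype) :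
    y ∈ normalizer (L : Set G) := by
  have hyP : y ∈ centralizer (P : Set G) := map_pPrimeCore_normalizer_le_centralizer hP hy
  have hyR := map_pPrimeCore_normalizer_le_centralizer_pCore hP hy
  obtain ⟨P', c, hPP', hP', hle, hcM, hcne, ⟨n, hcn⟩, hcN⟩ := orbit_setup hO hP hL
  have hyP' : y ∈ centralizer (P' : Set G) := by
    have h : P' ≤ centralizer ({y} : Set G) := hle.trans (sup_le
      (fun u hu => mem_centralizer_singleton_iff.mpr (mem_centralizer_iff.mp hyP u hu))
      (fun u hu => mem_centralizer_singleton_iff.mpr (mem_centralizer_iff.mp hyR u hu)))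
    exact mem_centralizer_iff.mpr fun u hu => mem_centralizer_singleton_iff.mp (h hu)
  by_contra hnot
  apply hcne
  have hne : ∀ u ∈ P, L.map (MulAut.conj y).toMonoidHom ≠ L.map (MulAut.conj u).toMonoidHom :=
    fun u hu he => hnot (mem_normalizer_of_mem_orbit hP hyP (mem_map_pPrimeCore_coprime hy) hu he)
  have hcomm := commutator_eq_bot_iff_le_centralizer.mp (commutator_map_orbitJoin_eq_bot hL hyP hne)
  have hycM : y * c * y⁻¹ ∈ centralizer (orbitJoin P L : Set G) := hcomm ⟨c, hcM, rfl⟩
  set O' := (pPrimeCore p ↥(normalizer (P' : Set G))).map (normalizer (P' : Set G)).subtype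
  have hy' : y ∈ O' := inf_le_pPrimeCore_normalizer hPP' hy hyP'
  have hd : y * c * y⁻¹ * c⁻¹ ∈ O' := by
    have h := (mem_normalizer_iff.mp (le_normalizer_map_pPrimeCore _ hcN) y⁻¹).mp (inv_mem hy')
    have e : y * c * y⁻¹ * c⁻¹ = y * (c * y⁻¹ * c⁻¹) := by group
    rw [e]
    exact mul_mem hy' h
  have hcm : Commute (y * c * y⁻¹) c⁻¹ :=
    (show Commute (y * c * y⁻¹) c from (mem_centralizer_iff.mp hycM c hcM).symm).inv_right
  have hpow : (y * c * y⁻¹ * c⁻¹) ^ p ^ n = 1 := by
    rw [hcm.mul_pow, conj_pow, inv_pow, hcn]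
    simp
  have h1 : orderOf (y * c * y⁻¹ * c⁻¹) = 1 :=
    Nat.eq_one_of_dvd_coprimes ((mem_map_pPrimeCore_coprime hd).pow_right n) dvd_rfl
      (orderOf_dvd_of_pow_eq_one hpow)
  rw [orderOf_eq_one_iff, mul_inv_eq_one] at h1
  rwa [h1] at hycM

/-- A subnormal perfect subgroup with quasisimple quotient by its `p'`-core has component image
in `G ⧸ O_{p'}(G)`. -/
theorem map_eq_bot_or_isComponent_of_quotient {K : Subgroup G} (hK : K.IsSubnormal)
    (hq : IsQuasisimple (↥K ⧸ pPrimeCore p ↥K)) :
    K.map (QuotientGroup.mk' (pPrimeCore p G)) = ⊥ ∨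
      IsComponent (K.map (QuotientGroup.mk' (pPrimeCore p G))) := by
  set f := (QuotientGroup.mk' (pPrimeCore p G)).subgroupMap K with hf
  by_cases h : K.map (QuotientGroup.mk' (pPrimeCore p G)) = ⊥
  · exact Or.inl h
  · haveI := (nontrivial_iff_ne_bot _).mpr h
    refine Or.inr ⟨hK.quotient, isQuasisimple_of_surjective hq
      (QuotientGroup.lift (pPrimeCore p ↥K) f ?_) ?_⟩
    · intro x hx
      refine MonoidHom.mem_ker.mpr (Subtype.ext ?_)
      exact (QuotientGroup.eq_one_iff (x : G)).mpr
        (map_pPrimeCore_le_of_isSubnormal hK ⟨x, hx, rfl⟩)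
    · exact QuotientGroup.lift_surjective_of_surjective _ _
        ((QuotientGroup.mk' (pPrimeCore p G)).subgroupMap_surjective K) _

/-- `p`-components of `N_G(P)` normalise every component. -/
theorem map_pComponent_normalizer_le (hO : pPrimeCore p G = ⊥) {P L : Subgroup G}
    (hP : IsPGroup p P) (hL : IsComponent L) {K : Subgroup ↥(normalizer (P : Set G))}
    (hK : IsPComponent p K) : K.map (normalizer (P : Set G)).subtype ≤ normalizer (L : Set G) := by
  set K₀ := K.map (normalizer (P : Set G)).subtype with hK₀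
  have hKO : K₀ ≤ centralizer (((pCore p ↥(normalizer (P : Set G))).map (normalizer (P : Set G)).subtype : Subgroup G) : Set G) := by
    rw [← commutator_eq_bot_iff_le_centralizer, ← map_commutator,
      commutator_eq_bot_iff_le_centralizer.mpr
        ((pComponent_le_pLayer hK).trans pLayer_le_centralizer_pCore), Subgroup.map_bot]
  have hKP : K₀ ≤ centralizer (P : Set G) := hKO.trans (centralizer_le (le_pCore_normalizer hP))
  have hKperf : ⁅K₀, K₀⁆ = K₀ := by rw [← map_commutator, pComponent_commutator_self hK]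
  have hKR : K₀ ≤ centralizer (pCore p G : Set G) :=
    le_centralizer_pCore_of_perfect hP hKperf hKP hKO
  obtain ⟨P', c, hPP', hP', hle, hcM, hcne, ⟨n, hcn⟩, hcN⟩ := orbit_setup hO hP hL
  refine le_of_perfect_of_pPrime_elements (p := p) hKperf fun y hy hcop => ?_
  by_contra hnot
  have hyP := hKP hy
  have hne : ∀ u ∈ P, L.map (MulAut.conj y).toMonoidHom ≠ L.map (MulAut.conj u).toMonoidHom :=
    fun u hu he => hnot (mem_normalizer_of_mem_orbit hP hyP hcop hu he)
  -- `K₀` is subnormal in `N' = (normalizer (P : Set G))(P')`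
  set N' := normalizer (P' : Set G) with hN'
  have hK₀C : K₀ ≤ centralizer (P' : Set G) :=
    le_centralizer_iff.mp (hle.trans (sup_le (le_centralizer_iff.mp hKP) (le_centralizer_iff.mp hKR)))
  have hK₀N' : K₀ ≤ N' := hK₀C.trans (centralizer_le_normalizer _)
  have hCN : centralizer (P' : Set G) ≤ (normalizer (P : Set G)) :=
    (centralizer_le hPP').trans (centralizer_le_normalizer _)
  have hsn : (K₀.subgroupOf N').IsSubnormal := by
    have h1 : ((centralizer (P' : Set G)).subgroupOf N').Normal := inferInstance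
    have h2 : (K.subgroupOf ((centralizer (P' : Set G)).subgroupOf (normalizer (P : Set G)))).IsSubnormal :=
      hK.1.subgroupOf
    have h3 : (K₀.subgroupOf (centralizer (P' : Set G))).IsSubnormal := by
      have h4 := isSubnormal_map_equiv (subgroupOfEquivOfLe hCN) h2
      have e : (K.subgroupOf ((centralizer (P' : Set G)).subgroupOf (normalizer (P : Set G)))).map
          (subgroupOfEquivOfLe hCN).toMonoidHom = K₀.subgroupOf (centralizer (P' : Set G)) := by
        ext x
        constructor
        · rintro ⟨y, hy, rfl⟩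
          exact ⟨y.1, hy, rfl⟩
        · rintro ⟨y, hy, hyx⟩
          exact ⟨⟨y, show (y : G) ∈ centralizer (P' : Set G) from (show (y : G) = (x : G) from hyx) ▸ x.2⟩, hy, Subtype.ext hyx⟩
      rwa [e] at h4
    refine IsSubnormal.trans (K := (centralizer (P' : Set G)).subgroupOf N') ?_ ?_ h1.isSubnormal
    · exact fun x hx => hK₀C hx
    · have h5 := isSubnormal_map_equiv
        (subgroupOfEquivOfLe (centralizer_le_normalizer (P' : Set G))).symm h3
      have e : (K₀.subgroupOf (centralizer (P' : Set G))).map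
          (subgroupOfEquivOfLe (centralizer_le_normalizer (P' : Set G))).symm.toMonoidHom =
          (K₀.subgroupOf N').subgroupOf ((centralizer (P' : Set G)).subgroupOf N') := by
        ext x
        constructor
        · rintro ⟨y, hy, rfl⟩
          exact hy
        · intro hx
          exact ⟨⟨x.1.1, x.2⟩, hx, rfl⟩
      rwa [e] at h5
  have eK : ↥(K₀.subgroupOf N') ≃* ↥K :=
    (subgroupOfEquivOfLe hK₀N').trans (equivMapOfInjective K (normalizer (P : Set G)).subtype (normalizer (P : Set G)).subtype_injective).symm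
  have hq : IsQuasisimple (↥(K₀.subgroupOf N') ⧸ pPrimeCore p ↥(K₀.subgroupOf N')) :=
    isQuasisimple_of_mulEquiv
      (QuotientGroup.congr _ _ eK (map_pPrimeCore_mulEquiv eK)).symm
      (pComponent_quotient_isQuasisimple hK)
  set f := QuotientGroup.mk' (pPrimeCore p ↥N') with hf
  set O' := (pPrimeCore p ↥N').map N'.subtype with hO'
  have hO'L : O' ≤ normalizer (L : Set G) := fun g hg =>
    mem_normalizer_component_of_pPrimeCore hO hP' hL hg
  set H := (layer G).subgroupOf N' with hH
  have hHn : H.Normal := inferInstance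
  rcases map_eq_bot_or_isComponent_of_quotient hsn hq with hbot | hcomp
  · rw [Subgroup.map_eq_bot_iff, QuotientGroup.ker_mk'] at hbot
    exact hnot (hO'L ⟨⟨y, hK₀N' hy⟩, hbot hy, rfl⟩)
  rcases component_le_or_commutator_eq_bot hcomp (hHn.map f (QuotientGroup.mk'_surjective _)).isSubnormal
    with hle' | hcom
  · obtain ⟨a, ha, hay⟩ := hle' ⟨(⟨y, hK₀N' hy⟩ : ↥N'), hy, rfl⟩
    have hmem : a⁻¹ * ⟨y, hK₀N' hy⟩ ∈ pPrimeCore p ↥N' :=
      (QuotientGroup.eq).mp hay
    have h1 : (a : G)⁻¹ * y ∈ normalizer (L : Set G) := hO'L ⟨_, hmem, rfl⟩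
    have h2 : (a : G) ∈ normalizer (L : Set G) := layer_le_normalizer_of_subnormal hL.1 ha
    exact hnot (by simpa using mul_mem h2 h1)
  · rw [← map_commutator, map_mk'_eq_bot_iff] at hcom
    have hcH : (⟨c, hcN⟩ : ↥N') ∈ H := orbitJoin_le_layer hL hcM
    have hd : y * c * y⁻¹ * c⁻¹ ∈ O' :=
      ⟨_, hcom (commutator_mem_commutator (show (⟨y, hK₀N' hy⟩ : ↥N') ∈ K₀.subgroupOf N' from hy) hcH),
        rfl⟩
    have hycM : y * c * y⁻¹ ∈ centralizer (orbitJoin P L : Set G) :=
      commutator_eq_bot_iff_le_centralizer.mp (commutator_map_orbitJoin_eq_bot hL hyP hne)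
        ⟨c, hcM, rfl⟩
    have hcm : Commute (y * c * y⁻¹) c⁻¹ :=
      (show Commute (y * c * y⁻¹) c from (mem_centralizer_iff.mp hycM c hcM).symm).inv_right
    have hpow : (y * c * y⁻¹ * c⁻¹) ^ p ^ n = 1 := by
      rw [hcm.mul_pow, conj_pow, inv_pow, hcn]
      simp
    have h1 : orderOf (y * c * y⁻¹ * c⁻¹) = 1 :=
      Nat.eq_one_of_dvd_coprimes ((mem_map_pPrimeCore_coprime hd).pow_right n) dvd_rfl
        (orderOf_dvd_of_pow_eq_one hpow)
    rw [orderOf_eq_one_iff, mul_inv_eq_one] at h1
    exact hcne (h1 ▸ hycM)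

/-- The preimage in `N_G(P)` of `E(N_G(P) ⧸ O_{p'})` normalises every component. -/
theorem layer_preimage_le_normalizer (hO : pPrimeCore p G = ⊥) {P L : Subgroup G}
    (hP : IsPGroup p P) (hL : IsComponent L) :
    ((layer (↥(normalizer (P : Set G)) ⧸ pPrimeCore p ↥(normalizer (P : Set G)))).comap
      (QuotientGroup.mk' (pPrimeCore p ↥(normalizer (P : Set G))))).map
        (normalizer (P : Set G)).subtype ≤ normalizer (L : Set G) := by
  rw [← map_pLayer, comap_map_mk', Subgroup.map_sup]
  refine sup_le ?_ fun y hy => mem_normalizer_component_of_pPrimeCore hO hP hL hy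
  rw [map_le_iff_le_comap]
  exact pLayer_le_iff.mpr fun K hK =>
    map_le_iff_le_comap.mp (map_pComponent_normalizer_le hO hP hL hK)

end CfsgLib.Components
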