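import Mathlib
import Cfsg.Prelude.Def_Balance
import Cfsg.Agent.Lib.Components.Balance
import Cfsg.Agent.Lib.Coprime.Action

/-!
# `O_{p'}(C_G(x))` against the components, and the balance criterion
-/

set_option autoImplicit false
set_option linter.style.haveILetI false
set_option linter.unusedSectionVars false

open scoped Pointwise commutatorElement

namespace CfsgLib.Components

open Cfsg Subgroup CfsgLib.Base

variable {G : Type*} [Group G] [Finite G] {p : ℕ} [Fact p.Prime]

theorem le_normalizer_commutator_left (L X : Subgroup G) :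
    L ≤ normalizer ((⁅L, X⁆ : Subgroup G) : Set G) := by
  intro g hg
  have key : ∀ g ∈ L, ∀ y ∈ ⁅L, X⁆, g * y * g⁻¹ ∈ ⁅L, X⁆ := by
    intro g hg y hy
    refine closure_induction (p := fun y _ => g * y * g⁻¹ ∈ ⁅L, X⁆) ?_ ?_ ?_ ?_ hy
    · rintro _ ⟨a, ha, b, hb, rfl⟩
      have : g * ⁅a, b⁆ * g⁻¹ = ⁅g * a, b⁆ * ⁅g, b⁆⁻¹ := by group
      rw [this]
      exact mul_mem (commutator_mem_commutator (mul_mem hg ha) hb)
        (inv_mem (commutator_mem_commutator hg hb))
    · simp
    · intro a b _ _ ha hb
      have : g * (a * b) * g⁻¹ = (g * a * g⁻¹) * (g * b * g⁻¹) := by group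
      rw [this]
      exact mul_mem ha hb
    · intro a _ ha
      have : g * a⁻¹ * g⁻¹ = (g * a * g⁻¹)⁻¹ := by group
      rw [this]
      exact inv_mem ha
  refine mem_normalizer_iff.mpr fun y => ⟨key g hg y, fun hy => ?_⟩
  simpa [mul_assoc] using key g⁻¹ (inv_mem hg) _ hy

/-- A subgroup normalising a component either centralises it or induces it as commutator. -/
theorem le_centralizer_of_commutator_ne {L X : Subgroup G} (hL : IsComponent L)
    (hX : X ≤ normalizer (L : Set G)) (hne : ⁅L, X⁆ ≠ L) : L ≤ centralizer (X : Set G) := by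
  have hle : ⁅L, X⁆ ≤ L := CfsgLib.Coprime.commutator_le_of_le_normalizer hX
  have hn : ((⁅L, X⁆).subgroupOf L).Normal :=
    normal_subgroupOf_of_le_normalizer (le_normalizer_commutator_left L X)
  rw [← commutator_eq_bot_iff_le_centralizer]
  rcases quasisimple_normal_eq_top_or_le_center hL.2 ((⁅L, X⁆).subgroupOf L) with h | h
  · exact absurd (le_antisymm hle (subgroupOf_eq_top.mp h)) hne
  · refine commutator_eq_bot_of_perfect (component_commutator_self hL) ?_
    rw [commutator_eq_bot_iff_le_centralizer]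
    exact fun a ha => mem_centralizer_iff.mpr fun b hb =>
      congrArg Subtype.val (mem_center_iff.mp (h (show (⟨a, hle ha⟩ : L) ∈ _ from ha)) ⟨b, hb⟩)

theorem not_coprime_index_center (hO : pPrimeCore p G = ⊥) {L : Subgroup G} (hL : IsComponent L) :
    ¬ (center ↥L).index.Coprime p := by
  intro h
  obtain ⟨S⟩ : Nonempty (Sylow p ↥L) := inferInstance
  exact S.ne_bot_of_dvd_card (dvd_card_component hO hL)
    (central_pSubgroup_eq_bot_of_perfect hL.2.1 S.isPGroup'
      (isPGroup_le_of_isSubnormal_of_coprime_index (inferInstance : (center ↥L).Normal).isSubnormal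
        h S.isPGroup') h)

theorem component_not_le_pPrime {C X : Subgroup G} (hO : pPrimeCore p G = ⊥) {L : Subgroup G}
    (hL : IsComponent L) (hX : (Nat.card X).Coprime p) (_ : X ≤ C) : ¬ L ≤ X := fun h =>
  (Fact.out : p.Prime).coprime_iff_not_dvd.mp (hX.coprime_dvd_left (card_dvd_of_le h)).symm
    (dvd_card_component hO hL)

/-- A component `D` of `C_G(x)` commutes with `O_{p'}(C_G(x))`, if `p` divides its order. -/
theorem commutator_centralizerPPrimeCore_eq_bot {x : G} {D : Subgroup G}
    (hD : D ≤ centralizer ({x} : Set G))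
    (hcomp : IsComponent (D.subgroupOf (centralizer ({x} : Set G))))
    (hnot : ¬ (Nat.card D).Coprime p) : ⁅D, centralizerPPrimeCore p x⁆ = ⊥ := by
  rcases component_le_or_commutator_eq_bot hcomp
    (inferInstance : (pPrimeCore p ↥(centralizer ({x} : Set G))).Normal).isSubnormal with h | h
  · exfalso
    apply hnot
    refine (coprime_card_map_pPrimeCore (centralizer ({x} : Set G))).coprime_dvd_left
      (card_dvd_of_le ?_)
    rw [← map_subgroupOf_eq_of_le hD]
    exact map_mono h
  · have := congrArg (Subgroup.map (centralizer ({x} : Set G)).subtype) h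
    rwa [map_commutator, map_subgroupOf_eq_of_le hD, Subgroup.map_bot] at this

/-- If `[L, x] ≠ L` then the component `L` commutes with `O_{p'}(C_G(x))`. -/
theorem component_commutator_centralizerPPrimeCore (hO : pPrimeCore p G = ⊥) {x : G}
    (hx : orderOf x = p) {L : Subgroup G} (hL : IsComponent L)
    (hne : ⁅L, zpowers x⁆ ≠ L) : ⁅L, centralizerPPrimeCore p x⁆ = ⊥ := by
  set C := centralizer ({x} : Set G) with hC
  by_cases hxN : x ∈ normalizer (L : Set G)
  · have h := le_centralizer_of_commutator_ne hL (zpowers_le.mpr hxN) hne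
    have hLC : L ≤ C := fun a ha => mem_centralizer_singleton_iff.mpr
      (mem_centralizer_iff.mp (h ha) x (mem_zpowers x)).symm
    refine commutator_centralizerPPrimeCore_eq_bot hLC (isComponent_subgroupOf hLC hL) ?_
    exact fun hcop => (Fact.out : p.Prime).coprime_iff_not_dvd.mp hcop.symm
      (dvd_card_component hO hL)
  -- the regular orbit
  have hxp : x ^ p = 1 := hx ▸ pow_orderOf_eq_one x
  have hdist : ∀ i j : ℕ, i < j → j < p →
      L.map (MulAut.conj (x ^ i)).toMonoidHom ≠ L.map (MulAut.conj (x ^ j)).toMonoidHom := by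
    intro i j hij hjp he
    have h1 : x ^ (j - i) ∈ normalizer (L : Set G) := by
      rw [← map_conj_eq_self_iff]
      have e : x ^ (j - i) = (x ^ i)⁻¹ * x ^ j := by
        rw [eq_inv_mul_iff_mul_eq, ← pow_add]
        congr 1
        omega
      rw [e, map_conj_mul, ← he, ← map_conj_mul, inv_mul_cancel, map_conj_one]
    have hcop : (j - i).Coprime (orderOf x) := by
      rw [hx]
      exact Nat.coprime_comm.mp ((Fact.out : p.Prime).coprime_iff_not_dvd.mpr fun hd =>
        absurd (Nat.le_of_dvd (by omega) hd) (by omega))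
    obtain ⟨m, hm⟩ := exists_pow_eq_self_of_coprime hcop
    exact hxN (hm ▸ pow_mem h1 m)
  let c : ℕ → G → G := fun i l => x ^ i * l * (x ^ i)⁻¹
  let Pk : ℕ → G → G := fun k l => (l * x) ^ k * (x ^ k)⁻¹
  have hcmem : ∀ i, ∀ l ∈ L, c i l ∈ L.map (MulAut.conj (x ^ i)).toMonoidHom :=
    fun i l hl => ⟨l, hl, rfl⟩
  have hsucc : ∀ k l, Pk (k + 1) l = Pk k l * c k l := by
    intro k l
    simp only [Pk, c, pow_succ]
    group
  have hcc : ∀ i j, i < p → j < p → i ≠ j → ∀ a ∈ L, ∀ b ∈ L, Commute (c i a) (c j b) := by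
    intro i j hi hj hij a ha b hb
    have hne' : L.map (MulAut.conj (x ^ i)).toMonoidHom ≠ L.map (MulAut.conj (x ^ j)).toMonoidHom := by
      rcases Nat.lt_or_gt_of_ne hij with h | h
      · exact hdist i j h hj
      · exact (hdist j i h hi).symm
    have := commutator_eq_bot_iff_le_centralizer.mp
      (components_commute (isComponent_conj hL (x ^ i)) (isComponent_conj hL (x ^ j)) hne') (hcmem i a ha)
    exact (mem_centralizer_iff.mp this (c j b) (hcmem j b hb)).symm
  have hPc : ∀ k j, k ≤ j → j < p → ∀ a ∈ L, ∀ b ∈ L, Commute (Pk k a) (c j b) := by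
    intro k
    induction k with
    | zero => intro j _ _ a _ b _; simp [Pk]
    | succ k ih =>
      intro j hkj hj a ha b hb
      rw [hsucc]
      exact (ih j (by omega) hj a ha b hb).mul_left (hcc k j (by omega) hj (by omega) a ha b hb)
  have hmul : ∀ k, k ≤ p → ∀ a ∈ L, ∀ b ∈ L, Pk k (a * b) = Pk k a * Pk k b := by
    intro k
    induction k with
    | zero => intro _ a _ b _; simp [Pk]
    | succ k ih =>
      intro hk a ha b hb
      have h1 : c k (a * b) = c k a * c k b := by simp only [c]; group
      have h2 := hPc k k le_rfl (by omega) b hb a ha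
      calc Pk (k + 1) (a * b) = (Pk k a * Pk k b) * (c k a * c k b) := by
            rw [hsucc, ih (by omega) a ha b hb, h1]
        _ = Pk k a * (Pk k b * c k a) * c k b := by group
        _ = Pk k a * (c k a * Pk k b) * c k b := by rw [h2.eq]
        _ = Pk (k + 1) a * Pk (k + 1) b := by rw [hsucc, hsucc]; group
  have hPp : ∀ l, Pk p l = (l * x) ^ p := fun l => by simp [Pk, hxp]
  let φ : ↥L →* G := MonoidHom.mk' (fun l => ((l : G) * x) ^ p) fun a b => by
    rw [Subgroup.coe_mul, ← hPp, ← hPp, ← hPp, hmul p le_rfl a a.2 b b.2]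
  have hφ : ∀ l : ↥L, φ l = ((l : G) * x) ^ p := fun l => rfl
  have hφx : ∀ l : ↥L, Commute (φ l) x := by
    intro l
    have h1 : Commute (φ l) ((l : G) * x) := (Commute.refl _).pow_left p
    have h2 : ∀ k, k ≤ p → Commute (Pk k l) (l : G) := by
      intro k
      induction k with
      | zero => intro _; simp [Pk]
      | succ k ih =>
        intro hk
        rw [hsucc]
        refine (ih (by omega)).mul_left ?_
        rcases Nat.eq_zero_or_pos k with rfl | hk0
        · simp [c]
        · have := hcc k 0 (by omega) (Fact.out : p.Prime).pos (by omega) l l.2 l l.2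
          simpa [c] using this
    have h3 : Commute (φ l) (l : G) := by
      rw [hφ, ← hPp]
      exact h2 p le_rfl
    have := h3.inv_right.mul_right h1
    rwa [inv_mul_cancel_left] at this
  -- action of `φ l` on `L`
  have hact : ∀ l : ↥L, ∀ w ∈ L, φ l * w * (φ l)⁻¹ = (l : G) * w * (l : G)⁻¹ := by
    intro l w hw
    have key : ∀ k, 1 ≤ k → k ≤ p → Pk k l * w * (Pk k l)⁻¹ = (l : G) * w * (l : G)⁻¹ := by
      intro k hk1 hk
      induction k, hk1 using Nat.le_induction with
      | base => simp [Pk]
      | succ k hk1 ih =>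
        have h0 := hcc k 0 (by omega) (Fact.out : p.Prime).pos (by omega) l l.2 w hw
        have h0' : c k l * w * (c k l)⁻¹ = w := by
          have : Commute (c k l) w := by simpa [c] using h0
          rw [this.eq, mul_inv_cancel_right]
        rw [hsucc, ← ih (by omega)]
        calc Pk k l * c k l * w * (Pk k l * c k l)⁻¹
            = Pk k l * (c k l * w * (c k l)⁻¹) * (Pk k l)⁻¹ := by group
          _ = _ := by rw [h0']
    rw [hφ, ← hPp]
    exact key p (Fact.out : p.Prime).one_le le_rfl
  have hφE : ∀ l : ↥L, φ l ∈ layer G := by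
    intro l
    rw [hφ, ← hPp]
    have : ∀ k, Pk k l ∈ layer G := by
      intro k
      induction k with
      | zero => simp [Pk]
      | succ k ih =>
        rw [hsucc]
        exact mul_mem ih ((component_le_layer (isComponent_conj hL _)) (hcmem k l l.2))
    exact this p
  have hker : φ.ker ≤ center ↥L := by
    intro l hl
    refine mem_center_iff.mpr fun w => Subtype.ext ?_
    have := hact l w w.2
    rw [MonoidHom.mem_ker.mp hl] at this
    simp only [one_mul, inv_one, mul_one] at this
    show (w : G) * l = l * w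
    conv_lhs => rw [this]
    group
  have hDC : φ.range ≤ C := by
    rintro _ ⟨l, rfl⟩
    exact mem_centralizer_singleton_iff.mpr (hφx l).eq
  have hnt : Nontrivial ↥φ.range := by
    rw [nontrivial_iff_ne_bot]
    intro h
    refine quasisimple_center_ne_top hL.2 (top_le_iff.mp fun l _ => hker ?_)
    rw [MonoidHom.mem_ker]
    exact (mem_bot).mp (h ▸ ⟨l, rfl⟩)
  have hcomp : IsComponent (φ.range.subgroupOf C) := by
    refine ⟨IsSubnormal.step _ ((layer G).subgroupOf C) ?_ (inferInstance : ((layer G).subgroupOf C).Normal).isSubnormal ?_,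
      isQuasisimple_of_mulEquiv (subgroupOfEquivOfLe hDC).symm
        (isQuasisimple_of_surjective hL.2 φ.rangeRestrict φ.rangeRestrict_surjective)⟩
    · rintro d ⟨l, hl⟩
      show (d : G) ∈ layer G
      have h : (d : G) = φ l := hl.symm
      rw [h]
      exact hφE l
    · refine normal_subgroupOf_of_le_normalizer fun z hz => ?_
      have key : ∀ z : ↥C, (z : G) ∈ layer G → ∀ d ∈ φ.range.subgroupOf C,
          z * d * z⁻¹ ∈ φ.range.subgroupOf C := by
        rintro z hz d ⟨l, hl⟩
        have hzl : (z : G) * l * (z : G)⁻¹ ∈ L :=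
          (mem_normalizer_iff.mp (layer_le_normalizer_of_subnormal hL.1 hz) _).mp l.2
        refine ⟨⟨_, hzl⟩, ?_⟩
        have hzx : x * (z : G) = (z : G) * x := (mem_centralizer_singleton_iff.mp z.2).symm
        show (((z : G) * l * (z : G)⁻¹) * x) ^ p = (z : G) * d * (z : G)⁻¹
        have e : (z : G) * l * (z : G)⁻¹ * x = (z : G) * ((l : G) * x) * (z : G)⁻¹ := by
          calc (z : G) * l * (z : G)⁻¹ * x = (z : G) * l * ((z : G)⁻¹ * (x * z)) * (z : G)⁻¹ := by group
            _ = _ := by rw [hzx]; group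
        rw [e, conj_pow, ← hφ, hl]
        rfl
      refine mem_normalizer_iff.mpr fun d => ⟨key z hz d, fun hd => ?_⟩
      simpa [mul_assoc] using key z⁻¹ (inv_mem hz) _ hd
  have hcop : ¬ (Nat.card φ.range).Coprime p := fun h => not_coprime_index_center hO hL
    (h.coprime_dvd_left ((index_dvd_of_le hker).trans (by rw [Subgroup.index_ker])))
  have hDY := commutator_centralizerPPrimeCore_eq_bot hDC hcomp hcop
  rw [commutator_eq_bot_iff_le_centralizer] at hDY
  -- `Y` normalises `L`
  have hYN : ∀ y ∈ centralizerPPrimeCore p x, y ∈ normalizer (L : Set G) := by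
    intro y hy
    have hyC : y ∈ C := map_subtype_le _ hy
    have hyP : y ∈ centralizer (zpowers x : Set G) := mem_centralizer_iff.mpr fun u hu => by
      obtain ⟨k, rfl⟩ := mem_zpowers_iff.mp hu
      exact ((show Commute x y from (mem_centralizer_singleton_iff.mp hyC).symm).zpow_left k).eq
    by_cases hex : ∃ k < p, L.map (MulAut.conj y).toMonoidHom = L.map (MulAut.conj (x ^ k)).toMonoidHom
    · obtain ⟨k, -, hk⟩ := hex
      refine mem_normalizer_of_mem_orbit (p := p) ?_ hyP (mem_map_pPrimeCore_coprime hy)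
        (pow_mem (mem_zpowers x) k) hk
      exact IsPGroup.of_card (n := 1) (by rw [Nat.card_zpowers, hx, pow_one])
    exfalso
    push Not at hex
    apply quasisimple_not_isMulCommutative hL.2
    refine ⟨⟨fun l w => Subtype.ext ?_⟩⟩
    have hcen : φ l * (y * w * y⁻¹) * (φ l)⁻¹ = y * w * y⁻¹ := by
      have : ∀ k, k ≤ p → Commute (Pk k l) (y * w * y⁻¹) := by
        intro k
        induction k with
        | zero => intro _; simp [Pk]
        | succ k ih =>
          intro hk
          rw [hsucc]
          refine (ih (by omega)).mul_left ?_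
          have := commutator_eq_bot_iff_le_centralizer.mp (components_commute
            (isComponent_conj hL y) (isComponent_conj hL (x ^ k)) (hex k (by omega))) ⟨w, w.2, rfl⟩
          exact mem_centralizer_iff.mp this (c k l) (hcmem k l l.2)
      rw [hφ, ← hPp, (this p le_rfl).eq, mul_inv_cancel_right]
    have hyφ : φ l * y = y * φ l := (mem_centralizer_iff.mp (hDY ⟨l, rfl⟩) y hy).symm
    have h1 : y * ((l : G) * w * (l : G)⁻¹) * y⁻¹ = y * w * y⁻¹ := by
      conv_rhs => rw [← hcen]
      rw [← hact l w w.2]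
      calc y * (φ l * w * (φ l)⁻¹) * y⁻¹ = (y * φ l) * w * (y * φ l)⁻¹ := by group
        _ = (φ l * y) * w * (φ l * y)⁻¹ := by rw [hyφ]
        _ = _ := by group
    exact mul_inv_eq_iff_eq_mul.mp (mul_left_cancel (mul_right_cancel h1))
  rw [commutator_comm]
  refine (commutator_comm _ _).trans (commutator_eq_bot_of_perfect (component_commutator_self hL) ?_)
  rw [commutator_eq_bot_iff_le_centralizer, commutator_le]
  intro l hl y hy
  have hl' : y * l * y⁻¹ ∈ L := (mem_normalizer_iff.mp (hYN y hy) l).mp hl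
  set l' : ↥L := ⟨y * l * y⁻¹, hl'⟩ with hl'def
  have hyx : x * y = y * x := (mem_centralizer_singleton_iff.mp (map_subtype_le _ hy)).symm
  have hφeq : φ l' = φ ⟨l, hl⟩ := by
    have e : y * l * y⁻¹ * x = y * (l * x) * y⁻¹ := by
      calc y * l * y⁻¹ * x = y * l * (y⁻¹ * (x * y)) * y⁻¹ := by group
        _ = _ := by rw [hyx]; group
    show (y * l * y⁻¹ * x) ^ p = (l * x) ^ p
    rw [e, conj_pow, ← hφ ⟨l, hl⟩, mem_centralizer_iff.mp (hDY ⟨⟨l, hl⟩, rfl⟩) y hy,
      mul_inv_cancel_right]
  have hz : (⟨l, hl⟩ : ↥L) * l'⁻¹ ∈ center ↥L := hker (by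
    rw [MonoidHom.mem_ker, map_mul, map_inv, hφeq, mul_inv_cancel])
  refine mem_centralizer_iff.mpr fun w hw => ?_
  have e : ⁅l, y⁆ = l * (y * l * y⁻¹)⁻¹ := by group
  rw [e]
  exact congrArg Subtype.val (mem_center_iff.mp hz ⟨w, hw⟩)

theorem centralizerPPrimeCore_le_normalizer_zpowers (x : G) :
    centralizerPPrimeCore p x ≤
      (pPrimeCore p ↥(normalizer (zpowers x : Set G))).map (normalizer (zpowers x : Set G)).subtype := by
  have e : centralizer ({x} : Set G) = centralizer (zpowers x : Set G) := by
    rw [zpowers_eq_closure, centralizer_closure]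
  rw [centralizerPPrimeCore, e]
  exact map_pPrimeCore_le_of_normal_subgroupOf (centralizer_le_normalizer _) inferInstance

/-- The heart of the balance criterion: if `H/C_H(L)` is balanced for the group `H = L⟨x⟩Y`,
then `Y = O_{p'}(C_G(x))` centralises `L`. -/
theorem centralizerPPrimeCore_le_centralizer_component (hO : pPrimeCore p G = ⊥) {x : G}
    (hx : orderOf x = p) {L : Subgroup G} (hL : IsComponent L)
    (hbal : ∀ H : Subgroup G, L ≤ H → (L.subgroupOf H).Normal →
      ∀ [((centralizer (L : Set G)).subgroupOf H).Normal],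
        IsBalancedFor p (↥H ⧸ (centralizer (L : Set G)).subgroupOf H)) :
    centralizerPPrimeCore p x ≤ centralizer (L : Set G) := by
  set Y := centralizerPPrimeCore p x with hY
  by_cases hne : ⁅L, zpowers x⁆ = L
  swap
  · exact le_centralizer_iff.mp (commutator_eq_bot_iff_le_centralizer.mp
      (component_commutator_centralizerPPrimeCore hO hx hL hne))
  have hPp : IsPGroup p (zpowers x) :=
    IsPGroup.of_card (n := 1) (by rw [Nat.card_zpowers, hx, pow_one])
  have hxN : zpowers x ≤ normalizer (L : Set G) := by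
    intro g hg
    have hle : ∀ l ∈ L, ∀ g ∈ zpowers x, g * l * g⁻¹ ∈ L := fun l hl g hg => by
      have h1 : ⁅l, g⁆ ∈ L := hne.le (commutator_mem_commutator hl hg)
      have e : g * l * g⁻¹ = ⁅l, g⁆⁻¹ * l := by group
      rw [e]
      exact mul_mem (inv_mem h1) hl
    exact mem_normalizer_iff.mpr fun l => ⟨fun hl => hle l hl g hg, fun hl => by
      simpa [mul_assoc] using hle _ hl g⁻¹ (inv_mem hg)⟩
  have hYO := centralizerPPrimeCore_le_normalizer_zpowers (p := p) x
  have hYN : Y ≤ normalizer (L : Set G) := fun y hy =>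
    mem_normalizer_component_of_pPrimeCore hO hPp hL (hYO hy)
  have hYx : ∀ y ∈ Y, y * x = x * y := fun y hy =>
    mem_centralizer_singleton_iff.mp (map_subtype_le _ hy)
  set W := Y ⊔ zpowers x with hW
  have hWN : W ≤ normalizer (L : Set G) := sup_le hYN hxN
  have hWx : W ≤ centralizer ({x} : Set G) := sup_le (map_subtype_le _)
    (zpowers_le.mpr (mem_centralizer_singleton_iff.mpr rfl))
  set H := W ⊔ L with hH
  have hHN : H ≤ normalizer (L : Set G) := sup_le hWN le_normalizer
  have hLn : (L.subgroupOf H).Normal := normal_subgroupOf_of_le_normalizer hHN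
  haveI hKn : ((centralizer (L : Set G)).subgroupOf H).Normal :=
    normal_subgroupOf_of_le_normalizer
      (hHN.trans (CfsgLib.PLocal.normalizer_le_centralizer_normalizer L))
  have hb := hbal H le_sup_right hLn
  set K := (centralizer (L : Set G)).subgroupOf H with hK
  set f := QuotientGroup.mk' K with hf
  have hxH : x ∈ H := mem_sup_left (mem_sup_right (mem_zpowers x))
  set xb := f ⟨x, hxH⟩ with hxb_def
  have hxb_order : orderOf xb = p := by
    refine orderOf_eq_prime ?_ fun h1 => ?_
    · rw [hxb_def, ← map_pow]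
      have : (⟨x, hxH⟩ : H) ^ p = 1 := Subtype.ext (by simpa using hx ▸ pow_orderOf_eq_one x)
      rw [this, map_one]
    · apply component_ne_bot hL
      rw [← hne, commutator_eq_bot_iff_le_centralizer]
      have hxc : x ∈ centralizer (L : Set G) :=
        mem_subgroupOf.mp ((QuotientGroup.eq_one_iff (⟨x, hxH⟩ : H)).mp h1)
      exact le_centralizer_iff.mp (zpowers_le.mpr hxc)
  set Z := L ⊓ centralizer (L : Set G) with hZ
  have hZp : IsPGroup p Z := isPGroup_inf_centralizer_of_subnormal hO hL.1
  have hZle : Z ≤ pCore p G := by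
    refine le_pCore_of_isSubnormal (IsSubnormal.step _ L inf_le_left hL.1
      (normal_subgroupOf_of_le_normalizer ?_)) hZp
    exact (le_inf le_normalizer
      (le_normalizer.trans (CfsgLib.PLocal.normalizer_le_centralizer_normalizer L))).trans
        inf_normalizer_le_normalizer_inf
  have hxZ : zpowers x ≤ normalizer (Z : Set G) :=
    (le_inf hxN (hxN.trans (CfsgLib.PLocal.normalizer_le_centralizer_normalizer L))).trans
      inf_normalizer_le_normalizer_inf
  set P' := Z ⊔ zpowers x with hP'
  set O' := (pPrimeCore p ↥(normalizer (P' : Set G))).map (normalizer (P' : Set G)).subtype ⊓ H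
    with hO'
  have hYO' : Y ≤ O' := fun y hy => by
    refine ⟨inf_le_pPrimeCore_normalizer le_sup_right (hYO hy) ?_, mem_sup_left (mem_sup_left hy)⟩
    have hyR := map_pPrimeCore_normalizer_le_centralizer_pCore hPp (hYO hy)
    have h : P' ≤ centralizer ({y} : Set G) := sup_le
      (fun z hz => mem_centralizer_singleton_iff.mpr (mem_centralizer_iff.mp hyR z (hZle hz)))
      (zpowers_le.mpr (mem_centralizer_singleton_iff.mpr (hYx y hy).symm))
    exact mem_centralizer_iff.mpr fun u hu => mem_centralizer_singleton_iff.mp (h hu)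
  have hO'x : ∀ g ∈ O', g * x = x * g := fun g hg =>
    ((mem_centralizer_iff.mp (map_pPrimeCore_normalizer_le_centralizer
      (hZp.to_sup_of_normal_left' hPp hxZ) hg.1)) x (mem_sup_right (mem_zpowers x))).symm
  -- the preimage of the centraliser normalises `O'`
  have hpre : ∀ h : ↥H, f h * xb = xb * f h → (h : G) ∈ normalizer (O' : Set G) := by
    intro h hh
    have hd : ⁅(h : G), x⁆ ∈ centralizer (L : Set G) := by
      have h1 : f ⁅h, (⟨x, hxH⟩ : H)⁆ = 1 := by
        rw [map_commutatorElement, commutatorElement_eq_one_iff_mul_comm]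
        exact hh
      exact mem_subgroupOf.mp ((QuotientGroup.eq_one_iff ⁅h, (⟨x, hxH⟩ : H)⁆).mp h1)
    have hh' : (h : G) ∈ ((L : Set G) * (W : Set G)) := by
      rw [← coe_mul_of_right_le_normalizer_left L W hWN, sup_comm]
      exact h.2
    obtain ⟨l, hl, w, hw, hlw⟩ := Set.mem_mul.mp hh'
    have hwx : w * x = x * w := mem_centralizer_singleton_iff.mp (hWx hw)
    have e : ⁅(h : G), x⁆ = ⁅l, x⁆ := by
      rw [← hlw]
      calc ⁅l * w, x⁆ = l * (w * x) * w⁻¹ * l⁻¹ * x⁻¹ := by group
        _ = _ := by rw [hwx]; group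
    have hlx : ⁅l, x⁆ ∈ Z := mem_inf.mpr
      ⟨hne.le (commutator_mem_commutator hl (mem_zpowers x)), e ▸ hd⟩
    have hlP : l ∈ normalizer (P' : Set G) := by
      refine map_conj_eq_self_iff.mp (eq_of_le_of_card_ge ?_ (card_map_conj l P').ge)
      rw [hP', Subgroup.map_sup, sup_le_iff]
      constructor
      · rintro _ ⟨z, hz, rfl⟩
        refine mem_sup_left ?_
        show l * z * l⁻¹ ∈ Z
        rw [mem_centralizer_iff.mp hz.2 l hl, mul_inv_cancel_right]
        exact hz
      · rw [map_le_iff_le_comap]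
        refine zpowers_le.mpr ?_
        show l * x * l⁻¹ ∈ Z ⊔ zpowers x
        have e' : l * x * l⁻¹ = ⁅l, x⁆ * x := by group
        rw [e']
        exact mul_mem_sup hlx (mem_zpowers x)
    have hwP : w ∈ normalizer (P' : Set G) := by
      have hwZ : w ∈ normalizer (Z : Set G) := inf_normalizer_le_normalizer_inf
        ⟨hWN hw, CfsgLib.PLocal.normalizer_le_centralizer_normalizer L (hWN hw)⟩
      refine map_conj_eq_self_iff.mp ?_
      rw [hP', Subgroup.map_sup, map_conj_eq_self_iff.mpr hwZ, MonoidHom.map_zpowers]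
      congr 2
      show w * x * w⁻¹ = x
      rw [hwx, mul_inv_cancel_right]
    have hhP : (h : G) ∈ normalizer (P' : Set G) := hlw ▸ mul_mem hlP hwP
    exact inf_normalizer_le_normalizer_inf ⟨le_normalizer_map_pPrimeCore _ hhP, le_normalizer h.2⟩
  set Ob := (O'.subgroupOf H).map f with hOb
  have hObC : Ob ≤ centralizer ({xb} : Set (↥H ⧸ K)) := by
    rintro _ ⟨g, hg, rfl⟩
    rw [mem_centralizer_singleton_iff, hxb_def, ← map_mul, ← map_mul]
    exact congrArg f (Subtype.ext (hO'x g hg))
  have hCN : centralizer ({xb} : Set (↥H ⧸ K)) ≤ normalizer (Ob : Set (↥H ⧸ K)) := by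
    intro q hq
    obtain ⟨h, rfl⟩ := QuotientGroup.mk'_surjective K q
    refine le_normalizer_map f ?_
    refine ⟨h, ?_, rfl⟩
    refine le_normalizer_comap H.subtype ?_
    exact hpre h (mem_centralizer_singleton_iff.mp hq)
  have hObp : (Nat.card Ob).Coprime p :=
    ((coprime_card_map_pPrimeCore (normalizer (P' : Set G))).coprime_dvd_left
      (card_dvd_of_le inf_le_left)).coprime_dvd_left
        ((CfsgLib.Base.card_map_dvd _ _).trans (by rw [card_subgroupOf inf_le_right]))
  have hObH : Ob ≤ pPrimeCore p (↥H ⧸ K) :=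
    (le_map_pPrimeCore hObC hCN hObp).trans (hb xb hxb_order)
  -- `O_{p'}(H/K)` centralises `L`
  set U := (pPrimeCore p (↥H ⧸ K)).comap f with hU
  have hUL : ⁅(L.subgroupOf H), U⁆ ≤ L.subgroupOf H ⊓ U :=
    le_inf (commutator_le_left _ _) (commutator_le_right _ _)
  have hU0 : (U.map H.subtype).subgroupOf L ≠ ⊤ := by
    intro htop
    apply not_coprime_index_center hO hL
    let g : ↥L →* ↥H ⧸ K := f.comp (inclusion (le_sup_right : L ≤ H))
    have hg : g.range ≤ pPrimeCore p (↥H ⧸ K) := by
      rintro _ ⟨l, rfl⟩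
      obtain ⟨u, hu, hul⟩ := subgroupOf_eq_top.mp htop l.2
      have : inclusion (le_sup_right : L ≤ H) l = u := Subtype.ext hul.symm
      show f _ ∈ _
      rw [this]
      exact hu
    have hgk : g.ker ≤ center ↥L := fun l hl => mem_center_iff.mpr fun w => Subtype.ext
      (mem_centralizer_iff.mp (mem_subgroupOf.mp
        ((QuotientGroup.eq_one_iff (inclusion (le_sup_right : L ≤ H) l)).mp hl)) w w.2)
    refine (pPrimeCore_coprime p (↥H ⧸ K)).coprime_dvd_left ((index_dvd_of_le hgk).trans ?_)
    rw [Subgroup.index_ker]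
    exact card_dvd_of_le hg
  have hUn : ((U.map H.subtype).subgroupOf L).Normal := by
    refine normal_subgroupOf_of_le_normalizer ?_
    refine (le_sup_right : L ≤ H).trans ?_
    intro h hh
    exact le_normalizer_map H.subtype
      ⟨⟨h, hh⟩, le_normalizer_of_normal (mem_top _), rfl⟩
  have hUc := (quasisimple_normal_eq_top_or_le_center hL.2 _).resolve_left hU0
  have hUC : U.map H.subtype ≤ centralizer (L : Set G) := by
    rw [le_centralizer_iff, ← commutator_eq_bot_iff_le_centralizer]
    refine commutator_eq_bot_of_perfect (component_commutator_self hL) ?_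
    rw [commutator_eq_bot_iff_le_centralizer]
    have := map_mono (f := H.subtype) hUL
    rw [map_commutator, map_subgroupOf_eq_of_le (le_sup_right : L ≤ H)] at this
    intro a ha
    obtain ⟨⟨b, hb⟩, hbm, rfl⟩ := this ha
    refine mem_centralizer_iff.mpr fun w hw => ?_
    exact congrArg Subtype.val (mem_center_iff.mp
      (hUc (show (⟨b, hbm.1⟩ : L) ∈ _ from ⟨⟨b, hb⟩, hbm.2, rfl⟩)) ⟨w, hw⟩)
  intro y hy
  exact hUC ⟨⟨y, mem_sup_left (mem_sup_left hy)⟩,
    hObH ⟨⟨y, mem_sup_left (mem_sup_left hy)⟩, hYO' hy, rfl⟩, rfl⟩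

/-- Balance criterion: all `H/C_H(L)` balanced implies `G` balanced. -/
theorem isBalancedFor_of_components (hO : pPrimeCore p G = ⊥)
    (h : ∀ L : Subgroup G, IsComponent L → ∀ H : Subgroup G, L ≤ H → (L.subgroupOf H).Normal →
      ∀ [((centralizer (L : Set G)).subgroupOf H).Normal],
        IsBalancedFor p (↥H ⧸ (centralizer (L : Set G)).subgroupOf H)) :
    IsBalancedFor p G := by
  intro x hx
  rw [hO]
  have hPp : IsPGroup p (zpowers x) :=
    IsPGroup.of_card (n := 1) (by rw [Nat.card_zpowers, hx, pow_one])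
  have hYR := (centralizerPPrimeCore_le_normalizer_zpowers (p := p) x).trans
    (map_pPrimeCore_normalizer_le_centralizer_pCore hPp)
  have hYE : centralizerPPrimeCore p x ≤ centralizer (layer G : Set G) := by
    rw [le_centralizer_iff]
    exact layer_le_iff.mpr fun L hL => le_centralizer_iff.mp
      (centralizerPPrimeCore_le_centralizer_component hO hx hL (h L hL))
  have hYF : centralizerPPrimeCore p x ≤ fittingSubgroup G := by
    refine le_trans ?_ centralizer_fstar_le_fitting
    rw [le_centralizer_iff]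
    refine sup_le (le_centralizer_iff.mp hYE) ?_
    rw [fitting_eq_pCore_of_pPrimeCore_eq_bot hO]
    exact le_centralizer_iff.mp hYR
  rw [fitting_eq_pCore_of_pPrimeCore_eq_bot hO] at hYF
  rw [le_bot_iff, ← inf_of_le_right hYF]
  exact inf_eq_bot_of_isPGroup_of_coprime (isPGroup_pCore p G) (coprime_card_map_pPrimeCore _)

end CfsgLib.Components
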