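import Mathlib
import Cfsg.Agent.Lib.Coprime.Action
import Cfsg.Agent.Lib.Coprime.Action2

/-!
# Fixed points of a four-group in a solvable group of odd order

If `B` is a four-group acting on the solvable group `V = [V, B]` of odd order, then `C_V(B)` lies in any
subgroup containing all the intersections `[C_V(c), B] ∩ C(B)`, `c ∈ B#`. The proof descends the derived
series.
-/

set_option autoImplicit false
set_option linter.unusedSectionVars false
set_option linter.style.haveILetI false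

namespace CfsgLib.FourGroupFixed

open Subgroup
open scoped commutatorElement

variable {G : Type*} [Group G] [Finite G]

/-- The derived series of a subgroup, inside the ambient group. -/
def ser (V : Subgroup G) : ℕ → Subgroup G
  | 0 => V
  | n + 1 => ⁅ser V n, ser V n⁆

theorem ser_le (V : Subgroup G) : ∀ n, ser V n ≤ V
  | 0 => le_rfl
  | n + 1 => (commutator_le_self _).trans (ser_le V n)

theorem exists_ser_eq_bot (V : Subgroup G) (hV : Group.IsSolvable ↥V) :
    ∃ n, ser V n = ⊥ := by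
  obtain ⟨n, hn⟩ := hV.solvable
  refine ⟨n, ?_⟩
  have h : ∀ m, ser V m = (derivedSeries ↥V m).map V.subtype := by
    intro m
    induction m with
    | zero => simp [ser, ← MonoidHom.range_eq_map]
    | succ m ih => rw [ser, ih, derivedSeries_succ, map_commutator]
  rw [h, hn, Subgroup.map_bot]

theorem normalizer_le_normalizer_commutator (X Y : Subgroup G) :
    normalizer (X : Set G) ⊓ normalizer (Y : Set G) ≤ normalizer ((⁅X, Y⁆ : Subgroup G) : Set G) := by
  rintro g ⟨hX, hY⟩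
  refine mem_normalizer_iff_map_conj_eq.2 ?_
  rw [map_commutator, mem_normalizer_iff_map_conj_eq.1 hX, mem_normalizer_iff_map_conj_eq.1 hY]

theorem le_normalizer_ser {V X : Subgroup G} (h : X ≤ normalizer (V : Set G)) :
    ∀ n, X ≤ normalizer (ser V n : Set G)
  | 0 => h
  | n + 1 => (le_inf (le_normalizer_ser h n) (le_normalizer_ser h n)).trans
      (normalizer_le_normalizer_commutator _ _)

theorem conj_mem {X : Subgroup G} {g x : G} (hg : g ∈ normalizer (X : Set G)) (hx : x ∈ X) :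
    g * x * g⁻¹ ∈ X := (mem_normalizer_iff.1 hg x).1 hx

theorem le_normalizer_of_gen {X N : Subgroup G}
    (h : ∀ g ∈ X, ∀ x ∈ N, g * x * g⁻¹ ∈ N) : X ≤ normalizer (N : Set G) := by
  intro g hg
  refine mem_normalizer_iff.2 fun x => ⟨h g hg x, fun hx => ?_⟩
  simpa [mul_assoc] using h g⁻¹ (inv_mem hg) _ hx

theorem mem_of_sq_mem {X : Subgroup G} (r : G) (hr : Odd (orderOf r)) (h : r * r ∈ X) : r ∈ X := by
  obtain ⟨k, hk⟩ := hr
  have e : r = (r * r) ^ (k + 1) := by
    rw [← pow_two, ← pow_mul, show 2 * (k + 1) = orderOf r + 1 by omega, pow_succ,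
      pow_orderOf_eq_one, one_mul]
  rw [e]
  exact pow_mem h _

theorem inv_eq_self_of_sq {b : G} (h : b * b = 1) : b⁻¹ = b := inv_eq_of_mul_eq_one_right h

section

variable {B R : Subgroup G} [IsMulCommutative B]

/-- In the abelianisation of `R`, the commutators with `B` meet the fixed points trivially. -/
theorem mem_derived_of_fixed (hBR : B ≤ normalizer (R : Set G))
    (hcop : (Nat.card B).Coprime (Nat.card R)) {x : G} (hxR : x ∈ R)
    (hx : x ∈ ⁅R, B⁆ ⊔ ⁅R, R⁆) (hfix : x ∈ centralizer (B : Set G)) : x ∈ ⁅R, R⁆ := by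
  classical
  let : Fintype B := Fintype.ofFinite B
  let act : B → R →* Abelianization R := fun b => MonoidHom.mk'
    (fun v => Abelianization.of (⟨b * v * (b : G)⁻¹, conj_mem (hBR b.2) v.2⟩ : R))
    (fun v w => by
      rw [← map_mul]
      exact congrArg Abelianization.of (Subtype.ext (by simp [mul_assoc])))
  let θ : R →* Abelianization R := ∏ b : B, act b
  have hker : (⁅R, B⁆ ⊔ ⁅R, R⁆) ≤ θ.ker.map R.subtype := by
    refine sup_le (commutator_le.2 fun v hv b hb => ?_) (commutator_le.2 fun v hv w hw => ?_)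
    · refine ⟨⟨v, hv⟩ * ⟨b * v⁻¹ * b⁻¹, conj_mem (hBR hb) (inv_mem hv)⟩, ?_,
        by simp [commutatorElement_def, mul_assoc]⟩
      rw [SetLike.mem_coe, MonoidHom.mem_ker, map_mul]
      have h : θ ⟨b * v⁻¹ * b⁻¹, conj_mem (hBR hb) (inv_mem hv)⟩ = θ ⟨v⁻¹, inv_mem hv⟩ := by
        simp only [θ, MonoidHom.finsetProd_apply]
        refine Fintype.prod_equiv (Equiv.mulRight (⟨b, hb⟩ : B)) _ _ fun a => ?_
        simp only [act, MonoidHom.mk'_apply]
        exact congrArg Abelianization.of (Subtype.ext (by simp [mul_assoc]))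
      rw [h, ← map_mul]
      convert θ.map_one
      exact Subtype.ext (by simp)
    · refine ⟨⁅(⟨v, hv⟩ : R), ⟨w, hw⟩⁆, ?_, rfl⟩
      rw [SetLike.mem_coe, MonoidHom.mem_ker, map_commutatorElement]
      exact commutatorElement_eq_one_iff_mul_comm.2 (mul_comm _ _)
  obtain ⟨w, hw, hwx⟩ := hker hx
  obtain rfl : w = ⟨x, hxR⟩ := Subtype.ext hwx
  have hθ : θ ⟨x, hxR⟩ = (Abelianization.of (⟨x, hxR⟩ : R)) ^ Nat.card B := by
    rw [Nat.card_eq_fintype_card, ← Finset.card_univ, ← Finset.prod_const]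
    simp only [θ, MonoidHom.finsetProd_apply]
    refine Finset.prod_congr rfl fun b _ => ?_
    simp only [act, MonoidHom.mk'_apply]
    refine congrArg Abelianization.of (Subtype.ext ?_)
    show (b : G) * x * (b : G)⁻¹ = x
    rw [mem_centralizer_iff.1 hfix b b.2, mul_inv_cancel_right]
  rw [SetLike.mem_coe, MonoidHom.mem_ker, hθ] at hw
  have hcop' : (orderOf (Abelianization.of (⟨x, hxR⟩ : R))).Coprime (Nat.card B) :=
    hcop.symm.coprime_dvd_left ((orderOf_map_dvd _ _).trans (orderOf_dvd_natCard _))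
  have h1 : Abelianization.of (⟨x, hxR⟩ : R) = 1 :=
    orderOf_eq_one_iff.1 (Nat.eq_one_of_dvd_coprimes hcop' dvd_rfl (orderOf_dvd_of_pow_eq_one hw))
  have h2 : (⟨x, hxR⟩ : R) ∈ commutator R := by
    rw [← Abelianization.ker_of]; exact MonoidHom.mem_ker.2 h1
  rw [← map_subtype_commutator]
  exact ⟨_, h2, rfl⟩

end

set_option maxHeartbeats 1000000 in
/-- The descent along the derived series. -/
theorem fixed_le {B V K : Subgroup G} (hBc : Nat.card B = 4) (hB2 : ∀ b ∈ B, b * b = 1)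
    (hBV : B ≤ normalizer (V : Set G)) (hodd : Odd (Nat.card V)) (hsolv : Group.IsSolvable ↥V)
    (hVB : ⁅V, B⁆ = V)
    (hK : ∀ c ∈ B, c ≠ 1 → ⁅V ⊓ centralizer {c}, B⁆ ⊓ centralizer (B : Set G) ≤ K) :
    V ⊓ centralizer (B : Set G) ≤ K := by
  classical
  haveI : IsMulCommutative B := ⟨⟨fun a b => Subtype.ext (by
    show (a : G) * b = b * a
    have h := inv_eq_self_of_sq (hB2 _ (mul_mem a.2 b.2))
    rw [mul_inv_rev, inv_eq_self_of_sq (hB2 _ a.2), inv_eq_self_of_sq (hB2 _ b.2)] at h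
    exact h.symm)⟩⟩
  have hcomm : ∀ a ∈ B, ∀ b ∈ B, a * b = b * a := fun a ha b hb =>
    congrArg Subtype.val (mul_comm' (⟨a, ha⟩ : B) ⟨b, hb⟩)
  have hncyc : ¬ IsCyclic B := by
    intro h
    obtain ⟨g, hg⟩ := h.exists_generator
    have h1 : orderOf g = 4 := by rw [orderOf_eq_card_of_forall_mem_zpowers hg, hBc]
    have h2 : orderOf g ∣ 2 := orderOf_dvd_of_pow_eq_one (Subtype.ext (by simp [pow_two, hB2 _ g.2]))
    rw [h1] at h2
    norm_num at h2
  have hBsolv : Group.IsSolvable B := Group.isSolvable_of_comm fun a b => mul_comm' a b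
  have hcopV : ∀ X : Subgroup G, X ≤ V → (Nat.card B).Coprime (Nat.card X) := fun X hX => by
    rw [hBc, show 4 = 2 ^ 2 by norm_num]
    exact Nat.Coprime.pow_left 2
      ((Nat.coprime_two_left.2 hodd).coprime_dvd_right (card_dvd_of_le hX))
  have hoddel : ∀ x ∈ V, Odd (orderOf x) := fun x hx => by
    have h := orderOf_dvd_natCard (⟨x, hx⟩ : V)
    rw [Subgroup.orderOf_mk] at h
    exact hodd.of_dvd_nat h
  have hBN : ∀ c ∈ B, B ≤ normalizer ((centralizer {c} : Subgroup G) : Set G) := fun c hc b hb =>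
    le_normalizer (mem_centralizer_singleton_iff.2 (hcomm b hb c hc))
  have hBVc : ∀ c ∈ B, B ≤ normalizer ((V ⊓ centralizer {c} : Subgroup G) : Set G) := fun c hc =>
    (le_inf hBV (hBN c hc)).trans inf_normalizer_le_normalizer_inf
  set P := V ⊓ centralizer (B : Set G) with hP
  let W : G → Subgroup G := fun c => ⁅V ⊓ centralizer {c}, B⁆
  have hWV : ∀ c ∈ B, W c ≤ V ⊓ centralizer {c} := fun c hc =>
    CfsgLib.Coprime.commutator_le_of_le_normalizer (hBVc c hc)
  have hBW : ∀ c ∈ B, B ≤ normalizer (W c : Set G) := fun c hc =>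
    (le_inf (hBVc c hc) le_normalizer).trans (normalizer_le_normalizer_commutator _ _)
  have hPW : ∀ c ∈ B, P ≤ normalizer (W c : Set G) := by
    intro c hc
    refine (le_inf ?_ ?_).trans (normalizer_le_normalizer_commutator _ _)
    · rintro g ⟨hgV, hgB⟩
      exact le_normalizer (mem_inf.2 ⟨hgV, mem_centralizer_singleton_iff.2
        (mem_centralizer_iff.1 hgB c hc).symm⟩)
    · exact inf_le_right.trans (centralizer_le_normalizer _)
  -- `V` is generated by the `W c`
  set Wall := ⨆ c : {c : G // c ∈ B ∧ c ≠ 1}, W c with hWall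
  have hVW : V ≤ Wall := by
    have hWle : ∀ c ∈ B, c ≠ 1 → W c ≤ Wall := fun c hc hc1 =>
      le_iSup (fun c : {c : G // c ∈ B ∧ c ≠ 1} => W c) ⟨c, hc, hc1⟩
    have hBWall : B ≤ normalizer (Wall : Set G) := fun b hb => by
      refine mem_normalizer_iff_map_conj_eq.2 ?_
      rw [hWall, Subgroup.map_iSup]
      exact iSup_congr fun c => mem_normalizer_iff_map_conj_eq.1 (hBW c c.2.1 hb)
    have hPWall : P ≤ normalizer (Wall : Set G) := fun b hb => by
      refine mem_normalizer_iff_map_conj_eq.2 ?_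
      rw [hWall, Subgroup.map_iSup]
      exact iSup_congr fun c => mem_normalizer_iff_map_conj_eq.1 (hPW c c.2.1 hb)
    have hVP : V ≤ Wall ⊔ P := by
      refine CfsgLib.Coprime.le_of_centralizer_le_of_not_isCyclic hncyc hBV (hcopV V le_rfl)
        fun c hc hc1 => ?_
      rw [← CfsgLib.Coprime.commutator_sup_centralizer (hBVc c hc) (hcopV _ inf_le_left) (Or.inl hBsolv)]
      exact sup_le_sup (hWle c hc hc1) (inf_le_inf_right _ inf_le_left)
    refine hVB.symm.le.trans (commutator_le.2 fun v hv b hb => ?_)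
    have hv' := hVP hv
    rw [← SetLike.mem_coe, coe_mul_of_right_le_normalizer_left Wall P hPWall] at hv'
    obtain ⟨w, hw, p, hp, rfl⟩ := Set.mem_mul.1 hv'
    have hpb : p * b * p⁻¹ = b := by
      rw [← mem_centralizer_iff.1 hp.2 b hb, mul_inv_cancel_right]
    have e : ⁅w * p, b⁆ = w * (b * w⁻¹ * b⁻¹) := by
      calc ⁅w * p, b⁆ = w * (p * b * p⁻¹) * w⁻¹ * b⁻¹ := by group
        _ = _ := by rw [hpb]; group
    rw [e]
    exact mul_mem hw (conj_mem (hBWall hb) (inv_mem hw))
  set T := P ⊓ K with hT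
  -- descent
  suffices key : ∀ n, P ≤ T ⊔ ser V n by
    obtain ⟨n, hn⟩ := exists_ser_eq_bot V hsolv
    exact (key n).trans (by rw [hn, sup_bot_eq]; exact inf_le_right)
  intro n
  induction n with
  | zero => exact inf_le_left.trans le_sup_right
  | succ n ih =>
  set R := ser V n with hR
  set R' := ser V (n + 1) with hR'
  have hR'R : R' ≤ R := commutator_le_self _
  have hR'def : R' = ⁅R, R⁆ := rfl
  have hRV : R ≤ V := ser_le V n
  have hVR : V ≤ normalizer (R : Set G) := le_normalizer_ser le_normalizer n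
  have hVR' : V ≤ normalizer (R' : Set G) := le_normalizer_ser le_normalizer (n + 1)
  have hBR : B ≤ normalizer (R : Set G) := le_normalizer_ser hBV n
  set M := ⁅R, B⁆ ⊔ R' with hM
  set N := (R ⊓ T) ⊔ M with hN
  have hMR : M ≤ R := sup_le (CfsgLib.Coprime.commutator_le_of_le_normalizer hBR) hR'R
  have hMN : M ≤ N := le_sup_right
  have hNR : N ≤ R := sup_le inf_le_left hMR
  have hRN : R ≤ normalizer (N : Set G) := le_normalizer_of_gen fun g hg x hx => by
    rw [show g * x * g⁻¹ = ⁅g, x⁆ * x by group]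
    exact mul_mem (hMN (mem_sup_right (commutator_mem_commutator hg (hNR hx)))) hx
  have hRM : R ≤ normalizer (M : Set G) := le_normalizer_of_gen fun g hg x hx => by
    rw [show g * x * g⁻¹ = ⁅g, x⁆ * x by group]
    exact mul_mem (mem_sup_right (commutator_mem_commutator hg (hMR hx))) hx
  -- the pieces of `R` inside the `W c`
  have hWRN : ∀ c ∈ B, c ≠ 1 → W c ⊓ R ≤ N := by
    intro c hc hc1
    have hn : B ≤ normalizer ((W c ⊓ R : Subgroup G) : Set G) :=
      (le_inf (hBW c hc) hBR).trans inf_normalizer_le_normalizer_inf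
    rw [← CfsgLib.Coprime.commutator_sup_centralizer hn (hcopV _ (inf_le_right.trans hRV)) (Or.inl hBsolv)]
    refine sup_le ?_ ?_
    · exact (commutator_mono inf_le_right le_rfl).trans ((le_sup_left).trans hMN)
    · rintro x ⟨⟨hxW, hxR⟩, hxB⟩
      exact mem_sup_left ⟨hxR, ⟨hRV hxR, hxB⟩, hK c hc hc1 ⟨hxW, hxB⟩⟩
  have hWN : ∀ c ∈ B, c ≠ 1 → W c ≤ normalizer (N : Set G) := by
    intro c hc hc1
    refine le_normalizer_of_gen fun w hw => ?_
    obtain ⟨hwV, hwc⟩ := hWV c hc hw
    have hwc' := mem_centralizer_singleton_iff.1 hwc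
    set Nw := N.comap (MulAut.conj w).toMonoidHom with hNw
    suffices h : N ≤ Nw from fun x hx => h hx
    -- commutators of fixed points
    have hWc : ∀ x ∈ R, x ∈ V ⊓ centralizer {c} → ⁅w, x⁆ ∈ N := by
      intro x hxR hx
      refine hWRN c hc hc1 (mem_inf.2 ⟨?_, ?_⟩)
      · rw [show ⁅w, x⁆ = w * (x * w⁻¹ * x⁻¹) by group]
        refine mul_mem hw (conj_mem ?_ (inv_mem hw))
        exact le_normalizer_of_gen (X := V ⊓ centralizer {c}) (N := W c) (fun g hg y hy => by
          rw [show g * y * g⁻¹ = ⁅g, y⁆ * y by group]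
          refine mul_mem ?_ hy
          have : ⁅V ⊓ centralizer {c}, W c⁆ ≤ W c :=
            commutator_le.2 fun a ha z hz => by
              have hn := normalizer_commutator_ge_left (V ⊓ centralizer {c}) B ha
              rw [show ⁅a, z⁆ = (a * z * a⁻¹) * z⁻¹ by group]
              exact mul_mem (conj_mem hn hz) (inv_mem hz)
          exact this (commutator_mem_commutator hg hy)) hx
      · rw [show ⁅w, x⁆ = (w * x * w⁻¹) * x⁻¹ by group]
        exact mul_mem (conj_mem (hVR hwV) hxR) (inv_mem hxR)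
    refine sup_le ?_ (sup_le (commutator_le.2 fun r hr b hb => ?_) ?_)
    · rintro t ⟨htR, ⟨htV, htB⟩, htK⟩
      show w * t * w⁻¹ ∈ N
      rw [show w * t * w⁻¹ = ⁅w, t⁆ * t by group]
      exact mul_mem (hWc t htR ⟨htV, mem_centralizer_singleton_iff.2
        (mem_centralizer_iff.1 htB c hc).symm⟩) (mem_sup_left ⟨htR, ⟨htV, htB⟩, htK⟩)
    · show w * ⁅r, b⁆ * w⁻¹ ∈ N
      -- `r = r₁ r₂` with `r₂` fixed by `c`
      have hcR : zpowers c ≤ normalizer (R : Set G) := zpowers_le.2 (hBR hc)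
      obtain ⟨r₂, hr₂, hr₁⟩ := CfsgLib.Coprime.exists_commutator_mul_centralizer hcR
        ((hcopV R hRV).coprime_dvd_left (card_dvd_of_le (zpowers_le.2 hc)))
        (Or.inl (Group.isSolvable_of_comm fun a b => mul_comm' a b)) hr
      have hr₂c : r₂ ∈ V ⊓ centralizer {c} := ⟨hRV hr₂.1, mem_centralizer_singleton_iff.2
        (mem_centralizer_iff.1 hr₂.2 c (mem_zpowers c)).symm⟩
      set r₁ := r * r₂⁻¹ with hr₁def
      have hcomm1 : ⁅R, zpowers c⁆ ≤ Nw := by
        refine commutator_le.2 fun s hs d hd => ?_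
        show w * ⁅s, d⁆ * w⁻¹ ∈ N
        have hwd : w * d = d * w := by
          obtain ⟨i, rfl⟩ := mem_zpowers_iff.1 hd
          exact (Commute.zpow_right hwc' i).eq
        have e : w * ⁅s, d⁆ * w⁻¹ = ⁅w * s * w⁻¹, d⁆ := by
          have hd' : d = w * d * w⁻¹ := by rw [hwd, mul_inv_cancel_right]
          conv_rhs => rw [hd']
          group
        rw [e]
        exact hMN (mem_sup_left (commutator_mem_commutator (conj_mem (hVR hwV) hs)
          ((zpowers_le.2 hc) hd)))
      have hr₁R : r₁ ∈ R := mul_mem hr (inv_mem hr₂.1)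
      have e : ⁅r, b⁆ = r₁ * ⁅r₂, b⁆ * (b * r₁⁻¹ * b⁻¹) := by rw [hr₁def]; group
      have hr₁' : w * r₁ * w⁻¹ ∈ N := hcomm1 hr₁
      have hbr₁ : w * (b * r₁⁻¹ * b⁻¹) * w⁻¹ ∈ N := by
        refine hcomm1 ?_
        refine conj_mem ?_ (inv_mem hr₁)
        exact (le_inf (zpowers_le.2 (hBR hb)) (zpowers_le.2 (mem_normalizer_iff_map_conj_eq.2 (by
          rw [MonoidHom.map_zpowers]
          congr 1
          show b * c * b⁻¹ = c
          rw [hcomm b hb c hc, mul_inv_cancel_right])))).trans (normalizer_le_normalizer_commutator _ _)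
          (mem_zpowers b)
      have hmid : w * ⁅r₂, b⁆ * w⁻¹ ∈ N := by
        refine hWRN c hc hc1 (mem_inf.2 ⟨?_, conj_mem (hVR hwV)
          (CfsgLib.Coprime.commutator_le_of_le_normalizer hBR (commutator_mem_commutator hr₂.1 hb))⟩)
        exact mul_mem (mul_mem hw (commutator_mem_commutator hr₂c hb)) (inv_mem hw)
      rw [e, show w * (r₁ * ⁅r₂, b⁆ * (b * r₁⁻¹ * b⁻¹)) * w⁻¹ = (w * r₁ * w⁻¹) * (w * ⁅r₂, b⁆ * w⁻¹) *
        (w * (b * r₁⁻¹ * b⁻¹) * w⁻¹) by group]
      exact mul_mem (mul_mem hr₁' hmid) hbr₁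
    · intro x hx
      exact hMN (mem_sup_right (conj_mem (hVR' hwV) hx))
  have hVN : V ≤ normalizer (N : Set G) := hVW.trans (iSup_le fun c => hWN c c.2.1 c.2.2)
  -- `R / N` is central
  have hBRN : ∀ b ∈ B, ∀ r ∈ R, b * r * b⁻¹ * r⁻¹ ∈ N := fun b hb r hr => by
    rw [show b * r * b⁻¹ * r⁻¹ = ⁅r, b⁆⁻¹ by group]
    exact inv_mem (hMN (mem_sup_left (commutator_mem_commutator hr hb)))
  have hcentral : ∀ v ∈ V, ∀ r ∈ R, v * r * v⁻¹ * r⁻¹ ∈ N := by
    intro v hv
    rw [← hVB] at hv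
    induction hv using closure_induction with
    | mem y hy =>
      obtain ⟨u, hu, b, hb, rfl⟩ := hy
      intro r hr
      -- `u` and `b` act on `R / N`, the latter trivially
      have hu' : u⁻¹ ∈ normalizer (R : Set G) := hVR (inv_mem hu)
      set r₁ := b⁻¹ * r * b with hr₁
      have hr₁R : r₁ ∈ R := by
        have := conj_mem (inv_mem (hBR hb)) hr
        simpa [hr₁] using this
      have h1 : r₁ * r⁻¹ ∈ N := by
        have := hBRN b⁻¹ (inv_mem hb) r hr
        simpa [hr₁] using this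
      have hr₂R : u⁻¹ * r₁ * u ∈ R := by simpa using conj_mem hu' hr₁R
      have h2 := hBRN b hb _ hr₂R
      have h3 : u * (b * (u⁻¹ * r₁ * u) * b⁻¹ * (u⁻¹ * r₁ * u)⁻¹) * u⁻¹ ∈ N := conj_mem (hVN hu) h2
      have e : ⁅u, b⁆ * r * ⁅u, b⁆⁻¹ * r⁻¹ =
          (u * (b * (u⁻¹ * r₁ * u) * b⁻¹ * (u⁻¹ * r₁ * u)⁻¹) * u⁻¹) * (r₁ * r⁻¹) := by
        rw [hr₁]; group
      rw [e]
      exact mul_mem h3 h1
    | one => intro r _; simp
    | mul a b ha hb iha ihb =>
      intro r hr
      have hbV : b ∈ V := hVB.le hb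
      have h := ihb r hr
      have := iha _ (conj_mem (hVR hbV) hr)
      rw [show a * b * r * (a * b)⁻¹ * r⁻¹ =
        (a * (b * r * b⁻¹) * a⁻¹ * (b * r * b⁻¹)⁻¹) * (b * r * b⁻¹ * r⁻¹) by group]
      exact mul_mem this h
    | inv a ha iha =>
      intro r hr
      have haV : a ∈ V := hVB.le ha
      have hr' : a⁻¹ * r * a ∈ R := by simpa using conj_mem (hVR (inv_mem haV)) hr
      rw [show a⁻¹ * r * a⁻¹⁻¹ * r⁻¹ = (a * (a⁻¹ * r * a) * a⁻¹ * (a⁻¹ * r * a)⁻¹)⁻¹ by group]
      exact inv_mem (iha _ hr')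
  have hRleN : R ≤ N := by
    rcases Nat.eq_zero_or_pos n with hn0 | hn0
    · have : R = V := by rw [hR, hn0]; rfl
      exact (le_of_eq (this.trans hVB.symm)).trans ((commutator_mono this.ge le_rfl).trans
        (le_sup_left.trans hMN))
    obtain ⟨m, hm⟩ : ∃ m, n = m + 1 := ⟨n - 1, by omega⟩
    set Q := ser V m with hQ
    have hRQ : R = ⁅Q, Q⁆ := by rw [hR, hm]; rfl
    have hQV : Q ≤ V := ser_le V m
    have hBQ : B ≤ normalizer (Q : Set G) := le_normalizer_ser hBV m
    -- generators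
    let S : Set G := {y | y ∈ Q ∧ (y ∈ centralizer (B : Set G) ∨ ∃ c ∈ B, c ≠ 1 ∧ y ∈ W c ∧
      ∀ d ∈ B, d ≠ 1 → d ≠ c → d * y * d⁻¹ = y⁻¹)}
    have hQS : Q ≤ closure S := by
      refine CfsgLib.Coprime.le_of_centralizer_le_of_not_isCyclic hncyc hBQ (hcopV Q hQV)
        fun c hc hc1 => ?_
      have hn : B ≤ normalizer ((Q ⊓ centralizer {c} : Subgroup G) : Set G) :=
        (le_inf hBQ (hBN c hc)).trans inf_normalizer_le_normalizer_inf
      rw [← CfsgLib.Coprime.commutator_sup_centralizer hn (hcopV _ (inf_le_left.trans hQV))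
        (Or.inl hBsolv)]
      refine sup_le (commutator_le.2 fun q hq b hb => subset_closure ⟨?_, Or.inr ⟨c, hc, hc1, ?_, ?_⟩⟩)
        fun x hx => subset_closure ⟨hx.1.1, Or.inl hx.2⟩
      · exact (CfsgLib.Coprime.commutator_le_of_le_normalizer hn (commutator_mem_commutator hq hb)).1
      · exact commutator_mem_commutator ⟨hQV hq.1, hq.2⟩ hb
      · intro d hd hd1 hdc
        have hqc : c * q = q * c := (mem_centralizer_singleton_iff.1 hq.2).symm
        have hbb := inv_eq_self_of_sq (hB2 b hb)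
        have hdd := inv_eq_self_of_sq (hB2 d hd)
        -- the four elements
        have hfour : ∀ z ∈ B, z = 1 ∨ z = c ∨ z = d ∨ z = c * d := by
          intro z hz
          by_contra hcon
          push Not at hcon
          have hcd1 : c * d ≠ 1 := fun h => hdc (by
            rw [← inv_eq_self_of_sq (hB2 c hc)]; exact (inv_eq_of_mul_eq_one_right h).symm)
          have hcdc : c * d ≠ c := fun h => hd1 (mul_eq_left.1 h)
          have hcdd : c * d ≠ d := fun h => hc1 (mul_eq_right.1 h)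
          have : Nat.card ({1, c, d, c * d, z} : Set G) ≤ Nat.card B :=
            Nat.card_mono (Set.toFinite _) (by
              rintro x (rfl | rfl | rfl | rfl | rfl)
              exacts [one_mem _, hc, hd, mul_mem hc hd, hz])
          rw [hBc, Nat.card_coe_set_eq] at this
          have h5 : ({1, c, d, c * d, z} : Set G).ncard = 5 := by
            rw [Set.ncard_insert_of_notMem, Set.ncard_insert_of_notMem, Set.ncard_insert_of_notMem,
              Set.ncard_insert_of_notMem, Set.ncard_singleton]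
            · simp [Ne.symm hcon.2.2.2]
            · simp [Ne.symm hcdd, Ne.symm hcon.2.2.1]
            · simp [Ne.symm hdc, Ne.symm hcdc, Ne.symm hcon.2.1]
            · simp [Ne.symm hc1, Ne.symm hd1, Ne.symm hcd1, Ne.symm hcon.1]
          omega
        rcases hfour b hb with rfl | rfl | rfl | rfl
        · simp
        · rw [show ⁅q, b⁆ = 1 from commutatorElement_eq_one_iff_mul_comm.2 hqc.symm]; simp
        · rw [commutatorElement_def, hdd]
          calc b * (q * b * q⁻¹ * b) * b = b * q * b * q⁻¹ * (b * b) := by group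
            _ = _ := by rw [hB2 b hb]; simp [mul_assoc, hdd]
        · have hcd : c * d = d * c := hcomm c hc d hd
          have hcq' : c * (q * d * q⁻¹) = q * (c * d) * q⁻¹ := by
            calc c * (q * d * q⁻¹) = (c * q) * d * q⁻¹ := by group
              _ = _ := by rw [hqc]; group
          have e : ⁅q, c * d⁆ = ⁅q, d⁆ := by
            rw [commutatorElement_def, commutatorElement_def, mul_inv_rev, hdd,
              inv_eq_self_of_sq (hB2 c hc), ← hcq']
            have hcq2 : c * (q * d * q⁻¹) = (q * d * q⁻¹) * c := by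
              rw [hcq', hcd]
              calc q * (d * c) * q⁻¹ = q * d * (c * q⁻¹) := by group
                _ = q * d * (q⁻¹ * c) := by
                    rw [show c * q⁻¹ = q⁻¹ * c from (Commute.inv_right hqc).eq]
                _ = _ := by group
            rw [hcq2]
            calc q * d * q⁻¹ * c * (d * c) = q * d * q⁻¹ * (c * c) * d := by rw [← hcd]; group
              _ = _ := by rw [hB2 c hc, mul_one]
          rw [e, commutatorElement_def, hdd]
          calc d * (q * d * q⁻¹ * d) * d = d * q * d * q⁻¹ * (d * d) := by group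
            _ = _ := by rw [hB2 d hd]; simp [mul_assoc, hdd]
    -- one pair of generators
    have hinv : ∀ x ∈ Q, ∀ y ∈ Q, ∀ b ∈ B, b * x * b⁻¹ = x → b * y * b⁻¹ = y⁻¹ → ⁅x, y⁆ ∈ N := by
      intro x hxQ y hyQ b hb hx hy
      have hrR : ⁅x, y⁆ ∈ R := hRQ ▸ commutator_mem_commutator hxQ hyQ
      have h1 := hBRN b hb _ hrR
      have h2 := hcentral y⁻¹ (inv_mem (hQV hyQ)) _ (inv_mem hrR)
      have e1 : b * ⁅x, y⁆ * b⁻¹ = y⁻¹ * ⁅x, y⁆⁻¹ * y⁻¹⁻¹ := by
        calc b * ⁅x, y⁆ * b⁻¹ = ⁅b * x * b⁻¹, b * y * b⁻¹⁆ := by group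
          _ = _ := by rw [hx, hy]; group
      rw [e1] at h1
      have h3 := mul_mem (inv_mem h1) h2
      have e2 : (y⁻¹ * ⁅x, y⁆⁻¹ * y⁻¹⁻¹ * ⁅x, y⁆⁻¹)⁻¹ *
          (y⁻¹ * ⁅x, y⁆⁻¹ * y⁻¹⁻¹ * ⁅x, y⁆⁻¹⁻¹) = ⁅x, y⁆ * ((y⁻¹ * ⁅x, y⁆⁻¹ * y⁻¹⁻¹)⁻¹ *
            (y⁻¹ * ⁅x, y⁆⁻¹ * y⁻¹⁻¹)) * ⁅x, y⁆ := by group
      rw [e2, inv_mul_cancel, mul_one] at h3
      exact mem_of_sq_mem _ (hoddel _ (hRV hrR)) h3
    have hpairs : ∀ x ∈ S, ∀ y ∈ S, ⁅x, y⁆ ∈ N := by
      have hswap : ∀ x y : G, ⁅y, x⁆ ∈ N → ⁅x, y⁆ ∈ N := fun x y h => by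
        rw [← commutatorElement_inv]; exact inv_mem h
      have hfixed : ∀ x ∈ Q, x ∈ centralizer (B : Set G) → ∀ b ∈ B, b * x * b⁻¹ = x :=
        fun x _ hx b hb => by rw [mem_centralizer_iff.1 hx b hb, mul_inv_cancel_right]
      rintro x ⟨hxQ, hx⟩ y ⟨hyQ, hy⟩
      have hother : ∀ c ∈ B, ∃ d ∈ B, d ≠ 1 ∧ d ≠ c := by
        intro c _
        by_contra hcon
        push Not at hcon
        have : Nat.card B ≤ Nat.card ({1, c} : Set G) := Nat.card_mono (Set.toFinite _) fun z hz => by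
          by_cases hz1 : z = 1
          · exact Or.inl hz1
          · exact Or.inr (hcon z hz hz1)
        rw [hBc, Nat.card_coe_set_eq] at this
        have := this.trans (Set.ncard_insert_le _ _)
        rw [Set.ncard_singleton] at this
        omega
      rcases hx with hx | ⟨c, hc, hc1, hxW, hxi⟩ <;> rcases hy with hy | ⟨d, hd, hd1, hyW, hyi⟩
      · -- two fixed points: reduce to `T`
        have hdec : ∀ z ∈ Q, z ∈ centralizer (B : Set G) → ∃ t ∈ T, ∃ r ∈ R, z = t * r := by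
          intro z hzQ hzB
          have hz := ih (show z ∈ P from ⟨hQV hzQ, hzB⟩)
          rw [← SetLike.mem_coe, coe_mul_of_left_le_normalizer_right T R
            ((inf_le_left.trans inf_le_left).trans hVR)] at hz
          obtain ⟨t, ht, r, hr, rfl⟩ := Set.mem_mul.1 hz
          exact ⟨t, ht, r, hr, rfl⟩
        obtain ⟨t, ht, r, hr, rfl⟩ := hdec x hxQ hx
        obtain ⟨t', ht', r', hr', rfl⟩ := hdec y hyQ hy
        have hRQ' : R ≤ Q := hRQ.le.trans (commutator_le_self _)
        have htQ : t ∈ Q := by simpa using mul_mem hxQ (inv_mem (hRQ' hr))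
        have ht'Q : t' ∈ Q := by simpa using mul_mem hyQ (inv_mem (hRQ' hr'))
        have htt : ⁅t, t'⁆ ∈ N := mem_sup_left (mem_inf.2 ⟨hRQ ▸ commutator_mem_commutator htQ ht'Q,
          mul_mem (mul_mem (mul_mem ht ht') (inv_mem ht)) (inv_mem ht')⟩)
        have hb : t' * r' ∈ V := hQV hyQ
        have e : ⁅t * r, t' * r'⁆ = (t * (r * (t' * r') * r⁻¹ * (t' * r')⁻¹) * t⁻¹) *
            ((⁅t, t'⁆) * (t' * (t * r' * t⁻¹ * r'⁻¹) * t'⁻¹)) := by group
        rw [e]
        have htV : t ∈ V := ht.1.1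
        have ht'V : t' ∈ V := ht'.1.1
        refine mul_mem (conj_mem (hVN htV) ?_) (mul_mem htt (conj_mem (hVN ht'V) (hcentral t htV r' hr')))
        have := inv_mem (hcentral (t' * r') hb r hr)
        simpa [mul_assoc] using this
      · obtain ⟨b, hb, hb1, hbd⟩ := hother d hd
        exact hinv x hxQ y hyQ b hb (hfixed x hxQ hx b hb) (hyi b hb hb1 hbd)
      · obtain ⟨b, hb, hb1, hbc⟩ := hother c hc
        exact hswap _ _ (hinv y hyQ x hxQ b hb (hfixed y hyQ hy b hb) (hxi b hb hb1 hbc))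
      · rcases eq_or_ne c d with rfl | hcd
        · exact hWRN c hc hc1 (mem_inf.2 ⟨mul_mem (mul_mem (mul_mem hxW hyW) (inv_mem hxW)) (inv_mem hyW),
            hRQ ▸ commutator_mem_commutator hxQ hyQ⟩)
        · refine hinv x hxQ y hyQ c hc ?_ (hyi c hc hc1 hcd)
          rw [← mem_centralizer_singleton_iff.1 (hWV c hc hxW).2, mul_inv_cancel_right]
    have hQN : Q ≤ normalizer (N : Set G) := hQV.trans hVN
    have hSV : ∀ x ∈ closure S, x ∈ V := fun x hx =>
      (closure_le _).2 (fun z hz => hQV hz.1) hx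
    rw [hRQ]
    refine commutator_le.2 fun x hx y hy => ?_
    have h1 : ∀ s ∈ S, ∀ z ∈ closure S, ⁅z, s⁆ ∈ N := by
      intro s hs z hz
      induction hz using closure_induction with
      | mem z hz => exact hpairs z hz s hs
      | one => simp
      | mul a b ha hb iha ihb =>
        rw [show ⁅a * b, s⁆ = a * ⁅b, s⁆ * a⁻¹ * ⁅a, s⁆ by group]
        exact mul_mem (conj_mem (hVN (hSV a ha)) ihb) iha
      | inv a ha iha =>
        rw [show ⁅a⁻¹, s⁆ = a⁻¹ * ⁅a, s⁆⁻¹ * a⁻¹⁻¹ by group]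
        exact conj_mem (hVN (inv_mem (hSV a ha))) (inv_mem iha)
    have hy' := hQS hy
    clear hy
    induction hy' using closure_induction with
    | mem z hz => exact h1 z hz x (hQS hx)
    | one => simp
    | mul a b ha hb iha ihb =>
      rw [show ⁅x, a * b⁆ = ⁅x, a⁆ * (a * ⁅x, b⁆ * a⁻¹) by group]
      exact mul_mem iha (conj_mem (hVN (hSV a ha)) ihb)
    | inv a ha iha =>
      rw [show ⁅x, a⁻¹⁆ = a⁻¹ * ⁅x, a⁆⁻¹ * a⁻¹⁻¹ by group]
      exact conj_mem (hVN (inv_mem (hSV a ha))) (inv_mem iha)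
  -- conclusion of the step
  intro p hp
  have hp' := ih hp
  rw [← SetLike.mem_coe, coe_mul_of_left_le_normalizer_right T R
    ((inf_le_left.trans inf_le_left).trans hVR)] at hp'
  obtain ⟨t, ht, r, hr, rfl⟩ := Set.mem_mul.1 hp'
  have hrP : r ∈ P := by simpa using mul_mem (inv_mem (mem_inf.1 ht).1) hp
  have hr' := hRleN hr
  rw [← SetLike.mem_coe, coe_mul_of_left_le_normalizer_right (R ⊓ T) M
    (inf_le_left.trans hRM)] at hr'
  obtain ⟨s, hs, x, hx, rfl⟩ := Set.mem_mul.1 hr'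
  have hxP : x ∈ P := by simpa using mul_mem (inv_mem (mem_inf.1 (mem_inf.1 hs).2).1) hrP
  have hx' : x ∈ R' := hR'def ▸ mem_derived_of_fixed hBR (hcopV R hRV) (hMR hx) hx hxP.2
  rw [← mul_assoc]
  exact mul_mem_sup (mul_mem ht hs.2) hx'

end CfsgLib.FourGroupFixed
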