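import Cfsg.Agent.Lib.Components.LocalBalance
import Cfsg.Agent.Lib.Components.FourGroupFixedPoints
import Cfsg.Agent.Lib.FTCons.LBalance

/-!
# Core separated pairs of four-groups
-/

set_option autoImplicit false
set_option linter.style.haveILetI false
set_option linter.unusedSectionVars false

namespace CfsgLib.CoreSep

open Cfsg Subgroup CfsgLib.Base CfsgLib.Components
open CfsgLib.FourGroupFixed (conj_mem normalizer_le_normalizer_commutator)
open scoped commutatorElement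

universe u

variable {G : Type u} [Group G] [Finite G]

/-- The image of `O(C(a))` in the quotient of a subgroup by its core. -/
theorem image_core_le {C : Subgroup G} {a : G} (ha : a * a = 1) (haC : a ∈ C) :
    ((centralizerPPrimeCore 2 a).subgroupOf C).map (QuotientGroup.mk' (pPrimeCore 2 ↥C)) ≤
      centralizerPPrimeCore 2 (QuotientGroup.mk' (pPrimeCore 2 ↥C) ⟨a, haC⟩) := by
  set φ := QuotientGroup.mk' (pPrimeCore 2 ↥C) with hφ
  set Y := (centralizerPPrimeCore 2 a).subgroupOf C with hY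
  refine le_map_pPrimeCore ?_ ?_ ?_
  · rintro _ ⟨y, hy, rfl⟩
    rw [mem_centralizer_singleton_iff, ← map_mul, ← map_mul]
    exact congrArg φ (Subtype.ext (mem_centralizer_singleton_iff.1 (map_subtype_le _ hy)))
  · intro q hq
    obtain ⟨g, rfl⟩ := QuotientGroup.mk'_surjective _ q
    obtain ⟨c, hc, hcg⟩ := exists_centralizer_lift (p := 2) (pPrimeCore_coprime 2 ↥C)
      (b := (⟨a, haC⟩ : C)) (Subtype.ext (by simp [pow_two, ha])) (mem_centralizer_singleton_iff.1 hq)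
    rw [← hcg]
    refine le_normalizer_map φ ⟨c, le_normalizer_comap C.subtype ?_, rfl⟩
    exact le_normalizer_map_pPrimeCore _ (mem_centralizer_singleton_iff.2 (congrArg Subtype.val hc))
  · refine (coprime_card_map_pPrimeCore (centralizer ({a} : Set G))).coprime_dvd_left
      ((CfsgLib.Base.card_map_dvd _ _).trans ?_)
    rw [hY, ← inf_subgroupOf_right, card_subgroupOf inf_le_right]
    exact card_dvd_of_le inf_le_left

theorem orderOf_image {C : Subgroup G} {a : G} (ha : a * a = 1) (ha1 : a ≠ 1) (haC : a ∈ C) :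
    orderOf (QuotientGroup.mk' (pPrimeCore 2 ↥C) ⟨a, haC⟩) = 2 := by
  refine orderOf_eq_prime ?_ ?_
  · rw [← map_pow, show (⟨a, haC⟩ : C) ^ 2 = 1 from Subtype.ext (by simp [pow_two, ha]), map_one]
  · intro h
    have hm : (⟨a, haC⟩ : C) ∈ pPrimeCore 2 ↥C := (QuotientGroup.eq_one_iff _).1 h
    refine ha1 (congrArg Subtype.val (orderOf_eq_one_iff.1 (Nat.eq_one_of_dvd_coprimes
      (pPrimeCore_coprime 2 ↥C) ?_ (orderOf_dvd_of_pow_eq_one (n := 2)
        (Subtype.ext (by simp [pow_two, ha]) : (⟨a, haC⟩ : C) ^ 2 = 1)))))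
    exact (Subgroup.orderOf_mk _ hm).symm ▸ orderOf_dvd_natCard (⟨_, hm⟩ : pPrimeCore 2 ↥C)

section Action

variable {X : Type u} [Group X] [Finite X]

/-- `O(C(x))` centralises `O_2` and normalises each component. -/
theorem core_act (hO : pPrimeCore 2 X = ⊥) {x y : X} (hx : orderOf x = 2)
    (hy : y ∈ centralizerPPrimeCore 2 x) :
    y ∈ centralizer (pCore 2 X : Set X) ∧
      (∀ L : Subgroup X, IsComponent L → y ∈ normalizer (L : Set X)) ∧
      (∀ L : Subgroup X, IsComponent L → ⁅L, zpowers x⁆ ≠ L → y ∈ centralizer (L : Set X)) := by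
  have hP : IsPGroup 2 (zpowers x) := IsPGroup.of_card (n := 1) (by rw [Nat.card_zpowers, hx, pow_one])
  have h := centralizerPPrimeCore_le_normalizer_zpowers (p := 2) x hy
  refine ⟨map_pPrimeCore_normalizer_le_centralizer_pCore hP h,
    fun L hL => mem_normalizer_component_of_pPrimeCore hO hP hL h, fun L hL hne => ?_⟩
  exact le_centralizer_iff.mp (commutator_eq_bot_iff_le_centralizer.mp
    (component_commutator_centralizerPPrimeCore hO hx hL hne)) hy

/-- An odd subgroup centralising `O_2` and all components is trivial. -/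
theorem eq_bot_of_centralizes (hO : pPrimeCore 2 X = ⊥) {Z : Subgroup X}
    (hZ : (Nat.card Z).Coprime 2) (h2 : Z ≤ centralizer (pCore 2 X : Set X))
    (hL : ∀ L : Subgroup X, IsComponent L → Z ≤ centralizer (L : Set X)) : Z = ⊥ := by
  have hF : Z ≤ fittingSubgroup X := by
    refine le_trans ?_ centralizer_fstar_le_fitting
    rw [le_centralizer_iff]
    refine sup_le (layer_le_iff.2 fun L hLc => le_centralizer_iff.1 (hL L hLc)) ?_
    rw [fitting_eq_pCore_of_pPrimeCore_eq_bot hO]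
    exact le_centralizer_iff.1 h2
  rw [fitting_eq_pCore_of_pPrimeCore_eq_bot hO] at hF
  rw [eq_bot_iff]
  exact (le_inf hF le_rfl).trans (inf_eq_bot_of_isPGroup_of_coprime (isPGroup_pCore 2 X) hZ).le

end Action

/-- The hypotheses: an elementary abelian group `A₁ A₂` with the separation property. -/
structure Data (A₁ A₂ : Subgroup G) : Prop where
  comm : ∀ a ∈ A₁ ⊔ A₂, ∀ b ∈ A₁ ⊔ A₂, a * b = b * a
  sq : ∀ a ∈ A₁ ⊔ A₂, a * a = 1
  card₁ : Nat.card A₁ = 4
  card₂ : Nat.card A₂ = 4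
  sep : ∀ a ∈ A₁ ⊔ A₂, a ≠ 1 → ∀ E : Subgroup ↥(centralizer ({a} : Set G)), IsPComponent 2 E →
    ⁅E.map (centralizer ({a} : Set G)).subtype, A₁⁆ ≤ centralizerPPrimeCore 2 a ∨
    ⁅E.map (centralizer ({a} : Set G)).subtype, A₂⁆ ≤ centralizerPPrimeCore 2 a

theorem Data.symm {A₁ A₂ : Subgroup G} (h : Data A₁ A₂) : Data A₂ A₁ where
  comm := sup_comm A₁ A₂ ▸ h.comm
  sq := sup_comm A₁ A₂ ▸ h.sq
  card₁ := h.card₂
  card₂ := h.card₁
  sep a ha ha1 E hE := (h.sep a (sup_comm A₁ A₂ ▸ ha) ha1 E hE).symm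

/-- One half of the functor. -/
noncomputable def half (A₁ : Subgroup G) (a : G) : Subgroup G :=
  ⁅centralizerPPrimeCore 2 a, A₁⁆ ⊔
    (centralizerPPrimeCore 2 a ⊓ (pPrimeCore 2 ↥(centralizer (A₁ : Set G))).map
      (centralizer (A₁ : Set G)).subtype)

variable {A₁ A₂ : Subgroup G}

theorem le_centralizer_elem (h : Data A₁ A₂) {a : G} (ha : a ∈ A₁ ⊔ A₂) :
    A₁ ⊔ A₂ ≤ centralizer ({a} : Set G) := fun _ hb =>
  mem_centralizer_singleton_iff.2 (h.comm _ hb a ha)

theorem le_normalizer_core (h : Data A₁ A₂) {a : G} (ha : a ∈ A₁ ⊔ A₂) :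
    A₁ ⊔ A₂ ≤ normalizer (centralizerPPrimeCore 2 a : Set G) :=
  (le_centralizer_elem h ha).trans (le_normalizer_map_pPrimeCore _)

theorem coprime_four {A X : Subgroup G} (hA : Nat.card A = 4) (hX : (Nat.card X).Coprime 2) :
    (Nat.card A).Coprime (Nat.card X) := by
  rw [hA, show 4 = 2 ^ 2 by norm_num]
  exact Nat.Coprime.pow_left 2 hX.symm

theorem coprime_core (a : G) {X : Subgroup G} (hX : X ≤ centralizerPPrimeCore 2 a) :
    (Nat.card X).Coprime 2 :=
  (coprime_card_map_pPrimeCore (centralizer ({a} : Set G))).coprime_dvd_left (card_dvd_of_le hX)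

theorem isSolvable_four (h : Data A₁ A₂) : Group.IsSolvable A₁ :=
  Group.isSolvable_of_comm fun a b =>
    Subtype.ext (h.comm a (mem_sup_left a.2) b (mem_sup_left b.2))

theorem half_le (h : Data A₁ A₂) {a : G} (ha : a ∈ A₁ ⊔ A₂) : half A₁ a ≤ centralizerPPrimeCore 2 a :=
  sup_le (CfsgLib.Coprime.commutator_le_of_le_normalizer (le_sup_left.trans (le_normalizer_core h ha)))
    inf_le_left

theorem le_normalizer_half (h : Data A₁ A₂) {a : G} (ha : a ∈ A₁ ⊔ A₂) :
    A₁ ⊔ A₂ ≤ normalizer (half A₁ a : Set G) := by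
  have hA : A₁ ⊔ A₂ ≤ normalizer (A₁ : Set G) := fun g hg =>
    centralizer_le_normalizer _ (mem_centralizer_iff.2 fun x hx => h.comm x (mem_sup_left hx) g hg)
  refine CfsgLib.Coprime.le_normalizer_sup_sup
    ((le_inf (le_normalizer_core h ha) hA).trans (normalizer_le_normalizer_commutator _ _))
    ((le_inf (le_normalizer_core h ha) ?_).trans inf_normalizer_le_normalizer_inf)
  intro g hg
  refine le_normalizer_map_pPrimeCore _ (mem_centralizer_iff.2 fun x hx => ?_)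
  exact h.comm x (mem_sup_left hx) g hg

/-- A component is centralised by the image of `A₁` or of `A₂`. -/
theorem sep_component (h : Data A₁ A₂) {b : G} (hb : b ∈ A₁ ⊔ A₂) (hb1 : b ≠ 1)
    (L : Subgroup (↥(centralizer ({b} : Set G)) ⧸ pPrimeCore 2 ↥(centralizer ({b} : Set G))))
    (hL : IsComponent L) :
    (∀ g : ↥(centralizer ({b} : Set G)), (g : G) ∈ A₁ →
        QuotientGroup.mk' (pPrimeCore 2 _) g ∈ centralizer (L : Set _)) ∨
    (∀ g : ↥(centralizer ({b} : Set G)), (g : G) ∈ A₂ →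
        QuotientGroup.mk' (pPrimeCore 2 _) g ∈ centralizer (L : Set _)) := by
  let C := centralizer ({b} : Set G)
  let φ := QuotientGroup.mk' (pPrimeCore 2 ↥C)
  have key : ∀ Ai : Subgroup G, ⁅(pComponentOver L).map C.subtype, Ai⁆ ≤ centralizerPPrimeCore 2 b →
      ∀ g : ↥C, (g : G) ∈ Ai → φ g ∈ centralizer (L : Set _) := by
    intro Ai hle g hg
    rw [← map_pComponentOver hL]
    refine mem_centralizer_iff.2 ?_
    rintro _ ⟨e, he, rfl⟩
    obtain ⟨z, hz, hze⟩ := hle (commutator_mem_commutator (mem_map_of_mem C.subtype he) hg)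
    have hz' : ⁅e, g⁆ ∈ pPrimeCore 2 ↥C := by
      rwa [show ⁅e, g⁆ = z from C.subtype_injective (by rw [hze]; simp [map_commutatorElement])]
    have h1 : φ ⁅e, g⁆ = 1 := (QuotientGroup.eq_one_iff _).2 hz'
    rw [map_commutatorElement, commutatorElement_eq_one_iff_mul_comm] at h1
    exact h1
  exact (h.sep b hb hb1 _ (isPComponent_pComponentOver hL)).imp (key A₁) (key A₂)

/-- `[O(C(a)) ∩ C(c), A₁]` centralises the components centralised by `A₁`. -/
theorem comm_centralizes (h : Data A₁ A₂) {a c : G} (ha : a ∈ A₁ ⊔ A₂) (ha1 : a ≠ 1)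
    (hc : c ∈ A₁ ⊔ A₂)
    (L : Subgroup (↥(centralizer ({c} : Set G)) ⧸ pPrimeCore 2 ↥(centralizer ({c} : Set G))))
    (hL : IsComponent L)
    (htriv : ∀ g : ↥(centralizer ({c} : Set G)), (g : G) ∈ A₁ →
        QuotientGroup.mk' (pPrimeCore 2 _) g ∈ centralizer (L : Set _))
    (y : ↥(centralizer ({c} : Set G)))
    (hy : (y : G) ∈ ⁅centralizerPPrimeCore 2 a ⊓ centralizer {c}, A₁⁆) :
    QuotientGroup.mk' (pPrimeCore 2 _) y ∈ centralizer (L : Set _) := by
  let C := centralizer ({c} : Set G)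
  let φ := QuotientGroup.mk' (pPrimeCore 2 ↥C)
  have haC : a ∈ C := le_centralizer_elem h hc ha
  suffices hle : ⁅centralizerPPrimeCore 2 a ⊓ C, A₁⁆ ≤ ((centralizer (L : Set _)).comap φ).map C.subtype by
    obtain ⟨y', hy', he⟩ := hle hy
    rwa [← C.subtype_injective he]
  refine commutator_le.2 fun u hu g hg => ?_
  have hgC : g ∈ C := le_centralizer_elem h hc (mem_sup_left hg)
  refine ⟨⁅(⟨u, hu.2⟩ : C), ⟨g, hgC⟩⁆, ?_, rfl⟩
  rw [SetLike.mem_coe, mem_comap, map_commutatorElement]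
  have hu' : φ ⟨u, hu.2⟩ ∈ normalizer (L : Set _) :=
    (core_act (pPrimeCore_quotient_pPrimeCore 2 ↥C) (orderOf_image (h.sq a ha) ha1 haC)
      (image_core_le (h.sq a ha) haC ⟨⟨u, hu.2⟩, hu.1, rfl⟩)).2.1 L hL
  have hg' := htriv ⟨g, hgC⟩ hg
  rw [show ⁅φ ⟨u, hu.2⟩, φ ⟨g, hgC⟩⁆ =
    (φ ⟨u, hu.2⟩ * φ ⟨g, hgC⟩ * (φ ⟨u, hu.2⟩)⁻¹) * (φ ⟨g, hgC⟩)⁻¹ from rfl]
  exact mul_mem (conj_mem (CfsgLib.PLocal.normalizer_le_centralizer_normalizer L hu') hg') (inv_mem hg')

set_option maxHeartbeats 1000000 in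
/-- `θ₁(a) ∩ C(A₁) ≤ O(C(A₁))`. -/
theorem half_fixed_le (h : Data A₁ A₂) {a : G} (ha : a ∈ A₁ ⊔ A₂) (ha1 : a ≠ 1) :
    half A₁ a ⊓ centralizer (A₁ : Set G) ≤
      (pPrimeCore 2 ↥(centralizer (A₁ : Set G))).map (centralizer (A₁ : Set G)).subtype := by
  set O := centralizerPPrimeCore 2 a with hO
  set C1 := centralizer (A₁ : Set G) with hC1
  set K := (pPrimeCore 2 ↥C1).map C1.subtype with hK
  set V := ⁅O, A₁⁆ with hV
  have hAO : A₁ ≤ normalizer (O : Set G) := le_sup_left.trans (le_normalizer_core h ha)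
  have hVO : V ≤ O := CfsgLib.Coprime.commutator_le_of_le_normalizer hAO
  have hOodd : (Nat.card O).Coprime 2 := coprime_core a le_rfl
  have hVodd : Odd (Nat.card V) := Nat.coprime_two_right.1 (coprime_core a hVO)
  suffices hmain : V ⊓ C1 ≤ K by
    rintro x ⟨hx, hxC⟩
    have hD : O ⊓ K ≤ normalizer (V : Set G) :=
      inf_le_left.trans (normalizer_commutator_ge_left O A₁)
    have hx' : x ∈ ((V ⊔ O ⊓ K : Subgroup G) : Set G) := hx
    rw [coe_mul_of_right_le_normalizer_left V (O ⊓ K) hD] at hx'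
    obtain ⟨v, hv, d, hd, rfl⟩ := Set.mem_mul.1 hx'
    have hdK : d ∈ K := hd.2
    have hdC : d ∈ C1 := map_subtype_le _ hdK
    exact mul_mem (hmain ⟨hv, show v ∈ C1 by simpa using C1.mul_mem hxC (C1.inv_mem hdC)⟩) hdK
  refine CfsgLib.FourGroupFixed.fixed_le h.card₁ (fun b hb => h.sq b (mem_sup_left hb))
    ((le_inf hAO le_normalizer).trans (normalizer_le_normalizer_commutator _ _)) hVodd
    (CfsgLib.FT.isSolvable_of_odd hVodd)
    (CfsgLib.Coprime.commutator_commutator_eq hAO (coprime_four h.card₁ hOodd) (Or.inl (isSolvable_four h)))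
    fun c hc hc1 => ?_
  rintro y ⟨hy, hyC1⟩
  have hcA : c ∈ A₁ ⊔ A₂ := mem_sup_left hc
  have hy' : y ∈ ⁅O ⊓ centralizer {c}, A₁⁆ := commutator_mono (inf_le_inf_right _ hVO) le_rfl hy
  have hyO : y ∈ O := hVO ((CfsgLib.Coprime.commutator_le_of_le_normalizer
    ((le_inf ((le_inf hAO le_normalizer).trans (normalizer_le_normalizer_commutator O A₁))
      (fun b hb => le_normalizer (le_centralizer_elem h hcA (mem_sup_left hb)))).trans
        inf_normalizer_le_normalizer_inf) hy)).1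
  have hC1c : C1 ≤ centralizer ({c} : Set G) := centralizer_le (Set.singleton_subset_iff.2 hc)
  have hAC1 : A₁ ⊔ A₂ ≤ C1 := fun g hg =>
    mem_centralizer_iff.2 fun x hx => h.comm x (mem_sup_left hx) g hg
  set φ := QuotientGroup.mk' (pPrimeCore 2 ↥C1) with hφ
  have hQ := pPrimeCore_quotient_pPrimeCore 2 ↥C1
  set ab := φ ⟨a, hAC1 ha⟩ with hab
  have hab2 : orderOf ab = 2 := orderOf_image (h.sq a ha) ha1 (hAC1 ha)
  have hyb : φ ⟨y, hyC1⟩ ∈ centralizerPPrimeCore 2 ab :=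
    image_core_le (h.sq a ha) (hAC1 ha) ⟨⟨y, hyC1⟩, hyO, rfl⟩
  obtain ⟨hy2, hyN, hyCent⟩ := core_act hQ hab2 hyb
  suffices h1 : φ ⟨y, hyC1⟩ = 1 from ⟨⟨y, hyC1⟩, (QuotientGroup.eq_one_iff _).1 h1, rfl⟩
  have hZ := eq_bot_of_centralizes hQ (Z := zpowers (φ ⟨y, hyC1⟩))
    ((coprime_card_map_pPrimeCore (centralizer ({ab} : Set _))).coprime_dvd_left
      (card_dvd_of_le (zpowers_le.2 hyb))) (zpowers_le.2 hy2) fun J hJ => zpowers_le.2 ?_
  · exact zpowers_eq_bot.1 hZ
  by_cases hne : ⁅J, zpowers ab⁆ = J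
  swap
  · exact hyCent J hJ hne
  -- split `a = a₁ a₂`
  obtain ⟨a₁, ha₁, a₂, ha₂, hmul⟩ : ∃ a₁ ∈ A₁, ∃ a₂ ∈ A₂, a₁ * a₂ = a := by
    have hn : A₁ ≤ normalizer (A₂ : Set G) := fun g hg => centralizer_le_normalizer _
      (mem_centralizer_iff.2 fun x hx => h.comm x (mem_sup_right hx) g (mem_sup_left hg))
    have := ha
    rw [← SetLike.mem_coe, coe_mul_of_left_le_normalizer_right A₁ A₂ hn] at this
    exact Set.mem_mul.1 this
  set a₂b := φ ⟨a₂, hAC1 (mem_sup_right ha₂)⟩ with ha₂b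
  have hJ2 : J ≤ ⁅layer (↥C1 ⧸ pPrimeCore 2 ↥C1), zpowers a₂b⁆ := by
    rw [← hne]
    refine (commutator_mono (component_le_layer hJ) le_rfl).trans (commutator_le.2 fun l hl d hd => ?_)
    obtain ⟨k, rfl⟩ := mem_zpowers_iff.1 hd
    set a₁b := φ ⟨a₁, hAC1 (mem_sup_left ha₁)⟩ with ha₁b
    have hcent : ∀ q, Commute a₁b q := by
      intro q
      obtain ⟨g, rfl⟩ := QuotientGroup.mk'_surjective _ q
      show a₁b * φ g = φ g * a₁b
      rw [ha₁b, ← map_mul, ← map_mul]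
      exact congrArg φ (Subtype.ext (mem_centralizer_iff.1 g.2 a₁ ha₁))
    have hab' : ab = a₁b * a₂b := by
      rw [hab, ha₁b, ha₂b, ← map_mul]
      exact congrArg φ (Subtype.ext hmul.symm)
    have e : ⁅l, ab ^ k⁆ = ⁅l, a₂b ^ k⁆ := by
      rw [hab', (hcent a₂b).mul_zpow]
      have h1 : Commute (a₁b ^ k) l := (hcent l).zpow_left k
      have h2 : Commute (a₁b ^ k) (a₂b ^ k) := ((hcent a₂b).zpow_left k).zpow_right k
      calc ⁅l, a₁b ^ k * a₂b ^ k⁆
          = (l * a₁b ^ k) * a₂b ^ k * l⁻¹ * (a₂b ^ k)⁻¹ * (a₁b ^ k)⁻¹ := by group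
        _ = a₁b ^ k * ⁅l, a₂b ^ k⁆ * (a₁b ^ k)⁻¹ := by rw [← h1.eq]; group
        _ = ⁅l, a₂b ^ k⁆ := by
          have h3 : Commute (a₁b ^ k) ⁅l, a₂b ^ k⁆ :=
            ((h1.mul_right h2).mul_right h1.inv_right).mul_right h2.inv_right
          rw [h3.eq, mul_inv_cancel_right]
    rw [e]
    exact commutator_mem_commutator hl (zpow_mem (mem_zpowers _) k)
  refine mem_centralizer_iff.2 fun j hj => ?_
  suffices hlay : ⁅layer (↥C1 ⧸ pPrimeCore 2 ↥C1), zpowers a₂b⁆ ≤ centralizer {φ ⟨y, hyC1⟩} from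
    mem_centralizer_singleton_iff.1 (hlay (hJ2 hj))
  rw [← map_pLayer, show zpowers a₂b = (zpowers (⟨a₂, hAC1 (mem_sup_right ha₂)⟩ : C1)).map φ from
    (MonoidHom.map_zpowers _ _).symm, ← map_commutator]
  rintro _ ⟨z, hz, rfl⟩
  -- pass to `C(c)`
  set Cc := centralizer ({c} : Set G) with hCc
  set T : Subgroup ↥Cc := A₁.subgroupOf Cc with hT
  have hA₁c : A₁ ≤ Cc := le_sup_left.trans (le_centralizer_elem h hcA)
  have hTC : (centralizer (T : Set ↥Cc)).map Cc.subtype = C1 := by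
    refine le_antisymm ?_ fun x hx => ⟨⟨x, hC1c hx⟩, ?_, rfl⟩
    · rintro _ ⟨x, hx, rfl⟩
      exact mem_centralizer_iff.2 fun g hg => congrArg Subtype.val
        (mem_centralizer_iff.1 hx ⟨g, hA₁c hg⟩ (show (⟨g, hA₁c hg⟩ : Cc) ∈ T from hg))
    · exact mem_centralizer_iff.2 fun g hg => Subtype.ext (mem_centralizer_iff.1 hx (g : G) hg)
  have hTp : IsPGroup 2 T := fun t => ⟨1, Subtype.ext (Subtype.ext (by
    simp [pow_two, h.sq _ (mem_sup_left (show ((t : Cc) : G) ∈ A₁ from t.2))]))⟩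
  let e : ↥C1 ≃* ↥(centralizer (T : Set ↥Cc)) :=
    (MulEquiv.subgroupCongr hTC.symm).trans
      ((centralizer (T : Set ↥Cc)).equivMapOfInjective Cc.subtype Cc.subtype_injective).symm
  have he : ∀ x : C1, (((e x : ↥(centralizer (T : Set ↥Cc))) : ↥Cc) : G) = x := fun x => by
    have h0 : ((centralizer (T : Set ↥Cc)).equivMapOfInjective Cc.subtype Cc.subtype_injective)
        (e x) = MulEquiv.subgroupCongr hTC.symm x := MulEquiv.apply_symm_apply _ _
    exact congrArg Subtype.val h0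
  have hlc : ∀ x : C1, x ∈ pLayer 2 ↥C1 → (⟨x, hC1c x.2⟩ : Cc) ∈ pLayer 2 ↥Cc := by
    intro x hx
    refine CfsgLib.LBalance.map_pLayer_centralizer_le T hTp ⟨e x, ?_, Subtype.ext (he x)⟩
    rw [← pLayer_map_equiv e]
    exact mem_map_of_mem _ hx
  set ψ := QuotientGroup.mk' (pPrimeCore 2 ↥Cc) with hψ
  set yc : Cc := ⟨y, hC1c hyC1⟩ with hyc
  have ha₂c : a₂ ∈ Cc := le_centralizer_elem h hcA (mem_sup_right ha₂)
  -- the product of the components centralised by `A₁`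
  let M : Subgroup (↥Cc ⧸ pPrimeCore 2 ↥Cc) :=
    ⨆ L : {L : Subgroup (↥Cc ⧸ pPrimeCore 2 ↥Cc) // IsComponent L ∧
      ∀ g : Cc, (g : G) ∈ A₁ → ψ g ∈ centralizer (L : Set _)}, L.1
  have hMy : M ≤ centralizer {ψ yc} := iSup_le fun L l hl => mem_centralizer_singleton_iff.2
    (mem_centralizer_iff.1 (comm_centralizes h ha ha1 hcA L.1 L.2.1 L.2.2 yc hy') l hl)
  have hMlayer : layer (↥Cc ⧸ pPrimeCore 2 ↥Cc) ≤ normalizer (M : Set _) := by
    refine layer_le_iff.2 fun L hL l hl => mem_normalizer_iff_map_conj_eq.2 ?_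
    rw [Subgroup.map_iSup]
    refine iSup_congr fun L' => mem_normalizer_iff_map_conj_eq.1 ?_
    rcases eq_or_ne L L'.1 with heq | hne'
    · exact le_normalizer (heq ▸ hl)
    · exact centralizer_le_normalizer _
        (commutator_eq_bot_iff_le_centralizer.1 (components_commute hL L'.2.1 hne') hl)
  set a₂c := ψ ⟨a₂, ha₂c⟩ with ha₂cdef
  have hMlay : ⁅layer (↥Cc ⧸ pPrimeCore 2 ↥Cc), zpowers a₂c⁆ ≤ M := by
    refine commutator_le.2 fun l hl d hd => ?_
    rw [layer_eq_iSup, iSup_eq_closure] at hl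
    have hd' : ∃ g : Cc, (g : G) ∈ A₂ ∧ ψ g = d := by
      obtain ⟨k, rfl⟩ := mem_zpowers_iff.1 hd
      exact ⟨⟨a₂, ha₂c⟩ ^ k, zpow_mem ha₂ k, map_zpow ψ _ k⟩
    obtain ⟨g, hg, rfl⟩ := hd'
    induction hl using closure_induction with
    | mem l hl =>
      obtain ⟨L, hlL⟩ := Set.mem_iUnion.1 hl
      rcases sep_component h hcA hc1 L.1 L.2 with h1 | h2
      · rw [show ⁅l, ψ g⁆ = l * (ψ g * l⁻¹ * (ψ g)⁻¹) by group]
        refine mul_mem (le_iSup (fun L : {L : Subgroup (↥Cc ⧸ pPrimeCore 2 ↥Cc) // IsComponent L ∧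
          ∀ g : Cc, (g : G) ∈ A₁ → ψ g ∈ centralizer (L : Set _)} => L.1) ⟨L.1, L.2, h1⟩ hlL) ?_
        refine le_iSup (fun L : {L : Subgroup (↥Cc ⧸ pPrimeCore 2 ↥Cc) // IsComponent L ∧
          ∀ g : Cc, (g : G) ∈ A₁ → ψ g ∈ centralizer (L : Set _)} => L.1)
          ⟨L.1.map (MulAut.conj (ψ g)).toMonoidHom, isComponent_conj L.2 _, fun g₁ hg₁ => ?_⟩
          ⟨l⁻¹, inv_mem hlL, rfl⟩
        refine mem_centralizer_iff.2 ?_
        rintro _ ⟨m, hm, rfl⟩
        have hcm : Commute (ψ g₁) (ψ g) := by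
          show ψ g₁ * ψ g = ψ g * ψ g₁
          rw [← map_mul, ← map_mul]
          exact congrArg ψ (Subtype.ext (h.comm _ (mem_sup_left hg₁) _ (mem_sup_right hg)))
        have hm' : Commute (ψ g₁) m := (mem_centralizer_iff.1 (h1 g₁ hg₁) m hm).symm
        exact ((hcm.mul_right hm').mul_right hcm.inv_right).symm
      · have : ⁅l, ψ g⁆ = 1 := commutatorElement_eq_one_iff_mul_comm.2
          (mem_centralizer_iff.1 (h2 g hg) l hlL)
        rw [this]
        exact one_mem _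
    | one => simp
    | mul l₁ l₂ hl₁ hl₂ ih₁ ih₂ =>
      rw [show ⁅l₁ * l₂, ψ g⁆ = l₁ * ⁅l₂, ψ g⁆ * l₁⁻¹ * ⁅l₁, ψ g⁆ by group]
      refine mul_mem (conj_mem (hMlayer ?_) ih₂) ih₁
      rw [layer_eq_iSup, iSup_eq_closure]
      exact hl₁
    | inv l hl ih =>
      rw [show ⁅l⁻¹, ψ g⁆ = l⁻¹ * ⁅l, ψ g⁆⁻¹ * l⁻¹⁻¹ by group]
      refine conj_mem (hMlayer ?_) (inv_mem ih)
      rw [layer_eq_iSup, iSup_eq_closure]
      exact inv_mem hl
  have hzC : (⟨z, hC1c z.2⟩ : Cc) ∈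
      ⁅pLayer 2 ↥Cc, zpowers (⟨a₂, ha₂c⟩ : Cc)⁆ := by
    let ι : ↥C1 →* ↥Cc := inclusion hC1c
    have : z ∈ (⁅pLayer 2 ↥Cc, zpowers (⟨a₂, ha₂c⟩ : Cc)⁆).comap ι := by
      revert hz
      refine fun hz => (commutator_le.2 (fun u hu d hd => ?_) :
        ⁅pLayer 2 ↥C1, zpowers (⟨a₂, hAC1 (mem_sup_right ha₂)⟩ : C1)⁆ ≤ _) hz
      rw [mem_comap, map_commutatorElement]
      refine commutator_mem_commutator (hlc u hu) ?_
      obtain ⟨k, rfl⟩ := mem_zpowers_iff.1 hd
      rw [map_zpow]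
      exact zpow_mem (mem_zpowers _) k
    exact this
  have hzM : ψ ⟨z, hC1c z.2⟩ ∈ M := by
    refine hMlay ?_
    have := mem_map_of_mem ψ hzC
    rwa [map_commutator, map_pLayer, MonoidHom.map_zpowers] at this
  have hcommc := mem_centralizer_singleton_iff.1 (hMy hzM)
  -- back to `C(A₁)`
  have hmem : ⁅yc, (⟨z, hC1c z.2⟩ : Cc)⁆ ∈ pPrimeCore 2 ↥Cc := by
    rw [← QuotientGroup.eq_one_iff]
    show ψ _ = 1
    rw [map_commutatorElement, commutatorElement_eq_one_iff_mul_comm]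
    exact hcommc.symm
  refine mem_centralizer_singleton_iff.2 ?_
  rw [eq_comm, ← commutatorElement_eq_one_iff_mul_comm, ← map_commutatorElement]
  refine (QuotientGroup.eq_one_iff _).2 ?_
  have hle := le_map_pPrimeCore (p := 2) (M := centralizerPPrimeCore 2 c ⊓ C1) inf_le_right
    ((le_inf (hC1c.trans (le_normalizer_map_pPrimeCore _)) le_normalizer).trans
      inf_normalizer_le_normalizer_inf)
    (coprime_core c inf_le_left)
  obtain ⟨w, hw, hwe⟩ := hle (mem_inf.2 ⟨mem_map_of_mem Cc.subtype hmem,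
    (⁅(⟨y, hyC1⟩ : C1), z⁆).2⟩)
  rwa [show ⁅(⟨y, hyC1⟩ : C1), z⁆ = w from C1.subtype_injective hwe.symm]

set_option maxHeartbeats 1000000 in
/-- The images of the values of the half functor centralise the components centralised by `A₁`. -/
theorem half_centralizes (h : Data A₁ A₂) {a b : G} (ha : a ∈ A₁ ⊔ A₂) (ha1 : a ≠ 1)
    (hb : b ∈ A₁ ⊔ A₂) {X : Subgroup G} (hX : X ≤ half A₁ a) (hXC : X ≤ centralizer {b})
    (hAX : A₁ ≤ normalizer (X : Set G))
    (L : Subgroup (↥(centralizer ({b} : Set G)) ⧸ pPrimeCore 2 ↥(centralizer ({b} : Set G))))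
    (hL : IsComponent L)
    (htriv : ∀ g : ↥(centralizer ({b} : Set G)), (g : G) ∈ A₁ →
        QuotientGroup.mk' (pPrimeCore 2 _) g ∈ centralizer (L : Set _)) :
    (X.subgroupOf (centralizer ({b} : Set G))).map (QuotientGroup.mk' (pPrimeCore 2 _)) ≤
      centralizer (L : Set _) := by
  let C := centralizer ({b} : Set G)
  let φ := QuotientGroup.mk' (pPrimeCore 2 ↥C)
  set K := (pPrimeCore 2 ↥(centralizer (A₁ : Set G))).map (centralizer (A₁ : Set G)).subtype with hK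
  have hXO : X ≤ centralizerPPrimeCore 2 a := hX.trans (half_le h ha)
  have hA₁C : A₁ ≤ C := le_sup_left.trans (le_centralizer_elem h hb)
  rintro _ ⟨x, hx, rfl⟩
  obtain ⟨d, hd, hxd⟩ := CfsgLib.Coprime.exists_commutator_mul_centralizer hAX
    (coprime_four h.card₁ (coprime_core a hXO)) (Or.inl (isSolvable_four h))
    (show (x : G) ∈ X from hx)
  have hdK : d ∈ K := half_fixed_le h ha ha1 ⟨hX hd.1, hd.2⟩
  set dC : C := ⟨d, hXC hd.1⟩ with hdC
  rw [show x = (x * dC⁻¹) * dC by group, map_mul]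
  refine mul_mem (comm_centralizes h ha ha1 hb L hL htriv _
    (commutator_mono (le_inf hXO hXC) le_rfl hxd)) ?_
  let Z := (K.subgroupOf C).map φ
  have hLZ : L ≤ normalizer (Z : Set _) := by
    intro l hl
    obtain ⟨k, rfl⟩ := QuotientGroup.mk'_surjective _ l
    obtain ⟨c', hc', hck⟩ := CfsgLib.Coprime.exists_centralizing_in_coset
      (A := A₁.subgroupOf C) (N := pPrimeCore 2 ↥C) (fun g _ => le_normalizer_of_normal (mem_top g))
      (by
        rw [card_subgroupOf hA₁C, h.card₁, show 4 = 2 ^ 2 by norm_num]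
        exact Nat.Coprime.pow_left 2 (pPrimeCore_coprime 2 ↥C).symm)
      (Or.inr (CfsgLib.LBalance.isSolvable_oddCore ↥C)) (k := k) (fun g hg => by
        rw [← QuotientGroup.eq_one_iff]
        show φ (k⁻¹ * (g * k * g⁻¹)) = 1
        have hgk : φ g * φ k = φ k * φ g := (mem_centralizer_iff.1 (htriv g hg) (φ k) hl).symm
        rw [map_mul, map_mul, map_mul, map_inv, map_inv, hgk]
        group)
    rw [show φ k = φ c' from (QuotientGroup.eq).2 hck]
    refine le_normalizer_map φ ⟨c', le_normalizer_comap C.subtype ?_, rfl⟩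
    exact le_normalizer_map_pPrimeCore _ (mem_centralizer_iff.2 fun g hg =>
      congrArg Subtype.val (mem_centralizer_iff.1 hc' ⟨g, hA₁C hg⟩ hg))
  have hZodd : Odd (Nat.card Z) := by
    refine Nat.coprime_two_right.1 ((coprime_card_map_pPrimeCore
      (centralizer (A₁ : Set G))).coprime_dvd_left ((CfsgLib.Base.card_map_dvd _ _).trans ?_))
    show Nat.card (K.subgroupOf C) ∣ _
    rw [← inf_subgroupOf_right, card_subgroupOf inf_le_right]
    exact card_dvd_of_le inf_le_left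
  exact le_centralizer_iff.1 (commutator_eq_bot_iff_le_centralizer.1
    (component_commutator_eq_bot_of_normalizes hL (CfsgLib.FT.isSolvable_of_odd hZodd) hLZ))
    ⟨dC, hdK, rfl⟩

/-- `θ(a) ∩ C(b) ≤ O(C(b))`. -/
theorem inf_le_core (h : Data A₁ A₂) {a b : G} (ha : a ∈ A₁ ⊔ A₂) (ha1 : a ≠ 1)
    (hb : b ∈ A₁ ⊔ A₂) (hb1 : b ≠ 1) :
    half A₁ a ⊓ half A₂ a ⊓ centralizer {b} ≤ centralizerPPrimeCore 2 b := by
  have ha' : a ∈ A₂ ⊔ A₁ := sup_comm A₁ A₂ ▸ ha
  have hb' : b ∈ A₂ ⊔ A₁ := sup_comm A₁ A₂ ▸ hb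
  set C := centralizer ({b} : Set G) with hC
  set X := half A₁ a ⊓ half A₂ a ⊓ C with hX
  have hXC : X ≤ C := inf_le_right
  have hAN : A₁ ⊔ A₂ ≤ normalizer (X : Set G) := by
    refine (le_inf ((le_inf (le_normalizer_half h ha) ?_).trans inf_normalizer_le_normalizer_inf)
      ((le_centralizer_elem h hb).trans le_normalizer)).trans inf_normalizer_le_normalizer_inf
    rw [sup_comm]
    exact le_normalizer_half h.symm ha'
  set φ := QuotientGroup.mk' (pPrimeCore 2 ↥C)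
  have hQ := pPrimeCore_quotient_pPrimeCore 2 ↥C
  have haC : a ∈ C := le_centralizer_elem h hb ha
  have hZY : (X.subgroupOf C).map φ ≤ centralizerPPrimeCore 2 (φ ⟨a, haC⟩) := by
    refine le_trans (map_mono fun x hx => ?_) (image_core_le (h.sq a ha) haC)
    exact half_le h ha hx.1.1
  have hz := eq_bot_of_centralizes hQ
    ((coprime_card_map_pPrimeCore (centralizer ({φ ⟨a, haC⟩} : Set _))).coprime_dvd_left
      (card_dvd_of_le hZY))
    (fun z hz => (core_act hQ (orderOf_image (h.sq a ha) ha1 haC) (hZY hz)).1) fun L hL => by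
      rcases sep_component h hb hb1 L hL with h1 | h2
      · exact half_centralizes h ha ha1 hb (inf_le_left.trans inf_le_left) hXC (le_sup_left.trans hAN)
          L hL h1
      · exact half_centralizes h.symm ha' ha1 hb' (inf_le_left.trans inf_le_right) hXC
          (le_sup_right.trans hAN) L hL h2
  intro x hx
  exact ⟨⟨x, hXC hx⟩, (QuotientGroup.eq_one_iff _).1
    (mem_bot.1 (hz ▸ mem_map_of_mem φ (show (⟨x, hXC hx⟩ : C) ∈ X.subgroupOf C from hx))), rfl⟩

/-- The balance condition for one half. -/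
theorem inf_le_half (h : Data A₁ A₂) {a b : G} (ha : a ∈ A₁ ⊔ A₂) (ha1 : a ≠ 1)
    {X : Subgroup G} (hX : X ≤ half A₁ a) (hXb : X ≤ centralizerPPrimeCore 2 b)
    (hAX : A₁ ≤ normalizer (X : Set G)) : X ≤ half A₁ b := by
  rw [← CfsgLib.Coprime.commutator_sup_centralizer hAX
    (coprime_four h.card₁ (coprime_core b hXb)) (Or.inl (isSolvable_four h))]
  refine sup_le_sup (commutator_mono hXb le_rfl) (le_inf (inf_le_left.trans hXb) ?_)
  exact (inf_le_inf_right _ hX).trans (half_fixed_le h ha ha1)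

theorem isSignalizerFunctor {A₁ A₂ : Subgroup G} (hcs : IsCoreSeparated A₁ A₂) :
    IsSignalizerFunctor 2 (A₁ ⊔ A₂) (fun a => half A₁ a ⊓ half A₂ a) := by
  obtain ⟨hA₁, hA₂, hc₁, hc₂, -, -, hcomm, hsep⟩ := hcs
  obtain ⟨hm1, hs1⟩ := isElementaryAbelian_iff.1 hA₁
  obtain ⟨hm2, hs2⟩ := isElementaryAbelian_iff.1 hA₂
  have hC1 : A₁ ⊔ A₂ ≤ centralizer (A₁ : Set G) := sup_le
    (fun x hx => mem_centralizer_iff.2 fun y hy => hm1 y hy x hx)
    (fun x hx => mem_centralizer_iff.2 fun y hy => hcomm y hy x hx)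
  have hC2 : A₁ ⊔ A₂ ≤ centralizer (A₂ : Set G) := sup_le
    (fun x hx => mem_centralizer_iff.2 fun y hy => (hcomm x hx y hy).symm)
    (fun x hx => mem_centralizer_iff.2 fun y hy => hm2 y hy x hx)
  have hab : ∀ a ∈ A₁ ⊔ A₂, ∀ b ∈ A₁ ⊔ A₂, a * b = b * a := by
    intro a ha b hb
    refine mem_centralizer_singleton_iff.1 ((sup_le ?_ ?_ : A₁ ⊔ A₂ ≤ centralizer ({b} : Set G)) ha)
    · exact fun x hx => mem_centralizer_singleton_iff.2 (mem_centralizer_iff.1 (hC1 hb) x hx)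
    · exact fun x hx => mem_centralizer_singleton_iff.2 (mem_centralizer_iff.1 (hC2 hb) x hx)
  have hsq : ∀ a ∈ A₁ ⊔ A₂, a * a = 1 := by
    intro a ha
    rw [sup_eq_closure] at ha
    induction ha using closure_induction with
    | mem x hx =>
      rcases hx with hx | hx
      · rw [← pow_two]; exact hs1 x hx
      · rw [← pow_two]; exact hs2 x hx
    | one => simp
    | mul x y hx hy ihx ihy =>
      have hxy : Commute x y := hab x (sup_eq_closure A₁ A₂ ▸ hx) y (sup_eq_closure A₁ A₂ ▸ hy)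
      rw [hxy.symm.mul_mul_mul_comm, ihx, ihy, one_mul]
    | inv x hx ih => rw [← mul_inv_rev, ih, inv_one]
  have h : Data A₁ A₂ := ⟨hab, hsq, hc₁, hc₂, hsep⟩
  have hsc := sup_comm A₁ A₂
  refine ⟨fun a ha _ => (inf_le_left.trans (half_le h ha)).trans (map_subtype_le _), fun a ha _ hd => ?_,
    fun a ha _ b hb x hx => ⟨conj_mem (le_normalizer_half h ha hb) hx.1,
      conj_mem (le_normalizer_half h.symm (hsc ▸ ha) (hsc ▸ hb)) hx.2⟩, fun a ha ha1 b hb hb1 => ?_⟩
  · exact Nat.not_coprime_of_dvd_of_dvd one_lt_two hd dvd_rfl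
      (coprime_core a (inf_le_left.trans (half_le h ha)))
  · have hcore := inf_le_core h ha ha1 hb hb1
    have hn : A₁ ⊔ A₂ ≤ normalizer ((half A₁ a ⊓ half A₂ a ⊓ centralizer {b} : Subgroup G) : Set G) := by
      refine (le_inf ((le_inf (le_normalizer_half h ha) ?_).trans inf_normalizer_le_normalizer_inf)
        ((le_centralizer_elem h hb).trans le_normalizer)).trans inf_normalizer_le_normalizer_inf
      rw [sup_comm]
      exact le_normalizer_half h.symm (hsc ▸ ha)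
    exact le_inf (inf_le_half h ha ha1 (inf_le_left.trans inf_le_left) hcore (le_sup_left.trans hn))
      (inf_le_half h.symm (hsc ▸ ha) ha1 (inf_le_left.trans inf_le_right) hcore (le_sup_right.trans hn))

end CfsgLib.CoreSep
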