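import Mathlib
import Cfsg.Agent.Lib.Components.Signalizer
import Cfsg.Agent.Lib.PLocal.Constrained
import Cfsg.Agent.Lib.PGroups.Basic
import Cfsg.Agent.Lib.PLocal.PSolvable

/-!
# Coprime factorisation lemmas for the signalizer functor theorem
-/

set_option autoImplicit false
set_option linter.style.haveILetI false
set_option linter.unusedSectionVars false

open scoped Pointwise commutatorElement

namespace CfsgLib.Signalizer

open Cfsg Subgroup CfsgLib.Base

variable {G : Type*} [Group G] [Finite G]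

/-- `|XY| |X ∩ Y| = |X| |Y|`. -/
theorem card_mul_set_mul_card_inf (X Y : Subgroup G) :
    Nat.card ↥((X : Set G) * (Y : Set G)) * Nat.card ↥(X ⊓ Y) = Nat.card X * Nat.card Y := by
  classical
  rw [← Nat.card_prod, ← Nat.card_prod]
  have hx : ∀ z : ↥((X : Set G) * (Y : Set G)), ∃ x : X, (x : G)⁻¹ * z ∈ Y := by
    rintro ⟨_, x, hx, y, hy, rfl⟩
    exact ⟨⟨x, hx⟩, by simpa using hy⟩
  choose f hf using hx
  refine Nat.card_congr
    { toFun := fun zd => (⟨(f zd.1 : G) * (zd.2 : G), mul_mem (f zd.1).2 (mem_inf.mp zd.2.2).1⟩,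
        ⟨(zd.2 : G)⁻¹ * ((f zd.1 : G)⁻¹ * zd.1), mul_mem (inv_mem (mem_inf.mp zd.2.2).2) (hf zd.1)⟩)
      invFun := fun xy => (⟨(xy.1 : G) * xy.2, Set.mul_mem_mul xy.1.2 xy.2.2⟩,
        ⟨(f ⟨(xy.1 : G) * xy.2, Set.mul_mem_mul xy.1.2 xy.2.2⟩ : G)⁻¹ * xy.1,
          mem_inf.mpr ⟨mul_mem (inv_mem (f _).2) xy.1.2, by
            have h1 := hf ⟨(xy.1 : G) * xy.2, Set.mul_mem_mul xy.1.2 xy.2.2⟩
            rw [← mul_assoc] at h1
            exact (mul_mem_cancel_right xy.2.2).mp h1⟩⟩)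
      left_inv := fun zd => by
        have hz : (f zd.1 : G) * zd.2 * ((zd.2 : G)⁻¹ * ((f zd.1 : G)⁻¹ * zd.1)) = zd.1 := by group
        refine Prod.ext (Subtype.ext hz) (Subtype.ext ?_)
        simp only [hz, Subtype.coe_eta]
        group
      right_inv := fun xy => by
        refine Prod.ext (Subtype.ext ?_) (Subtype.ext ?_) <;>
          simp only [Subgroup.coe_mk] <;> group }

theorem factorization_card_of_sylow {q : ℕ} [Fact q.Prime] {H : Subgroup G} (S : Sylow q H)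
    {V : Subgroup G} (hV : (S : Subgroup H).map H.subtype = V) :
    (Nat.card H).factorization q = (Nat.card V).factorization q ∧
      Nat.card V = q ^ (Nat.card H).factorization q := by
  have h : Nat.card V = q ^ (Nat.card H).factorization q := by
    rw [← hV, card_map_subtype, S.card_eq_multiplicity]
  refine ⟨?_, h⟩
  rw [h, Nat.factorization_pow_self (Fact.out : q.Prime)]

theorem factorization_mono {H K : Subgroup G} (h : H ≤ K) (q : ℕ) :
    (Nat.card H).factorization q ≤ (Nat.card K).factorization q :=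
  (Nat.factorization_le_iff_dvd Nat.card_pos.ne' Nat.card_pos.ne').mpr (card_dvd_of_le h) q

variable {p : ℕ} [Fact p.Prime] {A : Subgroup G}

theorem map_le_of_sylow {q : ℕ} [Fact q.Prime] {K R : Subgroup G} (hR : R ≤ K) (hq : IsPGroup q R)
    (S : Sylow q K) (h : (S : Subgroup K).map K.subtype ≤ R) : R = (S : Subgroup K).map K.subtype := by
  refine le_antisymm ?_ h
  have hle : (S : Subgroup K) ≤ R.subgroupOf K := fun y hy => h ⟨y, hy, rfl⟩
  have := S.is_maximal' (hq.comap_of_injective _ K.subtype_injective) hle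
  rw [← this]
  exact (map_subgroupOf_eq_of_le hR).ge

theorem isSolvable_elemAb (hA : IsElementaryAbelian p A) : Group.IsSolvable A :=
  haveI := (elemAb_isPGroup hA).isNilpotent
  inferInstance

/-- An `A`-invariant Sylow `q`-subgroup of `K` meets `C_K(a)` in a Sylow subgroup. -/
theorem sylow_inf_centralizer (hA : IsElementaryAbelian p A) {K : Subgroup G}
    (hAK : A ≤ normalizer (K : Set G)) (hK : ¬ p ∣ Nat.card K) {q : ℕ} [Fact q.Prime]
    (S : Sylow q K) (hS : A ≤ normalizer ((S : Subgroup K).map K.subtype : Set G))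
    {a : G} (ha : a ∈ A) :
    (Nat.card ↥((S : Subgroup K).map K.subtype ⊓ centralizer {a})).factorization q =
      (Nat.card ↥(K ⊓ centralizer {a})).factorization q := by
  have hAC : A ≤ normalizer (centralizer ({a} : Set G) : Set G) := by
    refine le_trans (fun b hb => ?_) le_normalizer
    exact mem_centralizer_singleton_iff.mpr (elemAb_comm hA hb ha)
  have hAC' : A ≤ normalizer ((K ⊓ centralizer {a} : Subgroup G) : Set G) :=
    (le_inf hAK hAC).trans inf_normalizer_le_normalizer_inf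
  have hAS' : A ≤ normalizer (((S : Subgroup K).map K.subtype ⊓ centralizer {a} : Subgroup G) : Set G) :=
    (le_inf hS hAC).trans inf_normalizer_le_normalizer_inf
  obtain ⟨R, hR, hAR⟩ := CfsgLib.Coprime.exists_invariant_sylow_ge (p := q) hAC'
    ((coprime_of_not_dvd hA hK).coprime_dvd_right (card_dvd_of_le inf_le_left))
    (Or.inl (isSolvable_elemAb hA)) (inf_le_inf_right _ (map_subtype_le _))
    ((S.isPGroup'.map K.subtype).to_le inf_le_left) hAS'
  set V := (R : Subgroup ↥(K ⊓ centralizer {a})).map (K ⊓ centralizer {a}).subtype with hV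
  obtain ⟨S', hS', hAS''⟩ := CfsgLib.Coprime.exists_invariant_sylow_ge (p := q) hAK
    (coprime_of_not_dvd hA hK) (Or.inl (isSolvable_elemAb hA))
    ((map_subtype_le _).trans inf_le_left : V ≤ K) (R.isPGroup'.map _) hAR
  obtain ⟨c, hc, hcS⟩ := CfsgLib.Coprime.invariant_sylow_conj hAK (coprime_of_not_dvd hA hK)
    (Or.inl (isSolvable_elemAb hA)) S' S hAS'' hS
  rw [(factorization_card_of_sylow R hV.symm).1]
  refine le_antisymm (factorization_mono hR q) ?_
  rw [← card_map_conj (c : G) V]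
  refine factorization_mono (le_inf ?_ ?_) q
  · rintro _ ⟨v, hv, rfl⟩
    obtain ⟨s, hs, rfl⟩ := hS' hv
    exact ⟨MulAut.conj c s, hcS ▸ ⟨s, hs, rfl⟩, rfl⟩
  · rintro _ ⟨v, hv, rfl⟩
    have hca : (c : G) ∈ centralizer ({a} : Set G) :=
      mem_centralizer_singleton_iff.mpr (mem_centralizer_iff.mp hc a ha).symm
    exact mul_mem (mul_mem hca (map_subtype_le _ hv).2) (inv_mem hca)

/-- An `A`-invariant `q`-group covered on each centraliser by two invariant subgroups. -/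
theorem subset_mul_of_pGroup (hA : IsElementaryAbelian p A) (hA2 : p ^ 2 ≤ Nat.card A) {q : ℕ}
    [Fact q.Prime] {S X Y : Subgroup G} (hS : IsPGroup q S) (hpS : ¬ p ∣ Nat.card S)
    (hAS : A ≤ normalizer (S : Set G)) (hYS : Y ≤ S)
    (hfac : ∀ a ∈ A, a ≠ 1 → ((S ⊓ centralizer {a} : Subgroup G) : Set G) ⊆ (X : Set G) * (Y : Set G)) :
    (S : Set G) ⊆ (X : Set G) * (Y : Set G) := by
  classical
  set T : Set G := (X : Set G) * (Y : Set G) with hT
  let Good : Subgroup G → Prop := fun M =>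
    M ≤ S ∧ S ≤ normalizer (M : Set G) ∧ A ≤ normalizer (M : Set G) ∧ ∀ t ∈ T, ∀ m ∈ M, t * m ∈ T
  have hbot : Good ⊥ := ⟨bot_le,
    fun g _ => le_normalizer_of_normal (H := (⊥ : Subgroup G)) (mem_top g),
    fun g _ => le_normalizer_of_normal (H := (⊥ : Subgroup G)) (mem_top g),
    fun t ht m hm => by rw [mem_bot] at hm; simpa [hm] using ht⟩
  obtain ⟨M, -, hMmax⟩ := (Set.toFinite {M | Good M}).exists_le_maximal hbot
  obtain ⟨hMS, hSM, hAM, hMT⟩ := hMmax.prop
  have hone : (1 : G) ∈ T := ⟨1, one_mem X, 1, one_mem Y, one_mul 1⟩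
  suffices hSeq : S ≤ M by
    intro s hs
    simpa using hMT 1 hone s (hSeq hs)
  by_contra hne
  haveI hMn : (M.subgroupOf S).Normal := normal_subgroupOf_of_le_normalizer hSM
  set f := QuotientGroup.mk' (M.subgroupOf S) with hf
  have hne' : (⊤ : Subgroup (↥S ⧸ M.subgroupOf S)) ≠ ⊥ := by
    intro h
    apply hne
    rw [← subgroupOf_eq_top, eq_top_iff]
    intro s _
    exact (QuotientGroup.eq_one_iff s).mp (mem_bot.mp (h ▸ mem_top (f s)))
  have hZ := CfsgLib.PGroups.inf_center_ne_bot (hS.to_quotient (M.subgroupOf S)) hne'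
  set W := ((center (↥S ⧸ M.subgroupOf S)).comap f).map S.subtype with hW
  have hMW : M ≤ W := by
    intro m hm
    refine ⟨⟨m, hMS hm⟩, ?_, rfl⟩
    show f ⟨m, hMS hm⟩ ∈ center _
    rw [show f ⟨m, hMS hm⟩ = 1 from (QuotientGroup.eq_one_iff (⟨m, hMS hm⟩ : ↥S)).mpr hm]
    exact one_mem _
  have hWS : W ≤ S := map_subtype_le _
  have hWc : ∀ w ∈ W, ∀ s ∈ S, ⁅w, s⁆ ∈ M := by
    rintro _ ⟨w, hw, rfl⟩ s hs
    have h1 : f ⁅w, (⟨s, hs⟩ : S)⁆ = 1 := by
      rw [map_commutatorElement, commutatorElement_eq_one_iff_mul_comm]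
      exact (mem_center_iff.mp hw _).symm
    exact mem_subgroupOf.mp ((QuotientGroup.eq_one_iff ⁅w, (⟨s, hs⟩ : S)⁆).mp h1)
  have hWne : ¬ W ≤ M := by
    intro hle
    apply hZ
    rw [eq_bot_iff]
    intro z hz
    obtain ⟨s, rfl⟩ := QuotientGroup.mk'_surjective _ z
    exact mem_bot.mpr ((QuotientGroup.eq_one_iff s).mpr (hle ⟨s, hz.2, rfl⟩))
  have hAW : A ≤ normalizer (W : Set G) := by
    refine conj_invariant_iff.mp ?_
    rintro b hb _ ⟨w, hw, rfl⟩
    have hbw : b * (w : G) * b⁻¹ ∈ S := (mem_normalizer_iff.mp (hAS hb) _).mp w.2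
    refine ⟨⟨_, hbw⟩, ?_, rfl⟩
    refine mem_center_iff.mpr fun z => ?_
    obtain ⟨s, rfl⟩ := QuotientGroup.mk'_surjective _ z
    show f s * f ⟨b * (w : G) * b⁻¹, hbw⟩ = f ⟨b * (w : G) * b⁻¹, hbw⟩ * f s
    symm
    rw [← commutatorElement_eq_one_iff_mul_comm, ← map_commutatorElement]
    refine (QuotientGroup.eq_one_iff ⁅(⟨b * (w : G) * b⁻¹, hbw⟩ : S), s⁆).mpr ?_
    have hs' : b⁻¹ * (s : G) * b ∈ S := by
      simpa using (mem_normalizer_iff.mp (hAS (inv_mem hb)) _).mp s.2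
    have := (mem_normalizer_iff.mp (hAM hb) _).mp (hWc w ⟨w, hw, rfl⟩ _ hs')
    have e : b * ⁅(w : G), b⁻¹ * (s : G) * b⁆ * b⁻¹ = ⁅b * (w : G) * b⁻¹, (s : G)⁆ := by group
    rw [e] at this
    exact this
  obtain ⟨a, ha, ha1, hWa⟩ : ∃ a ∈ A, a ≠ 1 ∧ ¬ W ⊓ centralizer {a} ≤ M := by
    by_contra hcon
    push Not at hcon
    haveI := hA.1
    exact hWne (CfsgLib.Coprime.le_of_centralizer_le_of_not_isCyclic (elemAb_not_isCyclic hA hA2) hAW
      (coprime_of_not_dvd hA fun h => hpS (h.trans (card_dvd_of_le hWS))) hcon)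
  set C := W ⊓ centralizer ({a} : Set G) with hC
  have hCM : C ≤ normalizer (M : Set G) := (inf_le_left.trans hWS).trans hSM
  have hAC : A ≤ normalizer (C : Set G) := by
    refine le_trans (le_inf hAW ?_) inf_normalizer_le_normalizer_inf
    refine le_trans (fun b hb => ?_) le_normalizer
    exact mem_centralizer_singleton_iff.mpr (elemAb_comm hA hb ha)
  have hkey : ∀ t ∈ T, ∀ w ∈ C, t * w ∈ T := by
    rintro _ ⟨x0, hx0, y0, hy0, rfl⟩ w hw
    obtain ⟨x, hx, y, hy, hxy⟩ := hfac a ha ha1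
      (mem_inf.mpr ⟨hWS hw.1, hw.2⟩)
    have hy0S : y0 ∈ S := hYS hy0
    have hm : ⁅w, y0⁆ ∈ M := hWc w hw.1 y0 hy0S
    have e : x0 * y0 * w = (x0 * x) * (y * y0) * ((y0⁻¹ * w⁻¹) * (y0 * w)) := by
      calc x0 * y0 * w = x0 * (x * y) * y0 * ((y0⁻¹ * (x * y)⁻¹) * (y0 * w)) := by group
        _ = _ := by rw [← hxy]; group
    show x0 * y0 * w ∈ T
    rw [e]
    refine hMT _ (Set.mul_mem_mul (mul_mem hx0 hx) (mul_mem hy hy0)) _ ?_
    have e2 : (y0⁻¹ * w⁻¹) * (y0 * w) = y0⁻¹ * (w⁻¹ * ⁅w, y0⁆⁻¹ * w) * y0 := by group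
    rw [e2]
    have h1 : w⁻¹ * ⁅w, y0⁆⁻¹ * w ∈ M := by
      simpa using (mem_normalizer_iff.mp (hCM (inv_mem hw)) _).mp (inv_mem hm)
    simpa using (mem_normalizer_iff.mp (hSM (inv_mem hy0S)) _).mp h1
  have hMC : Good (M ⊔ C) := by
    refine ⟨sup_le hMS (inf_le_left.trans hWS), ?_, ?_, ?_⟩
    · intro s hs
      refine map_conj_eq_self_iff.mp (eq_of_le_of_card_ge ?_ (card_map_conj s _).ge)
      rw [Subgroup.map_sup, sup_le_iff, map_conj_eq_self_iff.mpr (hSM hs)]
      refine ⟨le_sup_left, ?_⟩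
      rintro _ ⟨w, hw, rfl⟩
      have e : s * w * s⁻¹ = ⁅w, s⁆⁻¹ * w := by group
      show s * w * s⁻¹ ∈ M ⊔ C
      rw [e]
      exact mul_mem_sup (inv_mem (hWc w hw.1 s hs)) hw
    · intro b hb
      rw [← map_conj_eq_self_iff, Subgroup.map_sup, map_conj_eq_self_iff.mpr (hAM hb),
        map_conj_eq_self_iff.mpr (hAC hb)]
    · intro t ht m hm
      rw [sup_comm] at hm
      have hm' : m ∈ ((C : Set G) * (M : Set G)) := by
        rw [← coe_mul_of_left_le_normalizer_right C M hCM]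
        exact hm
      obtain ⟨w, hw, m', hmm, rfl⟩ := Set.mem_mul.mp hm'
      rw [← mul_assoc]
      exact hMT _ (hkey t ht w hw) m' hmm
  exact hWa ((le_sup_right : C ≤ M ⊔ C).trans (hMmax.le_of_ge hMC le_sup_left))

theorem coprime_of_invariant {K L : Subgroup G}
    (hK : ¬ p ∣ Nat.card K) (hL : L ≤ K) : ¬ p ∣ Nat.card L := fun h =>
  hK (h.trans (card_dvd_of_le hL))

theorem inf_sylow_eq {q : ℕ} [Fact q.Prime] {S X : Subgroup G} (hS : IsPGroup q S) {R : Subgroup G}
    (hRX : R ≤ X) (hRS : R ≤ S) (hR : (Nat.card X).factorization q ≤ (Nat.card R).factorization q) :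
    S ⊓ X = R ∧ (Nat.card ↥(S ⊓ X)).factorization q = (Nat.card X).factorization q := by
  have h1 := factorization_mono (inf_le_right : S ⊓ X ≤ X) q
  have h2 := factorization_mono (le_inf hRS hRX) q
  have hSX : IsPGroup q ↥(S ⊓ X) := hS.to_le inf_le_left
  obtain ⟨n, hn⟩ := IsPGroup.iff_card.mp hSX
  obtain ⟨m, hm⟩ := IsPGroup.iff_card.mp (hS.to_le hRS)
  rw [hn, hm, Nat.factorization_pow_self (Fact.out : q.Prime),
    Nat.factorization_pow_self (Fact.out : q.Prime)] at h2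
  rw [hn, Nat.factorization_pow_self (Fact.out : q.Prime)] at h1 ⊢
  rw [hm, Nat.factorization_pow_self (Fact.out : q.Prime)] at hR
  refine ⟨(eq_of_le_of_card_ge (le_inf hRS hRX) ?_).symm, by omega⟩
  rw [hn, hm]
  exact Nat.pow_le_pow_right (Fact.out : q.Prime).pos (by omega)

/-- Coprime factorisation from the centralisers of the non-identity elements of `A`. -/
theorem eq_mul_of_centralizers (hA : IsElementaryAbelian p A) (hA2 : p ^ 2 ≤ Nat.card A)
    {K X Y : Subgroup G} (hK : ¬ p ∣ Nat.card K) (hAK : A ≤ normalizer (K : Set G))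
    (hX : X ≤ K) (hY : Y ≤ K) (hAX : A ≤ normalizer (X : Set G)) (hAY : A ≤ normalizer (Y : Set G))
    (hCX : K ⊓ centralizer (A : Set G) ≤ normalizer (X : Set G))
    (hfac : ∀ a ∈ A, a ≠ 1 → ((K ⊓ centralizer {a} : Subgroup G) : Set G) =
      ((X ⊓ centralizer {a} : Subgroup G) : Set G) * ((Y ⊓ centralizer {a} : Subgroup G) : Set G)) :
    (K : Set G) = (X : Set G) * (Y : Set G) := by
  classical
  have hsub : (X : Set G) * (Y : Set G) ⊆ K := by
    rintro _ ⟨x, hx, y, hy, rfl⟩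
    exact mul_mem (hX hx) (hY hy)
  have hAXY : A ≤ normalizer ((X ⊓ Y : Subgroup G) : Set G) :=
    (le_inf hAX hAY).trans inf_normalizer_le_normalizer_inf
  have hcard := card_mul_set_mul_card_inf X Y
  refine (Set.eq_of_subset_of_ncard_le hsub ?_).symm
  rw [← Nat.card_coe_set_eq, ← Nat.card_coe_set_eq]
  refine Nat.le_of_mul_le_mul_right (c := Nat.card ↥(X ⊓ Y)) ?_ Nat.card_pos
  rw [hcard]
  refine Nat.le_of_dvd (Nat.mul_pos Nat.card_pos Nat.card_pos) ?_
  change Nat.card K * Nat.card ↥(X ⊓ Y) ∣ Nat.card X * Nat.card Y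
  rw [← Nat.factorization_le_iff_dvd (mul_ne_zero Nat.card_pos.ne' Nat.card_pos.ne')
    (mul_ne_zero Nat.card_pos.ne' Nat.card_pos.ne'),
    Nat.factorization_mul Nat.card_pos.ne' Nat.card_pos.ne',
    Nat.factorization_mul Nat.card_pos.ne' Nat.card_pos.ne']
  intro q
  simp only [Finsupp.coe_add, Pi.add_apply]
  by_cases hq : q.Prime
  swap
  · simp [Nat.factorization_eq_zero_of_not_prime _ hq]
  haveI := Fact.mk hq
  have hco : ∀ L : Subgroup G, L ≤ K → (Nat.card A).Coprime (Nat.card L) := fun L hL =>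
    coprime_of_not_dvd hA (coprime_of_invariant hK hL)
  -- an invariant Sylow subgroup of the intersection
  obtain ⟨P, -, hAP⟩ := CfsgLib.Coprime.exists_invariant_sylow_ge (p := q) hAXY
    (hco _ (inf_le_left.trans hX)) (Or.inl (isSolvable_elemAb hA)) (bot_le : (⊥ : Subgroup G) ≤ _) IsPGroup.of_bot
    (fun g _ => le_normalizer_of_normal (H := (⊥ : Subgroup G)) (mem_top g))
  set VP := (P : Subgroup ↥(X ⊓ Y)).map (X ⊓ Y).subtype with hVP
  have hVPle : VP ≤ X ⊓ Y := map_subtype_le _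
  obtain ⟨QY, hQY, hAQY⟩ := CfsgLib.Coprime.exists_invariant_sylow_ge (p := q) hAY
    (hco _ hY) (Or.inl (isSolvable_elemAb hA)) (hVPle.trans inf_le_right) (P.isPGroup'.map _) hAP
  set VY := (QY : Subgroup Y).map Y.subtype with hVY
  have hVYle : VY ≤ Y := map_subtype_le _
  obtain ⟨S, hVYS, hAS⟩ := CfsgLib.Coprime.exists_invariant_sylow_ge (p := q) hAK
    (hco _ le_rfl) (Or.inl (isSolvable_elemAb hA)) (hVYle.trans hY) (QY.isPGroup'.map _) hAQY
  obtain ⟨TX, -, hATX⟩ := CfsgLib.Coprime.exists_invariant_sylow_ge (p := q) hAX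
    (hco _ hX) (Or.inl (isSolvable_elemAb hA)) (bot_le : (⊥ : Subgroup G) ≤ _) IsPGroup.of_bot
    (fun g _ => le_normalizer_of_normal (H := (⊥ : Subgroup G)) (mem_top g))
  set VX := (TX : Subgroup X).map X.subtype with hVX
  obtain ⟨S', hVXS', hAS'⟩ := CfsgLib.Coprime.exists_invariant_sylow_ge (p := q) hAK
    (hco _ le_rfl) (Or.inl (isSolvable_elemAb hA)) ((map_subtype_le _).trans hX : VX ≤ K) (TX.isPGroup'.map _) hATX
  obtain ⟨c, hc, hcS⟩ := CfsgLib.Coprime.invariant_sylow_conj hAK (hco _ le_rfl) (Or.inl (isSolvable_elemAb hA)) S' S hAS' hAS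
  set VS := (S : Subgroup K).map K.subtype with hVS
  have hS : IsPGroup q VS := S.isPGroup'.map _
  have hcX : (c : G) ∈ normalizer (X : Set G) := hCX (mem_inf.mpr ⟨c.2, hc⟩)
  have hR : VX.map (MulAut.conj (c : G)).toMonoidHom ≤ X := by
    rintro _ ⟨v, hv, rfl⟩
    exact (mem_normalizer_iff.mp hcX v).mp (map_subtype_le _ hv)
  have hR' : VX.map (MulAut.conj (c : G)).toMonoidHom ≤ VS := by
    rintro _ ⟨v, hv, rfl⟩
    obtain ⟨s, hs, rfl⟩ := hVXS' hv
    exact ⟨MulAut.conj c s, hcS ▸ ⟨s, hs, rfl⟩, rfl⟩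
  obtain ⟨-, hSX⟩ := inf_sylow_eq hS hR hR'
    (by rw [card_map_conj]; exact (factorization_card_of_sylow TX hVX.symm).1.le)
  obtain ⟨hSYeq, hSY⟩ := inf_sylow_eq hS hVYle hVYS
    (factorization_card_of_sylow QY hVY.symm).1.le
  obtain ⟨-, hSXY⟩ := inf_sylow_eq hS hVPle (hQY.trans hVYS)
    (factorization_card_of_sylow P hVP.symm).1.le
  have hSK : (Nat.card VS).factorization q = (Nat.card K).factorization q :=
    (factorization_card_of_sylow S hVS.symm).1.symm
  have hVSK : VS ≤ K := map_subtype_le _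
  have hcov : (VS : Set G) ⊆ ((VS ⊓ X : Subgroup G) : Set G) * ((VS ⊓ Y : Subgroup G) : Set G) := by
    refine subset_mul_of_pGroup hA hA2 hS (coprime_of_invariant hK hVSK) hAS inf_le_left
      fun a ha ha1 => ?_
    have key : ∀ (L : Subgroup G), L ≤ K → A ≤ normalizer (L : Set G) →
        (Nat.card ↥(VS ⊓ L)).factorization q = (Nat.card L).factorization q →
        (Nat.card ↥(VS ⊓ L ⊓ centralizer {a})).factorization q =
          (Nat.card ↥(L ⊓ centralizer {a})).factorization q := by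
      intro L hL hAL hLq
      obtain ⟨n, hn⟩ := IsPGroup.iff_card.mp (hS.to_le (inf_le_left : VS ⊓ L ≤ VS))
      rw [hn, Nat.factorization_pow_self hq] at hLq
      let SL : Sylow q L := Sylow.ofCard ((VS ⊓ L).subgroupOf L) (by
        rw [Nat.card_congr (subgroupOfEquivOfLe inf_le_right).toEquiv, hn, hLq])
      have hSL : (SL : Subgroup L).map L.subtype = VS ⊓ L := by
        rw [Sylow.coe_ofCard]
        exact map_subgroupOf_eq_of_le inf_le_right
      have h := sylow_inf_centralizer hA hAL (coprime_of_invariant hK hL) SL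
        (by rw [hSL]; exact (le_inf hAS hAL).trans inf_normalizer_le_normalizer_inf) ha
      rwa [hSL] at h
    have hXK := key X hX hAX hSX
    have hYK := key Y hY hAY hSY
    have hXYK := key (X ⊓ Y) (inf_le_left.trans hX) hAXY hSXY
    have hKK := key K le_rfl hAK (by rw [inf_eq_left.mpr hVSK, hSK])
    rw [inf_eq_left.mpr hVSK] at hKK
    set SX := VS ⊓ X ⊓ centralizer ({a} : Set G) with hSXdef
    set SY := VS ⊓ Y ⊓ centralizer ({a} : Set G) with hSYdef
    have hsubC : (SX : Set G) * (SY : Set G) ⊆ ((VS ⊓ centralizer {a} : Subgroup G) : Set G) := by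
      rintro _ ⟨u, hu, v, hv, rfl⟩
      exact mem_inf.mpr ⟨mul_mem hu.1.1 hv.1.1, mul_mem hu.2 hv.2⟩
    have hC1 := card_mul_set_mul_card_inf (X ⊓ centralizer ({a} : Set G)) (Y ⊓ centralizer {a})
    rw [← hfac a ha ha1] at hC1
    have hC2 := card_mul_set_mul_card_inf SX SY
    have hint : SX ⊓ SY = VS ⊓ (X ⊓ Y) ⊓ centralizer {a} := by
      ext x; simp only [hSXdef, hSYdef, mem_inf]; tauto
    have hint' : (X ⊓ centralizer ({a} : Set G)) ⊓ (Y ⊓ centralizer {a}) = X ⊓ Y ⊓ centralizer {a} := by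
      ext x; simp only [mem_inf]; tauto
    rw [hint'] at hC1
    rw [hint] at hC2
    have hC1q := congrArg (fun n => n.factorization q) hC1
    simp only [Nat.factorization_mul Nat.card_pos.ne' Nat.card_pos.ne', Finsupp.coe_add,
      Pi.add_apply, SetLike.coe_sort_coe] at hC1q
    obtain ⟨e1, he1⟩ := IsPGroup.iff_card.mp (hS.to_le (inf_le_left.trans inf_le_left : SX ≤ VS))
    obtain ⟨e2, he2⟩ := IsPGroup.iff_card.mp (hS.to_le (inf_le_left.trans inf_le_left : SY ≤ VS))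
    obtain ⟨e3, he3⟩ := IsPGroup.iff_card.mp
      (hS.to_le (inf_le_left.trans inf_le_left : VS ⊓ (X ⊓ Y) ⊓ centralizer {a} ≤ VS))
    obtain ⟨e4, he4⟩ := IsPGroup.iff_card.mp
      (hS.to_le (inf_le_left : VS ⊓ centralizer ({a} : Set G) ≤ VS))
    rw [he1, Nat.factorization_pow_self hq] at hXK
    rw [he2, Nat.factorization_pow_self hq] at hYK
    rw [he3, Nat.factorization_pow_self hq] at hXYK
    rw [he4, Nat.factorization_pow_self hq] at hKK
    have heq : (SX : Set G) * (SY : Set G) = ((VS ⊓ centralizer {a} : Subgroup G) : Set G) := by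
      refine Set.eq_of_subset_of_ncard_le hsubC ?_
      rw [← Nat.card_coe_set_eq, ← Nat.card_coe_set_eq, SetLike.coe_sort_coe]
      refine Nat.le_of_mul_le_mul_right (c := Nat.card ↥(VS ⊓ (X ⊓ Y) ⊓ centralizer {a})) ?_
        Nat.card_pos
      rw [hC2, he1, he2, he3, he4, ← pow_add, ← pow_add]
      exact Nat.pow_le_pow_right hq.pos (by omega)
    rw [← heq]
    exact Set.mul_subset_mul (inf_le_left : SX ≤ VS ⊓ X) (inf_le_left : SY ≤ VS ⊓ Y)
  have hfinal := card_mul_set_mul_card_inf (VS ⊓ X) (VS ⊓ Y)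
  have hint : VS ⊓ X ⊓ (VS ⊓ Y) = VS ⊓ (X ⊓ Y) := by
    ext x; simp only [mem_inf]; tauto
  rw [hint] at hfinal
  have hle : Nat.card VS ≤ Nat.card ↥(((VS ⊓ X : Subgroup G) : Set G) * ((VS ⊓ Y : Subgroup G) : Set G)) :=
    Nat.card_mono (Set.toFinite _) hcov
  obtain ⟨d1, hd1⟩ := IsPGroup.iff_card.mp (hS.to_le (inf_le_left : VS ⊓ X ≤ VS))
  obtain ⟨d2, hd2⟩ := IsPGroup.iff_card.mp (hS.to_le (inf_le_left : VS ⊓ Y ≤ VS))
  obtain ⟨d3, hd3⟩ := IsPGroup.iff_card.mp (hS.to_le (inf_le_left : VS ⊓ (X ⊓ Y) ≤ VS))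
  obtain ⟨d4, hd4⟩ := IsPGroup.iff_card.mp hS
  rw [hd1, Nat.factorization_pow_self hq] at hSX
  rw [hd2, Nat.factorization_pow_self hq] at hSY
  rw [hd3, Nat.factorization_pow_self hq] at hSXY
  rw [hd4, Nat.factorization_pow_self hq] at hSK
  rw [hd1, hd2, hd3, ← pow_add] at hfinal
  rw [hd4] at hle
  have : q ^ (d4 + d3) ≤ q ^ (d1 + d2) := by
    rw [← hfinal, pow_add]
    exact Nat.mul_le_mul_right _ hle
  have := (Nat.pow_le_pow_iff_right hq.one_lt).mp this
  omega

theorem pPrimePCore_characteristic (q : ℕ) (K : Type*) [Group K] :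
    (pPrimePCore q K).Characteristic := by
  refine characteristic_iff_comap_eq.mpr fun φ => ?_
  have hmap : (pPrimeCore q K).map φ.toMonoidHom = pPrimeCore q K := map_pPrimeCore_mulEquiv φ
  let ψ := QuotientGroup.congr (pPrimeCore q K) (pPrimeCore q K) φ hmap
  have e : (QuotientGroup.mk' (pPrimeCore q K)).comp φ.toMonoidHom =
      ψ.toMonoidHom.comp (QuotientGroup.mk' (pPrimeCore q K)) := MonoidHom.ext fun _ => rfl
  show ((pCore q (K ⧸ pPrimeCore q K)).comap (QuotientGroup.mk' (pPrimeCore q K))).comap φ.toMonoidHom =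
    (pCore q (K ⧸ pPrimeCore q K)).comap (QuotientGroup.mk' (pPrimeCore q K))
  rw [Subgroup.comap_comap, e, ← Subgroup.comap_comap]
  congr 1
  exact characteristic_iff_comap_eq.mp inferInstance ψ

/-- A `q'`-subgroup with `q'` commutators against the centralisers of hyperplanes lies in
`O_{q'}(K)`. -/
theorem le_pPrimeCore_of_hyperplanes (hA : IsElementaryAbelian p A) (hne : A ≠ ⊥) {K : Subgroup G}
    (hK : ¬ p ∣ Nat.card K) (hKs : Group.IsSolvable K) (hAK : A ≤ normalizer (K : Set G)) {q : ℕ}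
    [Fact q.Prime] {U : Subgroup G} (hU : U ≤ K) (hUq : ¬ q ∣ Nat.card U)
    (hcomm : ∀ B : Subgroup G, B ≤ A → B.relIndex A = p →
      ¬ q ∣ Nat.card ↥⁅U, K ⊓ centralizer (B : Set G)⁆) :
    U ≤ (pPrimeCore q K).map K.subtype := by
  set N := pPrimeCore q ↥K with hN
  set M := pPrimePCore q ↥K with hM
  set π := QuotientGroup.mk' N with hπ
  haveI := pPrimePCore_characteristic q ↥K
  have hcq : centralizer (pCore q (↥K ⧸ N) : Set (↥K ⧸ N)) ≤ pCore q (↥K ⧸ N) :=
    CfsgLib.PLocal.isPConstrained_iff.1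
      (CfsgLib.PLocal.isPConstrained_of_isPSolvable CfsgLib.PLocal.isPSolvable_of_isSolvable)
  have hAM : A ≤ normalizer ((M.map K.subtype : Subgroup G) : Set G) :=
    hAK.trans (normalizer_le_normalizer_map_subtype K M)
  have hMK : M.map K.subtype ≤ K := map_subtype_le _
  obtain ⟨Q, -, hAQ⟩ := CfsgLib.Coprime.exists_invariant_sylow_ge (p := q) hAM
    (coprime_of_not_dvd hA (coprime_of_invariant hK hMK)) (Or.inl (isSolvable_elemAb hA))
    (bot_le : (⊥ : Subgroup G) ≤ _) IsPGroup.of_bot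
    (fun g _ => le_normalizer_of_normal (H := (⊥ : Subgroup G)) (mem_top g))
  set Q₀ := (Q : Subgroup ↥(M.map K.subtype)).map (M.map K.subtype).subtype with hQ₀
  have hQK : Q₀ ≤ K := (map_subtype_le _).trans hMK
  -- elements of the quotient centralised by the image of `U`
  set Z := (centralizer (((U.subgroupOf K).map π : Subgroup (↥K ⧸ N)) : Set (↥K ⧸ N))).comap π
    with hZ
  have hkill : ∀ g : ↥K, g ∈ M → ∀ T : Subgroup ↥K, ¬ q ∣ Nat.card T → g ∈ T → π g = 1 := by
    intro g hg T hT hgT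
    have h1 : π g ∈ pCore q (↥K ⧸ N) := hg
    have h2 : π g ∈ T.map π := mem_map_of_mem _ hgT
    have h3 := inf_eq_bot_of_isPGroup_of_coprime (isPGroup_pCore q (↥K ⧸ N))
      (K := T.map π) (((Fact.out : q.Prime).coprime_iff_not_dvd.2 fun h =>
        hT (h.trans (Subgroup.card_map_dvd T π))).symm)
    exact mem_bot.1 (h3 ▸ mem_inf.2 ⟨h1, h2⟩)
  have hQZ : Q₀ ≤ Z.map K.subtype := by
    refine le_of_hyperplanes hA hne hAQ (coprime_of_invariant hK hQK) fun B hB hBi => ?_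
    intro x hx
    have hxK : x ∈ K := hQK hx.1
    refine ⟨⟨x, hxK⟩, ?_, rfl⟩
    refine mem_centralizer_iff.2 ?_
    rintro _ ⟨u, hu, rfl⟩
    rw [← commutatorElement_eq_one_iff_mul_comm, ← map_commutatorElement]
    have hxM : (⟨x, hxK⟩ : ↥K) ∈ M := by
      obtain ⟨z, hz, he⟩ := map_subtype_le _ hx.1
      have : z = ⟨x, hxK⟩ := Subtype.ext he
      exact this ▸ hz
    have hMn : M.Normal := inferInstance
    refine hkill _ ?_ (⁅U, K ⊓ centralizer (B : Set G)⁆.subgroupOf K) ?_ ?_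
    · have e : ⁅u, (⟨x, hxK⟩ : ↥K)⁆ = (u * ⟨x, hxK⟩ * u⁻¹) * (⟨x, hxK⟩ : ↥K)⁻¹ := by group
      rw [e]
      exact mul_mem (hMn.conj_mem _ hxM u) (inv_mem hxM)
    · intro hd
      exact hcomm B hB hBi (hd.trans (by
        rw [Nat.card_congr (subgroupOfEquivOfLe (commutator_le.2 ?_)).toEquiv]
        intro g₁ h₁ g₂ h₂
        rw [commutatorElement_def]
        exact mul_mem (mul_mem (mul_mem (hU h₁) h₂.1) (inv_mem (hU h₁))) (inv_mem h₂.1)))
    · exact mem_subgroupOf.2 (commutator_mem_commutator (mem_subgroupOf.1 hu)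
        (mem_inf.2 ⟨hxK, hx.2⟩))
  -- the image of `M` is covered
  have hMcov : ∀ v ∈ pCore q (↥K ⧸ N), v ∈ centralizer (((U.subgroupOf K).map π : Subgroup (↥K ⧸ N)) : Set (↥K ⧸ N)) := by
    intro v hv
    have hQimg : pCore q (↥K ⧸ N) ≤ (Q₀.subgroupOf K).map π := by
      let e : ↥M ≃* ↥(M.map K.subtype) := M.equivMapOfInjective _ K.subtype_injective
      let Q' : Sylow q ↥M := Q.mapSurjective (f := e.symm.toMonoidHom) e.symm.surjective
      rw [← CfsgLib.PLocal.map_sylow_pPrimePCore Q']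
      refine map_mono ?_
      rintro _ ⟨y, hy, rfl⟩
      obtain ⟨s, hs, rfl⟩ := hy
      refine mem_subgroupOf.2 ⟨s, hs, ?_⟩
      exact congrArg Subtype.val (e.apply_symm_apply s).symm
    obtain ⟨y, hy, rfl⟩ := hQimg hv
    obtain ⟨z, hz, he⟩ := hQZ (mem_subgroupOf.1 hy)
    have : z = y := Subtype.ext he
    exact this ▸ hz
  have hUV : (U.subgroupOf K).map π ≤ pCore q (↥K ⧸ N) :=
    le_trans (le_centralizer_iff.1 hMcov) hcq
  intro u hu
  refine ⟨⟨u, hU hu⟩, ?_, rfl⟩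
  refine (QuotientGroup.eq_one_iff _).1 (hkill ⟨u, hU hu⟩ ?_ (U.subgroupOf K) ?_ hu)
  · exact hUV (mem_map_of_mem _ hu)
  · rwa [Nat.card_congr (subgroupOfEquivOfLe hU).toEquiv]

end CfsgLib.Signalizer
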