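import Cfsg.Agent.Lib.Components.BalanceCriterion
import Cfsg.Agent.Lib.Coprime.Action
import Cfsg.Agent.Lib.Base.Rank
import Cfsg.Prelude.Def_Balance
import Cfsg.Prelude.Def_EvenTechniques

/-!
Locally `k`-balanced components give `Δ(B) = 1` modulo the `p'`-core.
-/

set_option autoImplicit false
set_option linter.style.haveILetI false

namespace CfsgLib.Components

open Subgroup Cfsg CfsgLib.Base
open scoped commutatorElement Pointwise

variable {G : Type*} [Group G] [Finite G] {p : ℕ} [Fact p.Prime] {k : ℕ}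

theorem orderOf_of_mem_elemAb {B : Subgroup G} (hB : IsElementaryAbelian p B) {x : G} (hx : x ∈ B)
    (h1 : x ≠ 1) : orderOf x = p := orderOf_eq_prime (hB.2 x hx) h1

theorem signalizerDelta_le {B : Subgroup G} {x : G} (hx : x ∈ B) (h1 : x ≠ 1) :
    signalizerDelta p B ≤ centralizerPPrimeCore p x :=
  iInf_le (fun a : {a : G // a ∈ B ∧ a ≠ 1} => centralizerPPrimeCore p (a : G)) ⟨x, hx, h1⟩

theorem exists_mem_ne_one {B : Subgroup G} (hk : 1 ≤ k) (hcard : p ^ k ≤ Nat.card B) :
    ∃ x ∈ B, x ≠ 1 := by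
  by_contra h
  push Not at h
  have h1 : Nat.card B = 1 := Subgroup.card_eq_one.2 ((eq_bot_iff_forall _).2 h)
  exact absurd (h1 ▸ hcard) (not_le.2 (Nat.one_lt_pow (by omega) (Fact.out : p.Prime).one_lt))

set_option maxHeartbeats 1000000 in
/-- The group of automorphisms induced on a component by `Δ(B)`, `A` and the component. -/
theorem exists_local_image (hO : pPrimeCore p G = ⊥) (hk : 1 ≤ k) {B A : Subgroup G}
    (hB : IsElementaryAbelian p B) (hcard : Nat.card B = p ^ k) (hBA : B ≤ A)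
    (hA : IsElementaryAbelian p A) {L : Subgroup G} (hL : IsComponent L)
    (hall : ∀ x ∈ B, x ≠ 1 → ⁅L, zpowers x⁆ = L) (hAN : A ≤ normalizer (L : Set G)) :
    ∃ (R : Subgroup (MulAut ↥L)) (Bb : Subgroup ↥R), (MulAut.conj : ↥L →* MulAut ↥L).range ≤ R ∧
      IsElementaryAbelian p Bb ∧ Nat.card Bb = p ^ k ∧
      ∀ y ∈ signalizerDelta p B ⊔ A, ∃ r : ↥R,
        (∀ w : ↥L, (((r : MulAut ↥L) w : ↥L) : G) = y * w * y⁻¹) ∧
        (y ∈ signalizerDelta p B → r ∈ signalizerDelta p Bb) ∧
        (y ∈ A → r ∈ centralizer (Bb : Set ↥R) ∧ r ^ p = 1) := by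
  set D := signalizerDelta p B with hD
  obtain ⟨x₀, hx₀, hx₀1⟩ := exists_mem_ne_one hk hcard.ge
  have hPp : ∀ x ∈ B, x ≠ 1 → IsPGroup p (zpowers x) := fun x hx hx1 =>
    IsPGroup.of_card (n := 1) (by rw [Nat.card_zpowers, orderOf_of_mem_elemAb hB hx hx1, pow_one])
  have hDN : D ≤ normalizer (L : Set G) := fun y hy =>
    mem_normalizer_component_of_pPrimeCore hO (hPp x₀ hx₀ hx₀1) hL
      (centralizerPPrimeCore_le_normalizer_zpowers (p := p) x₀ (signalizerDelta_le hx₀ hx₀1 hy))
  set W := D ⊔ A with hW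
  have hWN : W ≤ normalizer (L : Set G) := sup_le hDN hAN
  set H := W ⊔ L with hH
  have hHN : H ≤ normalizer (L : Set G) := sup_le hWN le_normalizer
  let ι : ↥H →* MulAut ↥L := L.normalizerMonoidHom.comp (inclusion hHN)
  let f : ↥H →* ↥ι.range := ι.rangeRestrict
  have hfs : Function.Surjective f := ι.rangeRestrict_surjective
  have hfker : ∀ h : ↥H, f h = 1 → (h : G) ∈ centralizer (L : Set G) := by
    intro h hh
    refine mem_centralizer_iff.2 fun l hl => ?_
    have h1 := congrArg Subtype.val (DFunLike.congr_fun (congrArg Subtype.val hh) ⟨l, hl⟩)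
    exact (mul_inv_eq_iff_eq_mul.1 (show (h : G) * l * (h : G)⁻¹ = l from h1)).symm
  have key : ∀ x (hxH : x ∈ H), x ∈ B → x ≠ 1 → ∀ d : ↥H, (d : G) ∈ D →
      f d ∈ centralizerPPrimeCore p (f ⟨x, hxH⟩) := by
    intro x hxH hxB hx1 d hd
    have hne := hall x hxB hx1
    have hxN : zpowers x ≤ normalizer (L : Set G) := zpowers_le.2 (hAN (hBA hxB))
    have hYO := centralizerPPrimeCore_le_normalizer_zpowers (p := p) x
    have hDY : D ≤ centralizerPPrimeCore p x := signalizerDelta_le hxB hx1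
    have hWx : W ≤ centralizer ({x} : Set G) := sup_le (hDY.trans (map_subtype_le _))
      fun b hb => mem_centralizer_singleton_iff.mpr
        (congrArg Subtype.val (hA.1.is_comm.comm ⟨b, hb⟩ ⟨x, hBA hxB⟩))
    set xb := f ⟨x, hxH⟩ with hxb_def
    set Z := L ⊓ centralizer (L : Set G) with hZ
    have hZp : IsPGroup p Z := isPGroup_inf_centralizer_of_subnormal hO hL.1
    have hZle : Z ≤ pCore p G := by
      refine le_pCore_of_isSubnormal (IsSubnormal.step _ L inf_le_left hL.1
        (normal_subgroupOf_of_le_normalizer ?_)) hZp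
      exact (le_inf le_normalizer
        (le_normalizer.trans (CfsgLib.PLocal.normalizer_le_centralizer_normalizer L))).trans
          inf_normalizer_le_normalizer_inf
    have hxZ : zpowers x ≤ normalizer (Z : Set G) :=
      (le_inf hxN (hxN.trans (CfsgLib.PLocal.normalizer_le_centralizer_normalizer L))).trans
        inf_normalizer_le_normalizer_inf
    set P' := Z ⊔ zpowers x with hP'
    set O' := (pPrimeCore p ↥(normalizer (P' : Set G))).map (normalizer (P' : Set G)).subtype ⊓ H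
      with hO'
    have hDO' : D ≤ O' := fun y hy => by
      refine ⟨inf_le_pPrimeCore_normalizer le_sup_right (hYO (hDY hy)) ?_,
        mem_sup_left (mem_sup_left hy)⟩
      have hyR := map_pPrimeCore_normalizer_le_centralizer_pCore (hPp x hxB hx1) (hYO (hDY hy))
      have h : P' ≤ centralizer ({y} : Set G) := sup_le
        (fun z hz => mem_centralizer_singleton_iff.mpr (mem_centralizer_iff.mp hyR z (hZle hz)))
        (zpowers_le.mpr (mem_centralizer_singleton_iff.mpr
          (mem_centralizer_singleton_iff.mp (hWx (mem_sup_left hy))).symm))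
      exact mem_centralizer_iff.mpr fun u hu => mem_centralizer_singleton_iff.mp (h hu)
    have hO'x : ∀ g ∈ O', g * x = x * g := fun g hg =>
      ((mem_centralizer_iff.mp (map_pPrimeCore_normalizer_le_centralizer
        (hZp.to_sup_of_normal_left' (hPp x hxB hx1) hxZ) hg.1)) x (mem_sup_right (mem_zpowers x))).symm
    have hpre : ∀ h : ↥H, f h * xb = xb * f h → (h : G) ∈ normalizer (O' : Set G) := by
      intro h hh
      have hd : ⁅(h : G), x⁆ ∈ centralizer (L : Set G) := by
        have h1 : f ⁅h, (⟨x, hxH⟩ : H)⁆ = 1 := by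
          rw [map_commutatorElement, commutatorElement_eq_one_iff_mul_comm]
          exact hh
        exact hfker _ h1
      have hh' : (h : G) ∈ ((L : Set G) * (W : Set G)) := by
        rw [← coe_mul_of_right_le_normalizer_left L W hWN, sup_comm]
        exact h.2
      obtain ⟨l, hl, w, hw, hlw⟩ := Set.mem_mul.mp hh'
      have hwx : w * x = x * w := mem_centralizer_singleton_iff.mp (hWx hw)
      have e : ⁅(h : G), x⁆ = ⁅l, x⁆ := by
        rw [← hlw]
        calc ⁅l * w, x⁆ = l * (w * x) * w⁻¹ * l⁻¹ * x⁻¹ := by group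
          _ = _ := by rw [hwx]; group
      have hlx : ⁅l, x⁆ ∈ Z := mem_inf.mpr
        ⟨hne.le (commutator_mem_commutator hl (mem_zpowers x)), e ▸ hd⟩
      have hlP : l ∈ normalizer (P' : Set G) := by
        refine map_conj_eq_self_iff.mp (eq_of_le_of_card_ge ?_ (card_map_conj l P').ge)
        rw [hP', Subgroup.map_sup, sup_le_iff]
        constructor
        · rintro _ ⟨z, hz, rfl⟩
          refine mem_sup_left ?_
          show l * z * l⁻¹ ∈ Z
          rw [mem_centralizer_iff.mp hz.2 l hl, mul_inv_cancel_right]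
          exact hz
        · rw [map_le_iff_le_comap]
          refine zpowers_le.mpr ?_
          show l * x * l⁻¹ ∈ Z ⊔ zpowers x
          have e' : l * x * l⁻¹ = ⁅l, x⁆ * x := by group
          rw [e']
          exact mul_mem_sup hlx (mem_zpowers x)
      have hwP : w ∈ normalizer (P' : Set G) := by
        have hwZ : w ∈ normalizer (Z : Set G) := inf_normalizer_le_normalizer_inf
          ⟨hWN hw, CfsgLib.PLocal.normalizer_le_centralizer_normalizer L (hWN hw)⟩
        refine map_conj_eq_self_iff.mp ?_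
        rw [hP', Subgroup.map_sup, map_conj_eq_self_iff.mpr hwZ, MonoidHom.map_zpowers]
        congr 2
        show w * x * w⁻¹ = x
        rw [hwx, mul_inv_cancel_right]
      have hhP : (h : G) ∈ normalizer (P' : Set G) := hlw ▸ mul_mem hlP hwP
      exact inf_normalizer_le_normalizer_inf ⟨le_normalizer_map_pPrimeCore _ hhP, le_normalizer h.2⟩
    set Ob := (O'.subgroupOf H).map f with hOb
    have hObC : Ob ≤ centralizer ({xb} : Set ↥ι.range) := by
      rintro _ ⟨g, hg, rfl⟩
      rw [mem_centralizer_singleton_iff, hxb_def, ← map_mul, ← map_mul]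
      exact congrArg f (Subtype.ext (hO'x g hg))
    have hCN : centralizer ({xb} : Set ↥ι.range) ≤ normalizer (Ob : Set ↥ι.range) := by
      intro q hq
      obtain ⟨h, rfl⟩ := hfs q
      refine le_normalizer_map f ⟨h, le_normalizer_comap H.subtype ?_, rfl⟩
      exact hpre h (mem_centralizer_singleton_iff.mp hq)
    have hObp : (Nat.card Ob).Coprime p :=
      ((coprime_card_map_pPrimeCore (normalizer (P' : Set G))).coprime_dvd_left
        (card_dvd_of_le inf_le_left)).coprime_dvd_left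
          ((CfsgLib.Base.card_map_dvd _ _).trans (by rw [card_subgroupOf inf_le_right]))
    exact le_map_pPrimeCore hObC hCN hObp ⟨d, hDO' hd, rfl⟩
  have hinn : (MulAut.conj : ↥L →* MulAut ↥L).range ≤ ι.range := by
    rintro _ ⟨l, rfl⟩
    refine ⟨⟨l, mem_sup_right l.2⟩, MulEquiv.ext fun w => Subtype.ext ?_⟩
    rfl
  set Bb := (B.subgroupOf H).map f with hBb
  have hBH : B ≤ H := hBA.trans (le_sup_of_le_left le_sup_right)
  have hBbe : IsElementaryAbelian p Bb :=
    isElementaryAbelian_map f (isElementaryAbelian_subgroupOf hB H)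
  have hinj : ∀ b : ↥H, (b : G) ∈ B → f b = 1 → b = 1 := by
    intro b hb h1
    by_contra hb1
    have hb1' : (b : G) ≠ 1 := fun e => hb1 (Subtype.ext e)
    apply component_ne_bot hL
    rw [← hall b hb hb1', commutator_eq_bot_iff_le_centralizer]
    exact le_centralizer_iff.mp (zpowers_le.mpr (hfker b h1))
  have hBbc : Nat.card Bb = p ^ k := by
    rw [← hcard, ← Nat.card_congr (subgroupOfEquivOfLe hBH).toEquiv, eq_comm]
    refine Nat.card_congr (Equiv.ofBijective (f.subgroupMap (B.subgroupOf H))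
      ⟨fun a b hab => ?_, f.subgroupMap_surjective _⟩)
    have h1 : f (a : ↥H) = f b := congrArg Subtype.val hab
    have h2 := hinj ((a : ↥H)⁻¹ * b) (mul_mem (inv_mem a.2) b.2)
      (by rw [map_mul, map_inv, h1, inv_mul_cancel])
    exact Subtype.ext (inv_mul_eq_one.1 h2)
  refine ⟨ι.range, Bb, hinn, hBbe, hBbc, fun y hy => ?_⟩
  have hyH : y ∈ H := mem_sup_left hy
  refine ⟨f ⟨y, hyH⟩, fun w => rfl, fun hyD => ?_, fun hyA => ?_⟩
  · rw [signalizerDelta, mem_iInf]
    rintro ⟨_, ⟨⟨x, hxH⟩, hxB, rfl⟩, hx1⟩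
    exact key x hxH hxB (fun e => hx1 (by
      rw [show (⟨x, hxH⟩ : ↥H) = 1 from Subtype.ext e, map_one])) ⟨y, hyH⟩ hyD
  · refine ⟨mem_centralizer_iff.2 ?_, ?_⟩
    · rintro _ ⟨b, hb, rfl⟩
      rw [← map_mul, ← map_mul]
      refine congrArg f (Subtype.ext ?_)
      exact congrArg (fun z : ↥A => (z : G)) (hA.1.is_comm.comm ⟨b, hBA hb⟩ ⟨y, hyA⟩)
    · rw [← map_pow, show (⟨y, hyH⟩ : ↥H) ^ p = 1 from Subtype.ext (by simpa using hA.2 y hyA), map_one]

/-- An element of `B` not satisfying `[L, x] = L` makes `Δ(B)` centralise `L`. -/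
theorem delta_le_centralizer_of_ne (hO : pPrimeCore p G = ⊥) {B : Subgroup G}
    (hB : IsElementaryAbelian p B) {L : Subgroup G} (hL : IsComponent L)
    {x : G} (hx : x ∈ B) (hx1 : x ≠ 1) (hne : ⁅L, zpowers x⁆ ≠ L) :
    signalizerDelta p B ≤ centralizer (L : Set G) :=
  (signalizerDelta_le hx hx1).trans (le_centralizer_iff.mp
    (commutator_eq_bot_iff_le_centralizer.mp (component_commutator_centralizerPPrimeCore hO
      (orderOf_of_mem_elemAb hB hx hx1) hL hne)))

theorem le_normalizer_of_hall {B L : Subgroup G} (hall : ∀ x ∈ B, x ≠ 1 → ⁅L, zpowers x⁆ = L) :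
    B ≤ normalizer (L : Set G) := by
    intro x hx
    rcases eq_or_ne x 1 with rfl | hx1
    · exact one_mem _
    have hne := hall x hx hx1
    have hle : ∀ l ∈ L, ∀ g ∈ zpowers x, g * l * g⁻¹ ∈ L := fun l hl g hg => by
      have h1 : ⁅l, g⁆ ∈ L := hne.le (commutator_mem_commutator hl hg)
      have e : g * l * g⁻¹ = ⁅l, g⁆⁻¹ * l := by group
      rw [e]
      exact mul_mem (inv_mem h1) hl
    exact mem_normalizer_iff.mpr fun l => ⟨fun hl => hle l hl x (mem_zpowers x), fun hl => by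
      simpa [mul_assoc] using hle _ hl x⁻¹ (inv_mem (mem_zpowers x))⟩

/-- `Δ(B)` centralises a locally `k`-balanced component. -/
theorem delta_le_centralizer_component (hO : pPrimeCore p G = ⊥) (hk : 1 ≤ k) {B : Subgroup G}
    (hB : IsElementaryAbelian p B) (hcard : Nat.card B = p ^ k) {L : Subgroup G} (hL : IsComponent L)
    (hloc : IsLocallyKBalanced p k ↥L) : signalizerDelta p B ≤ centralizer (L : Set G) := by
  by_cases hall : ∃ x ∈ B, x ≠ 1 ∧ ⁅L, zpowers x⁆ ≠ L
  · obtain ⟨x, hx, hx1, hne⟩ := hall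
    exact delta_le_centralizer_of_ne hO hB hL hx hx1 hne
  push Not at hall
  obtain ⟨R, Bb, hinn, hBbe, hBbc, hr⟩ :=
    exists_local_image hO hk hB hcard le_rfl hB hL hall (le_normalizer_of_hall hall)
  intro y hy
  obtain ⟨r, hact, hD, -⟩ := hr y (mem_sup_left hy)
  have h1 : r = 1 := mem_bot.1 (hloc R hinn Bb hBbe hBbc ▸ hD hy)
  refine mem_centralizer_iff.2 fun w hw => ?_
  have h := hact ⟨w, hw⟩
  rw [h1] at h
  exact (mul_inv_eq_iff_eq_mul.1 h.symm).symm

/-- `[Δ(B), A]` centralises a weakly locally `k`-balanced component normalised by `A`. -/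
theorem commutator_delta_le_centralizer_component (hO : pPrimeCore p G = ⊥) (hk : 1 ≤ k)
    {B A : Subgroup G} (hB : IsElementaryAbelian p B) (hcard : Nat.card B = p ^ k) (hBA : B ≤ A)
    (hA : IsElementaryAbelian p A) {L : Subgroup G} (hL : IsComponent L)
    (hAN : A ≤ normalizer (L : Set G)) (hloc : IsWeaklyLocallyKBalanced p k ↥L) :
    ⁅signalizerDelta p B, A⁆ ≤ centralizer (L : Set G) := by
  rw [commutator_le]
  intro d hd a ha
  by_cases hall : ∃ x ∈ B, x ≠ 1 ∧ ⁅L, zpowers x⁆ ≠ L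
  · obtain ⟨x, hx, hx1, hne⟩ := hall
    have h := delta_le_centralizer_of_ne hO hB hL hx hx1 hne hd
    rw [show ⁅d, a⁆ = d * (a * d⁻¹ * a⁻¹) by group]
    exact mul_mem h ((mem_normalizer_iff.1
      (CfsgLib.PLocal.normalizer_le_centralizer_normalizer L (hAN ha)) _).1 (inv_mem h))
  push Not at hall
  obtain ⟨R, Bb, hinn, hBbe, hBbc, hr⟩ := exists_local_image hO hk hB hcard hBA hA hL hall hAN
  obtain ⟨rd, hdact, hdD, -⟩ := hr d (mem_sup_left hd)
  obtain ⟨ra, haact, -, haA⟩ := hr a (mem_sup_right ha)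
  have hc : rd * ra = ra * rd := by
    rcases eq_or_ne ra 1 with h | h
    · rw [h, one_mul, mul_one]
    · exact mem_centralizer_singleton_iff.1
        (hloc R hinn Bb hBbe hBbc ra (orderOf_eq_prime (haA ha).2 h) (haA ha).1 (hdD hd))
  have key : ∀ v ∈ L, a * (d * v * d⁻¹) * a⁻¹ = d * (a * v * a⁻¹) * d⁻¹ := by
    intro v hv
    have h := congrArg (fun r : ↥R => ((((r : MulAut ↥L)) ⟨v, hv⟩ : ↥L) : G)) hc
    change (((rd : MulAut ↥L) ((ra : MulAut ↥L) ⟨v, hv⟩) : ↥L) : G) =
      (((ra : MulAut ↥L) ((rd : MulAut ↥L) ⟨v, hv⟩) : ↥L) : G) at h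
    rw [hdact, haact, haact, hdact] at h
    exact h.symm
  refine mem_centralizer_iff.2 fun w hw => ?_
  have hdN : d ∈ normalizer (L : Set G) := by
    refine mem_normalizer_iff_map_conj_eq.2 (eq_of_le_of_card_ge ?_
      (Subgroup.card_map_of_injective (MulAut.conj d).injective).ge)
    rintro _ ⟨l, hl, rfl⟩
    show d * l * d⁻¹ ∈ L
    rw [← hdact ⟨l, hl⟩]
    exact SetLike.coe_mem _
  have haN : a ∈ normalizer (L : Set G) := hAN ha
  set v := d⁻¹ * (a⁻¹ * w * a) * d with hv
  have hvL : v ∈ L := by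
    have h1 : a⁻¹ * w * a ∈ L := by
      simpa using (mem_normalizer_iff.1 (inv_mem haN) w).1 hw
    simpa [hv] using (mem_normalizer_iff.1 (inv_mem hdN) _).1 h1
  have h := key v hvL
  have e1 : a * (d * v * d⁻¹) * a⁻¹ = w := by rw [hv]; group
  rw [e1] at h
  -- `w` is fixed by the commutator
  have e2 : d * (a * v * a⁻¹) * d⁻¹ = ⁅d, a⁆ * w * ⁅d, a⁆⁻¹ := by rw [hv]; group
  rw [e2] at h
  exact mul_inv_eq_iff_eq_mul.1 h.symm |>.symm

/-- If all components are locally `k`-balanced then `Δ(B) = 1`. -/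
theorem delta_eq_bot (hO : pPrimeCore p G = ⊥) (hk : 1 ≤ k) {B : Subgroup G}
    (hB : IsElementaryAbelian p B) (hcard : p ^ k ≤ Nat.card B)
    (hloc : ∀ L : Subgroup G, IsComponent L → IsLocallyKBalanced p k ↥L) :
    signalizerDelta p B = ⊥ := by
  obtain ⟨B₀, hc₀⟩ := Sylow.exists_subgroup_card_pow_prime_of_le_card (Fact.out : p.Prime)
    (isPGroup_of_isElementaryAbelian hB) hcard
  obtain ⟨B', hle, hc'⟩ : ∃ B' ≤ B, Nat.card B' = p ^ k :=
    ⟨B₀.map B.subtype, map_subtype_le _, by rw [Subgroup.card_map_of_injective B.subtype_injective, hc₀]⟩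
  have hB' : IsElementaryAbelian p B' := isElementaryAbelian_le hle hB
  obtain ⟨x, hx, hx1⟩ := exists_mem_ne_one hk hc'.ge
  have hmono : signalizerDelta p B ≤ signalizerDelta p B' :=
    le_iInf fun a => signalizerDelta_le (hle a.2.1) a.2.2
  rw [eq_bot_iff]
  refine hmono.trans ?_
  set D := signalizerDelta p B'
  have hDY : D ≤ centralizerPPrimeCore p x := signalizerDelta_le hx hx1
  have hPp : IsPGroup p (zpowers x) :=
    IsPGroup.of_card (n := 1) (by rw [Nat.card_zpowers, orderOf_of_mem_elemAb hB' hx hx1, pow_one])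
  have hYR := hDY.trans ((centralizerPPrimeCore_le_normalizer_zpowers (p := p) x).trans
    (map_pPrimeCore_normalizer_le_centralizer_pCore hPp))
  have hYE : D ≤ centralizer (layer G : Set G) := by
    rw [le_centralizer_iff]
    exact layer_le_iff.mpr fun L hL => le_centralizer_iff.mp
      (delta_le_centralizer_component hO hk hB' hc' hL (hloc L hL))
  have hYF : D ≤ fittingSubgroup G := by
    refine le_trans ?_ centralizer_fstar_le_fitting
    rw [le_centralizer_iff]
    refine sup_le (le_centralizer_iff.mp hYE) ?_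
    rw [fitting_eq_pCore_of_pPrimeCore_eq_bot hO]
    exact le_centralizer_iff.mp hYR
  rw [fitting_eq_pCore_of_pPrimeCore_eq_bot hO] at hYF
  rw [← inf_of_le_right hYF]
  exact (inf_eq_bot_of_isPGroup_of_coprime (isPGroup_pCore p G)
    ((coprime_card_map_pPrimeCore _).coprime_dvd_left (card_dvd_of_le hDY))).le

/-- In a quotient by a `p'`-group, the centraliser of a `p`-element is the image of the centraliser. -/
theorem exists_centralizer_lift {N : Subgroup G} [N.Normal] (hN : (Nat.card N).Coprime p) {b : G}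
    (hb : b ^ p = 1) {g : G} (hg : Commute (QuotientGroup.mk' N g) (QuotientGroup.mk' N b)) :
    ∃ c : G, c * b = b * c ∧ QuotientGroup.mk' N c = QuotientGroup.mk' N g := by
  obtain ⟨c, hc, hcN⟩ := CfsgLib.Coprime.exists_centralizing_in_coset (A := zpowers b) (N := N)
    (fun a _ => le_normalizer_of_normal (mem_top a))
    (by rw [Nat.card_zpowers]; exact (hN.symm).coprime_dvd_left (orderOf_dvd_of_pow_eq_one hb))
    (Or.inl (Group.isSolvable_of_comm fun a b => mul_comm' a b)) (k := g) fun a ha => by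
      obtain ⟨i, rfl⟩ := mem_zpowers_iff.1 ha
      rw [← QuotientGroup.eq_one_iff]
      show QuotientGroup.mk' N (g⁻¹ * (b ^ i * g * (b ^ i)⁻¹)) = 1
      rw [map_mul, map_mul, map_mul, map_inv, map_inv, map_zpow, ← (hg.zpow_right i).eq]
      group
  exact ⟨c, (mem_centralizer_iff.1 hc b (mem_zpowers b)).symm, ((QuotientGroup.eq).2 hcN).symm⟩

theorem isKBalanced_of_local (hk : 1 ≤ k) {A : Subgroup G} (hA : IsElementaryAbelian p A)
    (hloc : ∀ a : G, a ∈ A → a ≠ 1 →
      ∀ K : Subgroup (↥(centralizer ({a} : Set G)) ⧸ pPrimeCore p ↥(centralizer ({a} : Set G))),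
        IsComponent K → IsLocallyKBalanced p k ↥K)
    {B : Subgroup G} (hBA : B ≤ A) (hB : IsElementaryAbelian p B) (hcard : p ^ k ≤ Nat.card B)
    {a : G} (ha : a ∈ A) (ha1 : a ≠ 1) :
    signalizerDelta p B ⊓ centralizer {a} ≤ centralizerPPrimeCore p a := by
  set C := centralizer ({a} : Set G) with hC
  set φ := QuotientGroup.mk' (pPrimeCore p ↥C) with hφ
  have hBC : B ≤ C := fun b hb => mem_centralizer_singleton_iff.2
    (congrArg Subtype.val (hA.1.is_comm.comm ⟨b, hBA hb⟩ ⟨a, ha⟩))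
  set Bb := (B.subgroupOf C).map φ with hBb
  have hinj : ∀ b : ↥C, (b : G) ∈ B → φ b = 1 → b = 1 := fun b hb h1 => by
    have h2 : orderOf b ∣ p := orderOf_dvd_of_pow_eq_one
      (Subtype.ext (by simpa using hB.2 b hb))
    have h3 : orderOf b ∣ Nat.card ↥(pPrimeCore p ↥C) := by
      rw [show orderOf b = orderOf (⟨b, (QuotientGroup.eq_one_iff b).1 h1⟩ : ↥(pPrimeCore p ↥C)) from
        Subgroup.orderOf_coe ⟨b, _⟩]
      exact orderOf_dvd_natCard _
    exact orderOf_eq_one_iff.1 (Nat.eq_one_of_dvd_coprimes (pPrimeCore_coprime p ↥C).symm h2 h3)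
  have hBbc : Nat.card Bb = Nat.card B := by
    rw [← Nat.card_congr (subgroupOfEquivOfLe hBC).toEquiv, eq_comm]
    refine Nat.card_congr (Equiv.ofBijective (φ.subgroupMap (B.subgroupOf C))
      ⟨fun u v huv => ?_, φ.subgroupMap_surjective _⟩)
    have h1 : φ (u : ↥C) = φ v := congrArg Subtype.val huv
    have h2 := hinj ((u : ↥C)⁻¹ * v) (mul_mem (inv_mem u.2) v.2)
      (by rw [map_mul, map_inv, h1, inv_mul_cancel])
    exact Subtype.ext (inv_mul_eq_one.1 h2)
  have hbot := delta_eq_bot (pPrimeCore_quotient_pPrimeCore p ↥C) hk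
    (isElementaryAbelian_map φ (isElementaryAbelian_subgroupOf hB C))
    (hBbc ▸ hcard) (hloc a ha ha1)
  rintro d ⟨hd, hdC⟩
  refine ⟨⟨d, hdC⟩, (QuotientGroup.eq_one_iff _).1 (mem_bot.1 (hbot ▸ ?_)), rfl⟩
  rw [signalizerDelta, mem_iInf]
  rintro ⟨_, ⟨b, hb, rfl⟩, hb1⟩
  have hb1' : (b : G) ≠ 1 := fun e => hb1 (by rw [show b = 1 from Subtype.ext e, map_one])
  set Y := (centralizerPPrimeCore p (b : G)).subgroupOf C with hY
  have hYC : Y.map φ ≤ centralizer ({φ b} : Set _) := by
    rintro _ ⟨y, hy, rfl⟩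
    rw [mem_centralizer_singleton_iff, ← map_mul, ← map_mul]
    exact congrArg φ (Subtype.ext (mem_centralizer_singleton_iff.1 (map_subtype_le _ hy)))
  have hYN : centralizer ({φ b} : Set _) ≤ normalizer (Y.map φ : Set _) := by
    intro q hq
    obtain ⟨g, rfl⟩ := QuotientGroup.mk'_surjective _ q
    obtain ⟨c, hc, hcg⟩ := exists_centralizer_lift (pPrimeCore_coprime p ↥C)
      (Subtype.ext (by simpa using hB.2 b hb) : b ^ p = 1) (mem_centralizer_singleton_iff.1 hq)
    rw [← hcg]
    refine le_normalizer_map φ ⟨c, le_normalizer_comap C.subtype ?_, rfl⟩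
    exact le_normalizer_map_pPrimeCore _ (mem_centralizer_singleton_iff.2 (congrArg Subtype.val hc))
  have hYp : (Nat.card (Y.map φ)).Coprime p :=
    (coprime_card_map_pPrimeCore (centralizer ({(b : G)} : Set G))).coprime_dvd_left
      ((CfsgLib.Base.card_map_dvd _ _).trans
        (by
          rw [hY, ← inf_subgroupOf_right, card_subgroupOf inf_le_right]
          exact card_dvd_of_le inf_le_left))
  refine le_map_pPrimeCore hYC hYN hYp ⟨⟨d, hdC⟩, ?_, rfl⟩
  exact signalizerDelta_le (show (b : G) ∈ B from hb) hb1' hd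

theorem map_elemAb_card {N : Subgroup G} [N.Normal] (hN : (Nat.card N).Coprime p) {B : Subgroup G}
    (hB : IsPGroup p B) : Nat.card (B.map (QuotientGroup.mk' N)) = Nat.card B := by
  refine (Nat.card_congr (Equiv.ofBijective ((QuotientGroup.mk' N).subgroupMap B)
    ⟨fun u v huv => ?_, (QuotientGroup.mk' N).subgroupMap_surjective _⟩)).symm
  have h1 : QuotientGroup.mk' N (u : G) = QuotientGroup.mk' N v := congrArg Subtype.val huv
  have h2 : ((u⁻¹ * v : ↥B) : G) ∈ N := by
    rw [Subgroup.coe_mul, Subgroup.coe_inv]; exact (QuotientGroup.eq).1 h1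
  obtain ⟨j, hj⟩ := hB (u⁻¹ * v)
  have h3 : orderOf ((u⁻¹ * v : ↥B) : G) ∣ Nat.card N := by
    rw [show orderOf ((u⁻¹ * v : ↥B) : G) = orderOf (⟨_, h2⟩ : N) from Subgroup.orderOf_coe ⟨_, h2⟩]
    exact orderOf_dvd_natCard _
  rw [Subgroup.orderOf_coe] at h3
  exact inv_mul_eq_one.1 (orderOf_eq_one_iff.1 (Nat.eq_one_of_dvd_coprimes
    ((hN.symm).pow_left j) (orderOf_dvd_of_pow_eq_one hj) h3))

/-- The image of `Δ_G(B) ∩ C_G(a)` lies in `Δ(B̄)`. -/
theorem delta_image {B : Subgroup G} (hB : IsElementaryAbelian p B) {a : G}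
    (hBC : B ≤ centralizer ({a} : Set G)) (d : ↥(centralizer ({a} : Set G)))
    (hd : (d : G) ∈ signalizerDelta p B) :
    QuotientGroup.mk' (pPrimeCore p ↥(centralizer ({a} : Set G))) d ∈
      signalizerDelta p ((B.subgroupOf (centralizer ({a} : Set G))).map
        (QuotientGroup.mk' (pPrimeCore p ↥(centralizer ({a} : Set G))))) := by
  obtain ⟨d, hdC⟩ := d
  set C := centralizer ({a} : Set G) with hC
  set φ := QuotientGroup.mk' (pPrimeCore p ↥C) with hφ
  rw [signalizerDelta, mem_iInf]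
  rintro ⟨_, ⟨b, hb, rfl⟩, hb1⟩
  have hb1' : (b : G) ≠ 1 := fun e => hb1 (by rw [show b = 1 from Subtype.ext e, map_one])
  set Y := (centralizerPPrimeCore p (b : G)).subgroupOf C with hY
  have hYC : Y.map φ ≤ centralizer ({φ b} : Set _) := by
    rintro _ ⟨y, hy, rfl⟩
    rw [mem_centralizer_singleton_iff, ← map_mul, ← map_mul]
    exact congrArg φ (Subtype.ext (mem_centralizer_singleton_iff.1 (map_subtype_le _ hy)))
  have hYN : centralizer ({φ b} : Set _) ≤ normalizer (Y.map φ : Set _) := by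
    intro q hq
    obtain ⟨g, rfl⟩ := QuotientGroup.mk'_surjective _ q
    obtain ⟨c, hc, hcg⟩ := exists_centralizer_lift (pPrimeCore_coprime p ↥C)
      (Subtype.ext (by simpa using hB.2 b hb) : b ^ p = 1) (mem_centralizer_singleton_iff.1 hq)
    rw [← hcg]
    refine le_normalizer_map φ ⟨c, le_normalizer_comap C.subtype ?_, rfl⟩
    exact le_normalizer_map_pPrimeCore _ (mem_centralizer_singleton_iff.2 (congrArg Subtype.val hc))
  have hYp : (Nat.card (Y.map φ)).Coprime p :=
    (coprime_card_map_pPrimeCore (centralizer ({(b : G)} : Set G))).coprime_dvd_left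
      ((CfsgLib.Base.card_map_dvd _ _).trans
        (by
          rw [hY, ← inf_subgroupOf_right, card_subgroupOf inf_le_right]
          exact card_dvd_of_le inf_le_left))
  refine le_map_pPrimeCore hYC hYN hYp ⟨⟨d, hdC⟩, ?_, rfl⟩
  exact signalizerDelta_le (show (b : G) ∈ B from hb) hb1' hd

/-- Weak `k`-balance from weakly locally balanced components. -/
theorem isWeaklyKBalanced_of_local (hk : 1 ≤ k) {A : Subgroup G} (hA : IsElementaryAbelian p A)
    (hloc : ∀ a : G, a ∈ A → a ≠ 1 →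
      ∀ K : Subgroup (↥(centralizer ({a} : Set G)) ⧸ pPrimeCore p ↥(centralizer ({a} : Set G))),
        IsComponent K → IsWeaklyLocallyKBalanced p k ↥K)
    (hinv : ∀ a : G, a ∈ A → a ≠ 1 →
      ∀ K : Subgroup (↥(centralizer ({a} : Set G)) ⧸ pPrimeCore p ↥(centralizer ({a} : Set G))),
        IsComponent K → ∀ b : ↥(centralizer ({a} : Set G)), (b : G) ∈ A →
          ∀ x ∈ K, (QuotientGroup.mk b) * x * (QuotientGroup.mk b)⁻¹ ∈ K)
    {B : Subgroup G} (hBA : B ≤ A) (hB : IsElementaryAbelian p B) (hcard : p ^ k ≤ Nat.card B)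
    {a : G} (ha : a ∈ A) (ha1 : a ≠ 1) :
    ⁅signalizerDelta p B ⊓ centralizer {a}, A⁆ ≤ centralizerPPrimeCore p a := by
  obtain ⟨B₀, hc₀⟩ := Sylow.exists_subgroup_card_pow_prime_of_le_card (Fact.out : p.Prime)
    (isPGroup_of_isElementaryAbelian hB) hcard
  obtain ⟨B', hle, hc'⟩ : ∃ B' ≤ B, Nat.card B' = p ^ k :=
    ⟨B₀.map B.subtype, map_subtype_le _, by rw [Subgroup.card_map_of_injective B.subtype_injective, hc₀]⟩
  have hB' : IsElementaryAbelian p B' := isElementaryAbelian_le hle hB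
  have hmono : signalizerDelta p B ≤ signalizerDelta p B' :=
    le_iInf fun x => signalizerDelta_le (hle x.2.1) x.2.2
  set C := centralizer ({a} : Set G) with hC
  set φ := QuotientGroup.mk' (pPrimeCore p ↥C) with hφ
  have hAC : A ≤ C := fun b hb => mem_centralizer_singleton_iff.2
    (congrArg Subtype.val (hA.1.is_comm.comm ⟨b, hb⟩ ⟨a, ha⟩))
  set Ab := (A.subgroupOf C).map φ with hAb
  set Bb := (B'.subgroupOf C).map φ with hBb
  have hAbe : IsElementaryAbelian p Ab := isElementaryAbelian_map φ (isElementaryAbelian_subgroupOf hA C)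
  have hBbA : Bb ≤ Ab := map_mono fun x hx => hBA (hle hx)
  have hBbe : IsElementaryAbelian p Bb := isElementaryAbelian_le hBbA hAbe
  have hBbc : Nat.card Bb = p ^ k := by
    rw [hBb, map_elemAb_card (pPrimeCore_coprime p ↥C)
      (isPGroup_of_isElementaryAbelian (isElementaryAbelian_subgroupOf hB' C)),
      Nat.card_congr (subgroupOfEquivOfLe ((hle.trans hBA).trans hAC)).toEquiv, hc']
  have hO := pPrimeCore_quotient_pPrimeCore p ↥C
  set Db := signalizerDelta p Bb with hDb
  obtain ⟨x, hx, hx1⟩ := exists_mem_ne_one hk hBbc.ge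
  have hDY : Db ≤ centralizerPPrimeCore p x := signalizerDelta_le hx hx1
  -- `A` normalises `Δ(B̄)`
  have hDn : ∀ g ∈ Ab, ∀ y ∈ Db, g * y * g⁻¹ ∈ Db := by
    intro g hg y hy
    rw [hDb, signalizerDelta, mem_iInf] at hy ⊢
    intro i
    refine (mem_normalizer_iff.1 (le_normalizer_map_pPrimeCore _ ?_) y).1 (hy i)
    exact mem_centralizer_singleton_iff.2
      (congrArg Subtype.val (hAbe.1.is_comm.comm ⟨g, hg⟩ ⟨i.1, hBbA i.2.1⟩))
  have hone : ⁅Db, Ab⁆ = ⊥ := by
    have hle1 : ⁅Db, Ab⁆ ≤ Db := by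
      rw [commutator_le]
      intro y hy g hg
      rw [show ⁅y, g⁆ = y * (g * y⁻¹ * g⁻¹) by group]
      exact mul_mem hy (hDn g hg _ (inv_mem hy))
    have hYR : Db ≤ centralizer (pCore p (↥C ⧸ pPrimeCore p ↥C) : Set _) := by
      have hPp : IsPGroup p (zpowers x) := IsPGroup.of_card (n := 1)
        (by rw [Nat.card_zpowers, orderOf_of_mem_elemAb hBbe hx hx1, pow_one])
      exact hDY.trans ((centralizerPPrimeCore_le_normalizer_zpowers (p := p) x).trans
        (map_pPrimeCore_normalizer_le_centralizer_pCore hPp))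
    have hF : ⁅Db, Ab⁆ ≤ fittingSubgroup (↥C ⧸ pPrimeCore p ↥C) := by
      refine le_trans ?_ centralizer_fstar_le_fitting
      rw [le_centralizer_iff]
      refine sup_le ?_ ?_
      · refine layer_le_iff.mpr fun L hL => le_centralizer_iff.mp
          (commutator_delta_le_centralizer_component hO hk hBbe hBbc hBbA hAbe hL ?_ (hloc a ha ha1 L hL))
        rintro _ ⟨g, hg, rfl⟩
        refine mem_normalizer_iff_map_conj_eq.2 (eq_of_le_of_card_ge ?_
          (Subgroup.card_map_of_injective (MulAut.conj (φ g)).injective).ge)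
        rintro _ ⟨l, hl, rfl⟩
        exact hinv a ha ha1 L hL g hg l hl
      · rw [fitting_eq_pCore_of_pPrimeCore_eq_bot hO]
        exact le_centralizer_iff.mp (hle1.trans hYR)
    rw [fitting_eq_pCore_of_pPrimeCore_eq_bot hO] at hF
    rw [eq_bot_iff, ← inf_of_le_right hF]
    exact (inf_eq_bot_of_isPGroup_of_coprime (isPGroup_pCore p _)
      ((coprime_card_map_pPrimeCore _).coprime_dvd_left (card_dvd_of_le (hle1.trans hDY)))).le
  rw [commutator_le]
  rintro d ⟨hd, hdC⟩ g hg
  refine ⟨⁅(⟨d, hdC⟩ : ↥C), ⟨g, hAC hg⟩⁆, (QuotientGroup.eq_one_iff _).1 (mem_bot.1 (hone ▸ ?_)), rfl⟩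
  show φ ⁅(⟨d, hdC⟩ : ↥C), ⟨g, hAC hg⟩⁆ ∈ ⁅Db, Ab⁆
  rw [map_commutatorElement]
  exact commutator_mem_commutator
    (delta_image hB' ((hle.trans hBA).trans hAC) ⟨d, hdC⟩ (hmono hd)) (mem_map_of_mem φ hg)

end CfsgLib.Components
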