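import Mathlib
import Cfsg.Agent.Lib.Base.Transport
import Cfsg.Agent.Lib.Base.Rank
import Cfsg.Agent.Lib.PGroups.MaxAbelian
import Cfsg.Agent.Lib.PGroups.Omega
import Cfsg.Agent.Lib.PGroups.UniqueOrderP
import Cfsg.Agent.Lib.Coprime.Basic
import Cfsg.Agent.Lib.Components.Signalizer

/-!
# Normal elementary abelian subgroups of order `p²` and the rank-two commuting graph of a `p`-group
-/

set_option autoImplicit false
set_option linter.style.haveILetI false
set_option linter.unusedSectionVars false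

open scoped commutatorElement

namespace CfsgLib.Components

open Cfsg Subgroup CfsgLib.Base

variable {P : Type*} [Group P] [Finite P] {p : ℕ} [Fact p.Prime]

theorem card_torsion_le {A : Subgroup P} (hA : IsCyclic A) {n : ℕ} (hn : 0 < n) {S : Subgroup P}
    (hSA : S ≤ A) (hS : ∀ x ∈ S, x ^ n = 1) : Nat.card S ≤ n := by
  haveI := hA
  letI := hA.commGroup
  have h : S.subgroupOf A ≤ (powMonoidHom n : A →* A).ker := fun x hx =>
    Subtype.ext (hS x hx)
  rw [← Nat.card_congr (subgroupOfEquivOfLe hSA).toEquiv]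
  refine (card_le_of_le h).trans ?_
  rw [IsCyclic.card_powMonoidHom_ker]
  exact Nat.le_of_dvd hn (Nat.gcd_dvd_right _ _)

/-- A `p`-group of rank at least three has a normal elementary abelian subgroup of order `p²`. -/
theorem exists_normal_sq (hP : IsPGroup p P) {E : Subgroup P} (hE : IsElementaryAbelian p E)
    (hE3 : p ^ 3 ≤ Nat.card E) :
    ∃ U : Subgroup P, U.Normal ∧ IsElementaryAbelian p U ∧ Nat.card U = p ^ 2 := by
  classical
  have hp : p.Prime := Fact.out
  by_contra hno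
  -- every abelian normal subgroup is cyclic
  have hcyc : ∀ A : Subgroup P, A.Normal → IsMulCommutative A → IsCyclic A := by
    intro A hAn hAc
    by_contra hnc
    haveI := hAn
    let Ω : Subgroup P :=
      { carrier := {x | x ∈ A ∧ x ^ p = 1}
        one_mem' := ⟨one_mem A, one_pow p⟩
        mul_mem' := fun {x y} hx hy => ⟨mul_mem hx.1 hy.1, by
          have h : Commute x y :=
            congrArg Subtype.val (hAc.is_comm.comm (⟨x, hx.1⟩ : A) ⟨y, hy.1⟩)
          rw [h.mul_pow, hx.2, hy.2, one_mul]⟩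
        inv_mem' := fun {x} hx => ⟨inv_mem hx.1, by rw [inv_pow, hx.2, inv_one]⟩ }
    haveI hΩn : Ω.Normal := ⟨fun x hx g => ⟨hAn.conj_mem x hx.1 g, by rw [conj_pow, hx.2]; group⟩⟩
    have hΩ2 : p ^ 2 ≤ Nat.card Ω := by
      by_contra hlt
      obtain ⟨k, hk⟩ := CfsgLib.PGroups.card_subgroup_eq_pow hP Ω
      have hk1 : k ≤ 1 := by
        by_contra hk2
        exact hlt (hk ▸ Nat.pow_le_pow_right hp.pos (by omega))
      have hAne : A ≠ ⊥ := fun h => hnc (by subst h; infer_instance)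
      obtain ⟨z, hz⟩ := exists_prime_orderOf_dvd_card' p
        (CfsgLib.PGroups.dvd_card_of_ne_bot hP hAne)
      have hzΩ : (z : P) ∈ Ω := ⟨z.2, by
        rw [← hz, ← Subgroup.orderOf_coe, pow_orderOf_eq_one]⟩
      refine (CfsgLib.PGroups.isCyclic_or_quaternion_of_unique (hP.to_subgroup A) (z := z)
        (hz ▸ pow_orderOf_eq_one z) ?_).elim hnc fun hq => ?_
      · intro y hy
        have hle : zpowers (z : P) ≤ Ω := zpowers_le.mpr hzΩ
        have hcard : Nat.card Ω ≤ Nat.card (zpowers (z : P)) := by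
          rw [hk, Nat.card_zpowers, Subgroup.orderOf_coe, hz]
          calc p ^ k ≤ p ^ 1 := Nat.pow_le_pow_right hp.pos hk1
            _ = p := pow_one p
        have hyΩ : (y : P) ∈ Ω := ⟨y.2, by rw [← SubmonoidClass.coe_pow, hy]; rfl⟩
        rw [← eq_of_le_of_card_ge hle hcard] at hyΩ
        obtain ⟨i, hi⟩ := mem_zpowers_iff.mp hyΩ
        exact ⟨i, Subtype.ext (by simpa using hi)⟩
      · obtain ⟨-, n, hn, ⟨e⟩⟩ := hq
        have h1 := hAc.is_comm.comm (e.symm (QuaternionGroup.a 1)) (e.symm (QuaternionGroup.xa 0))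
        have h2 := congrArg e h1
        rw [map_mul, map_mul, MulEquiv.apply_symm_apply, MulEquiv.apply_symm_apply,
          QuaternionGroup.a_mul_xa, QuaternionGroup.xa_mul_a] at h2
        have h3 := QuaternionGroup.xa.inj h2
        have h4 : (2 : ZMod (2 * 2 ^ n)) = 0 := by linear_combination -h3
        have h5 : 2 * 2 ^ n ∣ 2 := (ZMod.natCast_eq_zero_iff 2 _).mp (by exact_mod_cast h4)
        have h6 : 2 ≤ 2 ^ n := le_trans (by norm_num) (Nat.pow_le_pow_right two_pos hn)
        have := Nat.le_of_dvd two_pos h5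
        omega
    obtain ⟨U, hUn, -, hUΩ, hU⟩ := CfsgLib.PGroups.exists_normal_card_eq hP (bot_le : ⊥ ≤ Ω)
      (k := 2) (by rw [card_bot]; exact Nat.one_le_pow _ _ hp.pos) hΩ2
    exact hno ⟨U, hUn, ⟨⟨⟨fun x y => Subtype.ext (show (x : P) * y = y * x from congrArg (fun v : A => (v : P))
      (hAc.is_comm.comm (⟨x, (hUΩ x.2).1⟩ : A) ⟨y, (hUΩ y.2).1⟩))⟩⟩, fun x hx => (hUΩ hx).2⟩, hU⟩
  obtain ⟨A, hAn, hAc, -, hCA⟩ :=
    CfsgLib.PGroups.exists_selfCentralizing_normal hP (⊥ : Subgroup P) ⟨⟨fun x y => Subsingleton.elim _ _⟩⟩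
  haveI := hAn
  have hA : IsCyclic A := hcyc A hAn hAc
  have hAcomm : ∀ x ∈ A, ∀ y ∈ A, x * y = y * x := fun x hx y hy =>
    congrArg Subtype.val (hAc.is_comm.comm (⟨x, hx⟩ : A) ⟨y, hy⟩)
  -- the torsion subgroups of `A`
  let Tor : ℕ → Subgroup P := fun n =>
    { carrier := {x | x ∈ A ∧ x ^ n = 1}
      one_mem' := ⟨one_mem A, one_pow n⟩
      mul_mem' := fun {x y} hx hy => ⟨mul_mem hx.1 hy.1, by
        rw [(show Commute x y from hAcomm x hx.1 y hy.1).mul_pow, hx.2, hy.2, one_mul]⟩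
      inv_mem' := fun {x} hx => ⟨inv_mem hx.1, by rw [inv_pow, hx.2, inv_one]⟩ }
  set Z₀ := Tor p with hZ₀
  set B := Tor (p ^ 2) with hB
  have hTn : ∀ n, (Tor n).Normal := fun n =>
    ⟨fun x hx g => ⟨hAn.conj_mem x hx.1 g, by rw [conj_pow, hx.2]; group⟩⟩
  haveI := hTn p
  have hZ₀card : Nat.card Z₀ ≤ p := card_torsion_le hA hp.pos (fun x hx => hx.1) fun x hx => hx.2
  have hZ₀c : ∀ z ∈ Z₀, ∀ g : P, g * z = z * g := by
    intro z hz g
    by_cases hbot : Z₀ = ⊥
    · rw [hbot, mem_bot] at hz; simp [hz]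
    have hne := CfsgLib.PGroups.inf_center_ne_bot hP hbot
    have hge : Nat.card Z₀ ≤ Nat.card ↥(Z₀ ⊓ center P) :=
      hZ₀card.trans (Nat.le_of_dvd Nat.card_pos (CfsgLib.PGroups.dvd_card_of_ne_bot hP hne))
    have := eq_of_le_of_card_ge inf_le_left hge
    rw [← this] at hz
    exact mem_center_iff.mp hz.2 g
  have hcomA : ∀ g x : P, x ∈ A → ⁅g, x⁆ ∈ A := fun g x hx => by
    rw [commutatorElement_def]; exact mul_mem (hAn.conj_mem x hx g) (inv_mem hx)
  have hhom : ∀ g x y : P, x ∈ A → y ∈ A → ⁅g, x * y⁆ = ⁅g, x⁆ * ⁅g, y⁆ := by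
    intro g x y hx hy
    have e : ⁅g, x * y⁆ = ⁅g, x⁆ * (x * ⁅g, y⁆ * x⁻¹) := by group
    rw [e, hAcomm x hx _ (hcomA g y hy), mul_inv_cancel_right]
  have hpow : ∀ g x : P, x ∈ A → ∀ n : ℕ, ⁅g, x ^ n⁆ = ⁅g, x⁆ ^ n := by
    intro g x hx n
    induction n with
    | zero => simp
    | succ n ih => rw [pow_succ, hhom g _ _ (pow_mem hx n) hx, ih, pow_succ]
  -- `C_E(B)` has index at most `p` in `E`
  set CB := E ⊓ centralizer (B : Set P) with hCB
  have hCB2 : p ^ 2 ≤ Nat.card CB := by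
    haveI : IsCyclic A := hA
    haveI : IsCyclic B :=
      isCyclic_of_injective (inclusion (show B ≤ A from fun x hx => hx.1))
        (inclusion_injective _)
    obtain ⟨b, hb⟩ := IsCyclic.exists_generator (α := B)
    let f : E →* Z₀ :=
      { toFun := fun e => ⟨⁅(e : P), (b : P)⁆, hcomA _ _ b.2.1, by
          have hbp : (b : P) ^ p ∈ Z₀ := ⟨pow_mem b.2.1 p, by rw [← pow_mul, ← pow_two]; exact b.2.2⟩
          rw [← hpow _ _ b.2.1, commutatorElement_eq_one_iff_mul_comm]
          exact hZ₀c _ hbp _⟩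
        map_one' := Subtype.ext (commutatorElement_one_left _)
        map_mul' := fun e₁ e₂ => Subtype.ext (by
          show ⁅(e₁ : P) * (e₂ : P), (b : P)⁆ = ⁅(e₁ : P), (b : P)⁆ * ⁅(e₂ : P), (b : P)⁆
          have h2 : ⁅(e₂ : P), (b : P)⁆ ∈ Z₀ := ⟨hcomA _ _ b.2.1, by
            have hbp : (b : P) ^ p ∈ Z₀ :=
              ⟨pow_mem b.2.1 p, by rw [← pow_mul, ← pow_two]; exact b.2.2⟩
            rw [← hpow _ _ b.2.1, commutatorElement_eq_one_iff_mul_comm]
            exact hZ₀c _ hbp _⟩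
          have e : ⁅(e₁ : P) * (e₂ : P), (b : P)⁆ =
              (e₁ : P) * ⁅(e₂ : P), (b : P)⁆ * (e₁ : P)⁻¹ * ⁅(e₁ : P), (b : P)⁆ := by group
          rw [e, hZ₀c _ h2 e₁, mul_inv_cancel_right, hZ₀c _ h2 ⁅(e₁ : P), (b : P)⁆]) }
    have hker : f.ker.map E.subtype ≤ CB := by
      rintro _ ⟨e, he, rfl⟩
      refine mem_inf.mpr ⟨e.2, mem_centralizer_iff.mpr fun y hy => ?_⟩
      obtain ⟨j, hj⟩ := mem_zpowers_iff.mp (hb ⟨y, hy⟩)
      have hc : Commute (e : P) (b : P) :=
        commutatorElement_eq_one_iff_mul_comm.mp (congrArg Subtype.val he)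
      have := congrArg Subtype.val hj
      simp only [SubgroupClass.coe_zpow] at this
      rw [← this]
      exact (hc.zpow_right j).eq.symm
    have h1 := card_mul_index f.ker
    have h2 : f.ker.index ≤ p := by
      rw [index_ker]
      exact (Finite.card_subtype_le _).trans hZ₀card
    have h3 : p * p ^ 2 ≤ p * Nat.card CB := by
      calc p * p ^ 2 = p ^ 3 := by ring
        _ ≤ Nat.card E := hE3
        _ = Nat.card f.ker * f.ker.index := h1.symm
        _ ≤ Nat.card CB * p := Nat.mul_le_mul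
            (by rw [← card_map_subtype f.ker]; exact card_le_of_le hker) h2
        _ = p * Nat.card CB := mul_comm _ _
    exact Nat.le_of_mul_le_mul_left h3 hp.pos
  -- elements of `C_E(B)` move `A` into `Z₀`
  have hmove : ∀ e ∈ CB, ∀ x ∈ A, ⁅e, x⁆ ∈ Z₀ := by
    intro e he x hx
    obtain ⟨heE, heB⟩ := mem_inf.mp he
    have hfix : ∀ y ∈ B, ⁅e, y⁆ = 1 := fun y hy =>
      commutatorElement_eq_one_iff_mul_comm.mpr (mem_centralizer_iff.mp heB y hy).symm
    have key : ∀ k : ℕ, ∀ y ∈ A, y ^ p ^ k = 1 → ⁅e, y⁆ ^ p = 1 := by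
      intro k
      induction k with
      | zero => intro y _ hy1; rw [pow_zero, pow_one] at hy1; simp [hy1]
      | succ k ih =>
        intro y hy hy1
        have h1 : ⁅e, y ^ p⁆ ^ p = 1 := ih _ (pow_mem hy p) (by rw [← pow_mul, ← pow_succ']; exact hy1)
        rw [hpow e y hy] at h1
        set c := ⁅e, y⁆ with hc
        have hcB : c ∈ B := ⟨hcomA e y hy, by rw [pow_two, pow_mul]; exact h1⟩
        have hec : e * c = c * e := (mem_centralizer_iff.mp heB c hcB).symm
        have hn : ∀ n : ℕ, e ^ n * y = c ^ n * y * e ^ n := by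
          intro n
          induction n with
          | zero => simp
          | succ n ihn =>
            calc e ^ (n + 1) * y = e * (e ^ n * y) := by rw [pow_succ']; group
              _ = e * c ^ n * y * e ^ n := by rw [ihn]; group
              _ = c ^ n * (e * y) * e ^ n := by
                rw [((show Commute e c from hec).pow_right n).eq]; group
              _ = c ^ n * (c * y * e) * e ^ n := by rw [hc, commutatorElement_def]; group
              _ = c ^ (n + 1) * y * e ^ (n + 1) := by rw [pow_succ, pow_succ']; group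
        have := hn p
        rw [hE.2 e heE, one_mul, mul_one] at this
        exact mul_eq_right.mp this.symm
    obtain ⟨k, hk⟩ := hP x
    exact ⟨hcomA e x hx, key k x hx hk⟩
  obtain ⟨e, he, heZ⟩ : ∃ e ∈ CB, e ∉ Z₀ := by
    refine SetLike.not_le_iff_exists.mp fun h => ?_
    have h1 := hCB2.trans ((card_le_of_le h).trans hZ₀card)
    have := (Nat.pow_le_pow_iff_right hp.one_lt).mp (h1.trans (le_of_eq (pow_one p).symm))
    omega
  have hep : e ^ p = 1 := hE.2 e he.1
  have he1 : e ≠ 1 := fun h => heZ (h ▸ one_mem _)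
  have heA : e ∉ A := fun h => heZ ⟨h, hep⟩
  -- the subgroup of all elements moving `A` into `Z₀`
  let T : Subgroup P :=
    { carrier := {g | ∀ x ∈ A, ⁅g, x⁆ ∈ Z₀}
      one_mem' := fun x _ => by rw [commutatorElement_one_left]; exact one_mem _
      mul_mem' := fun {g h} hg hh x hx => by
        have e : ⁅g * h, x⁆ = g * ⁅h, x⁆ * g⁻¹ * ⁅g, x⁆ := by group
        rw [e]; exact mul_mem ((hTn p).conj_mem _ (hh x hx) g) (hg x hx)
      inv_mem' := fun {g} hg x hx => by
        have e : ⁅g⁻¹, x⁆ = g⁻¹ * ⁅g, x⁆⁻¹ * (g⁻¹)⁻¹ := by group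
        rw [e]; exact (hTn p).conj_mem _ (inv_mem (hg x hx)) _ }
  have heT : e ∈ T := hmove e he
  have hconjT : ∀ g : P, g * e * g⁻¹ ∈ T := by
    intro g x hx
    have e' : ⁅g * e * g⁻¹, x⁆ = g * ⁅e, g⁻¹ * x * g⁆ * g⁻¹ := by group
    rw [e']
    refine (hTn p).conj_mem _ (hmove e he _ ?_) g
    simpa using hAn.conj_mem x hx g⁻¹
  -- `T = A ⟨e⟩`
  haveI : IsCyclic A := hA
  obtain ⟨a, ha⟩ := IsCyclic.exists_generator (α := A)
  have hAT : ∀ t : P, ⁅t, (a : P)⁆ = 1 → t ∈ A := by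
    intro t ht
    rw [← hCA]
    refine mem_centralizer_iff.mpr fun y hy => ?_
    obtain ⟨j, hj⟩ := mem_zpowers_iff.mp (ha ⟨y, hy⟩)
    have := congrArg Subtype.val hj
    simp only [SubgroupClass.coe_zpow] at this
    rw [← this]
    exact ((show Commute t (a : P) from commutatorElement_eq_one_iff_mul_comm.mp ht).zpow_right j).eq.symm
  have hsplit : ∀ t ∈ T, ∃ j : ℤ, t * e ^ j ∈ A := by
    intro t ht
    have hc : ⁅e, (a : P)⁆ ≠ 1 := fun h => heA (hAT e h)
    have hz : zpowers ⁅e, (a : P)⁆ = Z₀ := by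
      refine eq_of_le_of_card_ge (zpowers_le.mpr (heT _ a.2)) ?_
      rw [Nat.card_zpowers, orderOf_eq_prime (heT _ a.2).2 hc]
      exact hZ₀card
    have hta : ⁅t, (a : P)⁆ ∈ zpowers ⁅e, (a : P)⁆ := hz ▸ ht _ a.2
    obtain ⟨i, hi⟩ := mem_zpowers_iff.mp hta
    let f : T →* Z₀ :=
      { toFun := fun g => ⟨⁅(g : P), (a : P)⁆, g.2 _ a.2⟩
        map_one' := Subtype.ext (commutatorElement_one_left _)
        map_mul' := fun g h => Subtype.ext (by
          show ⁅(g : P) * (h : P), (a : P)⁆ = ⁅(g : P), (a : P)⁆ * ⁅(h : P), (a : P)⁆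
          have e' : ⁅(g : P) * (h : P), (a : P)⁆ =
              (g : P) * ⁅(h : P), (a : P)⁆ * (g : P)⁻¹ * ⁅(g : P), (a : P)⁆ := by group
          rw [e', hZ₀c _ (h.2 _ a.2) g, mul_inv_cancel_right,
            hZ₀c _ (h.2 _ a.2) ⁅(g : P), (a : P)⁆]) }
    refine ⟨-i, hAT _ ?_⟩
    have h1 : f (⟨t, ht⟩ * (⟨e, heT⟩ : T) ^ (-i)) = 1 := by
      rw [map_mul, map_zpow]
      refine Subtype.ext ?_
      show ⁅t, (a : P)⁆ * ⁅e, (a : P)⁆ ^ (-i) = 1
      rw [← hi, zpow_neg, mul_inv_cancel]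
    exact congrArg Subtype.val h1
  -- the elements of order `p` of `T`
  set W := Z₀ ⊔ zpowers e with hW
  have hOmega : ∀ g ∈ T, g ^ p = 1 → g ∈ W := by
    intro g hg hgp
    obtain ⟨j, hj⟩ := hsplit g hg
    set x := g * e ^ j with hx
    have hgx : g = x * e ^ (-j) := by rw [hx, zpow_neg, mul_inv_cancel_right]
    have hyT : e ^ (-j) ∈ T := zpow_mem heT _
    set y := e ^ (-j) with hy
    set c := ⁅y, x⁆ with hc
    have hcZ : c ∈ Z₀ := hyT x hj
    have hyp : y ^ p = 1 := by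
      rw [hy, ← zpow_natCast, ← zpow_mul, mul_comm, zpow_mul, zpow_natCast, hep, one_zpow]
    have hformula : g ^ p = x ^ p * y ^ p * c ^ p.choose 2 := by
      rw [hgx]
      exact CfsgLib.PGroups.mul_pow_of_commute (hZ₀c c hcZ x).symm (hZ₀c c hcZ y).symm p
    rw [hgp, hyp, mul_one] at hformula
    have hxZ : x ^ p ∈ Z₀ := by
      rw [eq_inv_of_mul_eq_one_left hformula.symm]
      exact inv_mem (pow_mem hcZ _)
    have hxB : x ∈ B := ⟨hj, by rw [pow_two, pow_mul]; exact hxZ.2⟩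
    have hc1 : c = 1 := by
      rw [hc, commutatorElement_eq_one_iff_mul_comm, hy]
      exact ((show Commute e x from ((mem_centralizer_iff.mp he.2) x hxB).symm).zpow_left _).eq
    rw [hc1, one_pow, mul_one] at hformula
    rw [hgx]
    exact mul_mem (mem_sup_left ⟨hj, hformula.symm⟩) (mem_sup_right (zpow_mem (mem_zpowers e) _))
  have hWn : W.Normal := by
    refine ⟨fun w hw g => ?_⟩
    have : (Z₀ ⊔ zpowers e).map (MulAut.conj g).toMonoidHom ≤ W := by
      rw [Subgroup.map_sup, MonoidHom.map_zpowers, sup_le_iff, zpowers_le]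
      refine ⟨le_trans ?_ le_sup_left, hOmega _ (hconjT g) (show (g * e * g⁻¹) ^ p = 1 by rw [conj_pow, hep]; group)⟩
      rintro _ ⟨z, hz, rfl⟩
      exact (hTn p).conj_mem z hz g
    exact this ⟨w, hw, rfl⟩
  have hWc : IsElementaryAbelian p W := by
    have hZab : IsMulCommutative Z₀ := ⟨⟨fun x y => Subtype.ext (hAcomm x x.2.1 y y.2.1)⟩⟩
    have hab : IsMulCommutative W := CfsgLib.PGroups.isMulCommutative_sup_zpowers hZab
      (mem_centralizer_iff.mpr fun z hz => (hZ₀c z hz e).symm)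
    refine ⟨hab, ?_⟩
    let K : Subgroup W :=
      { carrier := {w | w ^ p = 1}
        one_mem' := one_pow p
        mul_mem' := fun {u v} hu hv => by
          show (u * v) ^ p = 1
          rw [(show Commute u v from hab.is_comm.comm u v).mul_pow, show u ^ p = 1 from hu,
            show v ^ p = 1 from hv, one_mul]
        inv_mem' := fun {u} hu => by
          show u⁻¹ ^ p = 1
          rw [inv_pow, show u ^ p = 1 from hu, inv_one] }
    have hK : W ≤ K.map W.subtype := by
      refine sup_le (fun z hz => ⟨⟨z, mem_sup_left hz⟩, Subtype.ext hz.2, rfl⟩)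
        (zpowers_le.mpr ⟨⟨e, mem_sup_right (mem_zpowers e)⟩, Subtype.ext hep, rfl⟩)
    intro w hw
    obtain ⟨u, hu, rfl⟩ := hK hw
    exact congrArg Subtype.val hu
  have hWcard : Nat.card W = p ^ 2 := by
    have hinf : zpowers e ⊓ Z₀ = ⊥ := by
      by_contra hne
      have h1 := CfsgLib.PGroups.dvd_card_of_ne_bot hP hne
      have h2 := Nat.le_of_dvd Nat.card_pos h1
      have h3 : zpowers e ⊓ Z₀ = zpowers e := eq_of_le_of_card_ge inf_le_left
        (by rw [Nat.card_zpowers, orderOf_eq_prime hep he1]; exact h2)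
      exact heZ (inf_eq_left.mp h3 (mem_zpowers e))
    have hAne : A ≠ ⊥ := fun h => heA (by
      rw [← hCA, h]
      exact mem_centralizer_iff.mpr fun y hy => by rw [coe_bot, Set.mem_singleton_iff] at hy; simp [hy])
    obtain ⟨z, hz⟩ := exists_prime_orderOf_dvd_card' p (CfsgLib.PGroups.dvd_card_of_ne_bot hP hAne)
    have hzcard : Nat.card Z₀ = p := le_antisymm hZ₀card (Nat.le_of_dvd Nat.card_pos (by
      rw [← hz, ← Subgroup.orderOf_coe]
      exact orderOf_dvd_natCard Z₀ ⟨z.2, by rw [← SubmonoidClass.coe_pow, ← hz, pow_orderOf_eq_one]; rfl⟩))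
    rw [hW, sup_comm, CfsgLib.Coprime.card_sup_of_inf_eq_bot (fun g _ =>
      le_normalizer_of_normal (H := Z₀) (mem_top g)) hinf, Nat.card_zpowers,
      orderOf_eq_prime hep he1, hzcard, pow_two]
  exact hno ⟨W, hWn, hWc, hWcard⟩

/-- The centraliser of a normal subgroup of order `p²` meets every subgroup in index at most `p`. -/
theorem le_card_inf_centralizer (hP : IsPGroup p P) {U : Subgroup P} [U.Normal]
    (hU : Nat.card U = p ^ 2) (F : Subgroup P) :
    Nat.card F ≤ p * Nat.card ↥(F ⊓ centralizer (U : Set P)) := by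
  have h1 : (centralizer (U : Set P)).index ≤ p := by
    simpa [Nat.choose] using CfsgLib.PGroups.index_centralizer_le hP 2 hU
  have h2 := card_mul_index ((centralizer (U : Set P)).subgroupOf F)
  have h3 : ((centralizer (U : Set P)).subgroupOf F).index ≤ p :=
    (Nat.le_of_dvd (Nat.pos_of_ne_zero index_ne_zero_of_finite)
      (relIndex_dvd_index_of_normal (centralizer (U : Set P)) F)).trans h1
  rw [inf_comm, ← card_subgroupOf (inf_le_right : centralizer (U : Set P) ⊓ F ≤ F),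
    inf_subgroupOf_right, ← h2, mul_comm p]
  exact Nat.mul_le_mul_left _ h3

/-- An elementary abelian subgroup of order `≥ p³` centralising `X` detects rank `> 2`. -/
theorem not_pRankLE_centralizer_iff {X : Subgroup P} :
    ¬ PRankLE p 2 ↥(centralizer (X : Set P)) ↔
      ∃ F : Subgroup P, IsElementaryAbelian p F ∧ p ^ 3 ≤ Nat.card F ∧ F ≤ centralizer (X : Set P) := by
  refine ⟨fun h => ?_, fun ⟨F, hF, hF3, hFC⟩ h => ?_⟩
  · unfold PRankLE at h
    push Not at h
    obtain ⟨A, hAc, hAp, hAcard⟩ := h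
    refine ⟨A.map (centralizer (X : Set P)).subtype, ⟨?_, ?_⟩, ?_, map_subtype_le A⟩
    · haveI := hAc
      exact Subgroup.map_isMulCommutative A _
    · rintro _ ⟨a, ha, rfl⟩
      rw [← map_pow, hAp a ha, map_one]
    · rw [card_map_subtype]
      obtain ⟨k, hk⟩ := IsPGroup.iff_card.mp (show IsPGroup p A from fun a =>
        ⟨1, Subtype.ext (by simpa using hAp a a.2)⟩)
      rw [hk] at hAcard ⊢
      exact Nat.pow_le_pow_right (Fact.out : p.Prime).pos
        ((Nat.pow_lt_pow_iff_right (Fact.out : p.Prime).one_lt).mp hAcard)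
  · have h1 := h (F.subgroupOf (centralizer (X : Set P)))
      ⟨⟨fun u v => Subtype.ext (Subtype.ext (show ((u : ↥(centralizer (X : Set P))) : P) * _ = _ * _ from
        congrArg (fun w : F => (w : P))
        (hF.1.is_comm.comm (⟨_, u.2⟩ : F) ⟨_, v.2⟩)))⟩⟩
      (fun a ha => Subtype.ext (hF.2 _ ha))
    rw [card_subgroupOf hFC] at h1
    have := (Nat.pow_le_pow_iff_right (Fact.out : p.Prime).one_lt).mp (hF3.trans h1)
    omega

/-- The component of a normal `p × p` in the rank-two commuting graph. -/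
theorem exists_normal_sq_component (hP : IsPGroup p P) (hrk : ¬ PRankLE p 2 P) :
    ∃ U : Subgroup P, U.Normal ∧ IsElementaryAbelian p U ∧ Nat.card U = p ^ 2 ∧
      ∀ X : Subgroup P, IsElementaryAbelian p X → p ^ 2 ≤ Nat.card X →
        (Relation.ReflTransGen (fun A B : Subgroup P => IsElementaryAbelian p A ∧ p ^ 2 ≤ Nat.card A ∧
          IsElementaryAbelian p B ∧ p ^ 2 ≤ Nat.card B ∧ ∀ a ∈ A, ∀ b ∈ B, a * b = b * a) X U ↔
        ¬ PRankLE p 2 ↥(centralizer (X : Set P))) := by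
  have hp : p.Prime := Fact.out
  obtain ⟨E, hE, hE3, -⟩ := (not_pRankLE_centralizer_iff (X := (⊥ : Subgroup P))).mp (fun h => hrk
    (pRankLE_of_injective
      ((Subgroup.topEquiv (G := P)).symm.toMonoidHom) (MulEquiv.injective _) (by
        rwa [show centralizer ((⊥ : Subgroup P) : Set P) = ⊤ from eq_top_iff.mpr fun g _ =>
          mem_centralizer_iff.mpr fun y hy => by rw [coe_bot, Set.mem_singleton_iff] at hy; simp [hy]] at h)))
  obtain ⟨U, hUn, hU, hUc⟩ := exists_normal_sq hP hE hE3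
  haveI := hUn
  refine ⟨U, hUn, hU, hUc, fun X hX hX2 => ?_⟩
  set R := fun A B : Subgroup P => IsElementaryAbelian p A ∧ p ^ 2 ≤ Nat.card A ∧
    IsElementaryAbelian p B ∧ p ^ 2 ≤ Nat.card B ∧ ∀ a ∈ A, ∀ b ∈ B, a * b = b * a with hR
  have hjoin : ∀ {A B : Subgroup P}, IsElementaryAbelian p A → IsElementaryAbelian p B →
      (∀ a ∈ A, ∀ b ∈ B, a * b = b * a) → IsElementaryAbelian p (A ⊔ B) := by
    intro A B hA hB hAB
    have hc : A ⊔ B ≤ centralizer ((A ⊔ B : Subgroup P) : Set P) := by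
      have hA' : A ⊔ B ≤ centralizer (A : Set P) := sup_le
        (fun a ha => mem_centralizer_iff.mpr fun y hy =>
          congrArg Subtype.val (hA.1.is_comm.comm (⟨y, hy⟩ : A) ⟨a, ha⟩))
        (fun b hb => mem_centralizer_iff.mpr fun y hy => hAB y hy b hb)
      have hB' : A ⊔ B ≤ centralizer (B : Set P) := sup_le
        (fun a ha => mem_centralizer_iff.mpr fun y hy => (hAB a ha y hy).symm)
        (fun b hb => mem_centralizer_iff.mpr fun y hy =>
          congrArg Subtype.val (hB.1.is_comm.comm (⟨y, hy⟩ : B) ⟨b, hb⟩))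
      exact sup_le (le_centralizer_iff.mp hA') (le_centralizer_iff.mp hB')
    have hcomm : ∀ u ∈ A ⊔ B, ∀ v ∈ A ⊔ B, u * v = v * u := fun u hu v hv =>
      (mem_centralizer_iff.mp (hc hu) v hv).symm
    let K : Subgroup P :=
      { carrier := {w | w ∈ A ⊔ B ∧ w ^ p = 1}
        one_mem' := ⟨one_mem _, one_pow p⟩
        mul_mem' := fun {u v} hu hv => ⟨mul_mem hu.1 hv.1, by
          rw [(show Commute u v from hcomm u hu.1 v hv.1).mul_pow, hu.2, hv.2, one_mul]⟩
        inv_mem' := fun {u} hu => ⟨inv_mem hu.1, by rw [inv_pow, hu.2, inv_one]⟩ }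
    have hK : A ⊔ B ≤ K := sup_le (fun a ha => ⟨mem_sup_left ha, hA.2 a ha⟩)
      (fun b hb => ⟨mem_sup_right hb, hB.2 b hb⟩)
    exact ⟨⟨⟨fun u v => Subtype.ext (hcomm u u.2 v v.2)⟩⟩, fun w hw => (hK hw).2⟩
  have hcard3 : ∀ {A : Subgroup P}, IsPGroup p A → p ^ 2 < Nat.card A → p ^ 3 ≤ Nat.card A := by
    intro A hA h
    obtain ⟨k, hk⟩ := IsPGroup.iff_card.mp hA
    rw [hk] at h ⊢
    exact Nat.pow_le_pow_right hp.pos ((Nat.pow_lt_pow_iff_right hp.one_lt).mp h)
  constructor
  · intro h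
    induction h using Relation.ReflTransGen.head_induction_on with
    | refl =>
      -- the normal subgroup itself
      rw [not_pRankLE_centralizer_iff]
      have hUself : U ≤ centralizer (U : Set P) := fun u hu => mem_centralizer_iff.mpr fun y hy =>
        congrArg Subtype.val (hU.1.is_comm.comm (⟨y, hy⟩ : U) ⟨u, hu⟩)
      set F := E ⊓ centralizer (U : Set P) with hF
      have hFe : IsElementaryAbelian p F := CfsgLib.Signalizer.elemAb_of_le hE inf_le_left
      refine ⟨F ⊔ U, hjoin hFe hU fun a ha b hb => (mem_centralizer_iff.mp ha.2 b hb).symm, ?_,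
        sup_le inf_le_right hUself⟩
      have h2 := le_card_inf_centralizer hP hUc E
      rw [← hF] at h2
      refine hcard3 (hP.to_subgroup _) (lt_of_le_of_ne (hUc ▸ card_le_of_le le_sup_right) fun he => ?_)
      have hFU : U = F ⊔ U := eq_of_le_of_card_ge le_sup_right (by rw [← he, hUc])
      have hF2 : p ^ 2 ≤ Nat.card F := by
        refine Nat.le_of_mul_le_mul_left ?_ hp.pos
        calc p * p ^ 2 = p ^ 3 := by ring
          _ ≤ _ := hE3.trans h2
      have hFU' : F = U := eq_of_le_of_card_ge (hFU ▸ le_sup_left) (hUc ▸ hF2)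
      -- then `U ≤ E ≤ C(U)`
      have hEC : E ≤ centralizer (U : Set P) := fun e he => mem_centralizer_iff.mpr fun u hu => by
        have huE : u ∈ E := (hFU'.ge hu).1
        exact congrArg Subtype.val (hE.1.is_comm.comm (⟨u, huE⟩ : E) ⟨e, he⟩)
      have hFE : F = E := inf_eq_left.mpr hEC
      have := hUc ▸ hFU' ▸ hFE.symm ▸ hE3
      have := (Nat.pow_le_pow_iff_right hp.one_lt).mp this
      omega
    | @head X' Y hXY _ ih =>
      obtain ⟨hXe, hX'2, hYe, hY2, hcomm⟩ := hXY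
      have hself : X' ≤ centralizer (X' : Set P) := fun x hx => mem_centralizer_iff.mpr fun y hy =>
        congrArg Subtype.val (hXe.1.is_comm.comm (⟨y, hy⟩ : X') ⟨x, hx⟩)
      have hXc : X' ⊔ Y ≤ centralizer (X' : Set P) := sup_le hself
        (fun y hy => mem_centralizer_iff.mpr fun x hx => hcomm x hx y hy)
      by_cases hlt : p ^ 2 < Nat.card ↥(X' ⊔ Y)
      · rw [not_pRankLE_centralizer_iff]
        exact ⟨X' ⊔ Y, hjoin hXe hYe hcomm, hcard3 (hP.to_subgroup _) hlt, hXc⟩
      · push Not at hlt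
        have e1 : X' = X' ⊔ Y := eq_of_le_of_card_ge le_sup_left (hlt.trans hX'2)
        have e2 : Y = X' ⊔ Y := eq_of_le_of_card_ge le_sup_right (hlt.trans hY2)
        have e3 : X' = Y := e1.trans e2.symm
        rw [e3]
        exact ih hYe hY2
  · intro h
    obtain ⟨F₀, hF₀, hF₀3, hF₀C⟩ := not_pRankLE_centralizer_iff.mp h
    set F := X ⊔ F₀ with hF
    have hFe : IsElementaryAbelian p F :=
      hjoin hX hF₀ fun a ha b hb => mem_centralizer_iff.mp (hF₀C hb) a ha
    have hF3 : p ^ 3 ≤ Nat.card F := hF₀3.trans (card_le_of_le le_sup_right)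
    have hF2 : p ^ 2 ≤ Nat.card F := CfsgLib.Signalizer.sq_le_of_cube_le hF3
    set V := F ⊓ centralizer (U : Set P) with hV
    have hVe : IsElementaryAbelian p V := CfsgLib.Signalizer.elemAb_of_le hFe inf_le_left
    have hV2 : p ^ 2 ≤ Nat.card V := by
      refine Nat.le_of_mul_le_mul_left ?_ hp.pos
      calc p * p ^ 2 = p ^ 3 := by ring
        _ ≤ _ := hF3.trans (le_card_inf_centralizer hP hUc F)
    refine Relation.ReflTransGen.head ⟨hX, hX2, hFe, hF2, fun a ha b hb => ?_⟩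
      (Relation.ReflTransGen.head ⟨hFe, hF2, hVe, hV2, fun a ha b hb => ?_⟩
        (Relation.ReflTransGen.single ⟨hVe, hV2, hU, hUc.ge, fun a ha b hb =>
          (mem_centralizer_iff.mp ha.2 b hb).symm⟩))
    · exact congrArg Subtype.val (hFe.1.is_comm.comm (⟨a, mem_sup_left ha⟩ : F) ⟨b, hb⟩)
    · exact congrArg Subtype.val (hFe.1.is_comm.comm (⟨a, ha⟩ : F) ⟨b, hb.1⟩)

end CfsgLib.Components
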