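import Mathlib
import Cfsg.Agent.Lib.Coprime.Action
import Cfsg.Agent.Lib.Coprime.Basic
import Cfsg.Agent.Lib.Base.MinimalNormal
import Cfsg.Agent.Lib.Base.Nilpotent
import Cfsg.Agent.Lib.Classical.Dihedral
import Cfsg.Agent.Lib.Components.Signalizer

/-!
# The Thompson dihedral lemma
-/

set_option autoImplicit false
set_option linter.style.haveILetI false
set_option linter.unusedSectionVars false

open scoped commutatorElement Pointwise

namespace CfsgLib.Components

open Cfsg Subgroup CfsgLib.Base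

variable {G : Type*} [Group G] [Finite G]

/-- A coprime group centralising a self-centralising normal subgroup centralises everything. -/
theorem le_centralizer_of_self_centralizing {B L U : Subgroup G}
    (hBL : B ≤ normalizer (L : Set G)) (hco : (Nat.card B).Coprime (Nat.card L))
    (hB : Group.IsSolvable B) (hUL : U ≤ L) (hLU : L ≤ normalizer (U : Set G))
    (hBU : B ≤ centralizer (U : Set G)) (hC : L ⊓ centralizer (U : Set G) ≤ U) :
    B ≤ centralizer (L : Set G) := by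
  have hUB : ⁅U, B⁆ = ⊥ := by
    rw [commutator_comm]; exact commutator_eq_bot_iff_le_centralizer.mpr hBU
  have h1 : ⁅⁅U, B⁆, L⁆ = ⊥ := by rw [hUB, commutator_bot_left]
  have h2 : ⁅⁅L, U⁆, B⁆ = ⊥ := by
    rw [eq_bot_iff, ← hUB]
    exact commutator_mono (le_normalizer_iff_commutator_le_right.mp hLU) le_rfl
  have h3 : ⁅⁅B, L⁆, U⁆ = ⊥ := commutator_commutator_eq_bot_of_rotate h2 h1
  have h4 : ⁅L, B⁆ ≤ U := by
    refine le_trans (le_inf (CfsgLib.Coprime.commutator_le_of_le_normalizer hBL) ?_) hC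
    rw [commutator_comm]; exact commutator_eq_bot_iff_le_centralizer.mp h3
  have h5 : ⁅⁅L, B⁆, B⁆ = ⊥ := by
    rw [eq_bot_iff, ← hUB]; exact commutator_mono h4 le_rfl
  rw [CfsgLib.Coprime.commutator_commutator_eq hBL hco (Or.inl hB)] at h5
  rw [← commutator_eq_bot_iff_le_centralizer, commutator_comm, h5]

/-- Common eigenvectors modulo `U` of commuting involutory automorphisms. -/
theorem exists_eigen_mod {A D U : Subgroup G} (hU : U ≤ D) (hDU : D ≤ normalizer (U : Set G))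
    (hAD : A ≤ normalizer (D : Set G)) (hAU : A ≤ normalizer (U : Set G))
    (hD : ∀ x ∈ D, ∀ y ∈ D, ⁅x, y⁆ ∈ U) (hA : ∀ a ∈ A, a * a = 1) {w₀ : G} (hw₀ : w₀ ∈ D)
    (hw₀U : w₀ ∉ U) :
    ∃ w ∈ D, w ∉ U ∧ ∀ a ∈ A, w⁻¹ * (a * w * a⁻¹) ∈ U ∨ w * (a * w * a⁻¹) ∈ U := by
  classical
  suffices h : ∀ S : Finset G, (∀ a ∈ S, a ∈ A) → ∃ w ∈ D, w ∉ U ∧
      ∀ a ∈ S, w⁻¹ * (a * w * a⁻¹) ∈ U ∨ w * (a * w * a⁻¹) ∈ U by
    obtain ⟨w, hw, hwU, h⟩ := h (A : Set G).toFinite.toFinset (fun a ha => by simpa using ha)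
    exact ⟨w, hw, hwU, fun a ha => h a (by simpa using ha)⟩
  intro S
  induction S using Finset.induction with
  | empty => exact fun _ => ⟨w₀, hw₀, hw₀U, by simp⟩
  | @insert a S haS ih =>
    intro hSA
    obtain ⟨w, hw, hwU, hS⟩ := ih fun b hb => hSA b (Finset.mem_insert_of_mem hb)
    have ha : a ∈ A := hSA a (Finset.mem_insert_self a S)
    by_cases hinv : w * (a * w * a⁻¹) ∈ U
    · refine ⟨w, hw, hwU, fun b hb => ?_⟩
      rcases Finset.mem_insert.mp hb with rfl | hb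
      · exact Or.inr hinv
      · exact hS b hb
    set x := a * w * a⁻¹ with hx
    have hxD : x ∈ D := (mem_normalizer_iff.mp (hAD ha) w).mp hw
    refine ⟨w * x, mul_mem hw hxD, hinv, fun b hb => ?_⟩
    rcases Finset.mem_insert.mp hb with rfl | hb
    · refine Or.inl ?_
      have e0 : b * (w * x) * b⁻¹ = x * w := by
        have hbi : b⁻¹ = b := inv_eq_of_mul_eq_one_right (hA b ha)
        calc b * (w * x) * b⁻¹ = b * w * b⁻¹ * ((b * b) * w * (b⁻¹ * b⁻¹)) := by rw [hx]; group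
          _ = x * w := by rw [hbi, hA b ha]; rw [hx, hbi]; group
      rw [e0, show (w * x)⁻¹ * (x * w) = ⁅x⁻¹, w⁻¹⁆ by group]
      exact hD _ (inv_mem hxD) _ (inv_mem hw)
    · have hbA : b ∈ A := hSA b (Finset.mem_insert_of_mem hb)
      have hab : a * b = b * a := by
        have h1 : (a * b) * (a * b) = 1 := hA _ (mul_mem ha hbA)
        calc a * b = a * b * ((a * a) * 1) := by rw [hA a ha]; group
          _ = a * b * (a * (b * b) * a) := by rw [hA b hbA, mul_one, mul_one]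
          _ = (a * b) * (a * b) * (b * a) := by group
          _ = b * a := by rw [h1, one_mul]
      have hcx : b * x * b⁻¹ = a * (b * w * b⁻¹) * a⁻¹ := by
        calc b * x * b⁻¹ = (b * a) * w * (b * a)⁻¹ := by rw [hx]; group
          _ = (a * b) * w * (a * b)⁻¹ := by rw [hab]
          _ = _ := by group
      rcases hS b hb with h | h
      · refine Or.inl ?_
        set u := w⁻¹ * (b * w * b⁻¹) with hu
        have hu' : a * u * a⁻¹ ∈ U := (mem_normalizer_iff.mp (hAU ha) u).mp h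
        have e : (w * x)⁻¹ * (b * (w * x) * b⁻¹) = (x⁻¹ * u * x) * (a * u * a⁻¹) := by
          calc (w * x)⁻¹ * (b * (w * x) * b⁻¹)
              = (w * x)⁻¹ * (b * w * b⁻¹) * (b * x * b⁻¹) := by group
            _ = _ := by rw [hcx, hu, hx]; group
        rw [e]
        exact mul_mem (by simpa using (mem_normalizer_iff.mp (hDU (inv_mem hxD)) u).mp h) hu'
      · refine Or.inr ?_
        set u := w * (b * w * b⁻¹) with hu
        have hu' : a * u * a⁻¹ ∈ U := (mem_normalizer_iff.mp (hAU ha) u).mp h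
        have e : (w * x) * (b * (w * x) * b⁻¹) = ⁅w, x⁆ * (x * u * x⁻¹) * (a * u * a⁻¹) := by
          calc (w * x) * (b * (w * x) * b⁻¹)
              = (w * x) * (b * w * b⁻¹) * (b * x * b⁻¹) := by group
            _ = _ := by rw [hcx, hu, hx]; group
        rw [e]
        exact mul_mem (mul_mem (hD w hw x hxD) ((mem_normalizer_iff.mp (hDU hxD) u).mp h)) hu'

theorem eq_one_of_sq_eq_one {L : Subgroup G} (hodd : Odd (Nat.card L)) {x : G} (hx : x ∈ L)
    (h : x * x = 1) : x = 1 := by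
  have h1 : orderOf x ∣ 2 := orderOf_dvd_of_pow_eq_one (by rw [pow_two, h])
  have h2 := (orderOf_dvd_natCard L hx)
  have h3 : orderOf x = 1 := Nat.eq_one_of_dvd_coprimes hodd.coprime_two_left h1 h2
  exact orderOf_eq_one_iff.mp h3

/-- An abelian normal `A`-invariant subgroup of a nilpotent group which is self-centralising. -/
theorem exists_abelian_self_centralizing {A F : Subgroup G} (hF : Group.IsNilpotent F)
    (hAF : A ≤ normalizer (F : Set G)) (hA : ∀ a ∈ A, a * a = 1) :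
    ∃ U ≤ F, A ≤ normalizer (U : Set G) ∧ F ≤ normalizer (U : Set G) ∧
      (∀ x ∈ U, ∀ y ∈ U, x * y = y * x) ∧ F ⊓ centralizer (U : Set G) ≤ U := by
  let Good : Subgroup G → Prop := fun U => U ≤ F ∧ A ≤ normalizer (U : Set G) ∧
    F ≤ normalizer (U : Set G) ∧ ∀ x ∈ U, ∀ y ∈ U, x * y = y * x
  have hbot : Good ⊥ := ⟨bot_le,
    fun g _ => le_normalizer_of_normal (H := (⊥ : Subgroup G)) (mem_top g),
    fun g _ => le_normalizer_of_normal (H := (⊥ : Subgroup G)) (mem_top g),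
    fun x hx y hy => by rw [mem_bot] at hx hy; rw [hx, hy]⟩
  obtain ⟨U, -, hU⟩ := (Set.toFinite {U | Good U}).exists_le_maximal hbot
  obtain ⟨hUF, hAU, hFU, hUab⟩ := hU.prop
  refine ⟨U, hUF, hAU, hFU, hUab, ?_⟩
  by_contra hne
  set C := F ⊓ centralizer (U : Set G) with hC
  have hUC : U ≤ C := le_inf hUF fun x hx => mem_centralizer_iff.mpr fun y hy => hUab y hy x hx
  have hNC : ∀ X : Subgroup G, X ≤ normalizer (F : Set G) → X ≤ normalizer (U : Set G) →
      X ≤ normalizer (C : Set G) := fun X h1 h2 =>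
    (le_inf h1 (h2.trans (CfsgLib.Coprime.le_normalizer_centralizer le_rfl))).trans
      inf_normalizer_le_normalizer_inf
  haveI hUn : (U.subgroupOf F).Normal := normal_subgroupOf_of_le_normalizer hFU
  haveI hCn : (C.subgroupOf F).Normal :=
    normal_subgroupOf_of_le_normalizer (hNC F le_normalizer hFU)
  haveI := hF
  haveI hCqn : ((C.subgroupOf F).map (QuotientGroup.mk' (U.subgroupOf F))).Normal :=
    hCn.map _ (QuotientGroup.mk'_surjective _)
  have hCq : (C.subgroupOf F).map (QuotientGroup.mk' (U.subgroupOf F)) ≠ ⊥ := by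
    rw [Ne, Subgroup.map_eq_bot_iff, QuotientGroup.ker_mk']
    intro h
    exact hne fun x hx => h (show (⟨x, hx.1⟩ : F) ∈ C.subgroupOf F from hx)
  obtain ⟨z, hz, hz1⟩ := (bot_or_exists_ne_one _).resolve_left
    (inf_center_ne_bot_of_isNilpotent hCq)
  obtain ⟨⟨z, hzF⟩, hzC, rfl⟩ := (mem_inf.mp hz).1
  -- the preimage of the central part
  let D : Subgroup G :=
    { carrier := {x | x ∈ C ∧ ∀ y ∈ F, ⁅x, y⁆ ∈ U}
      one_mem' := ⟨one_mem C, fun y _ => by rw [commutatorElement_one_left]; exact one_mem U⟩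
      mul_mem' := fun {x₁ x₂} h₁ h₂ => ⟨mul_mem h₁.1 h₂.1, fun y hy => by
        have e : ⁅x₁ * x₂, y⁆ = x₁ * ⁅x₂, y⁆ * x₁⁻¹ * ⁅x₁, y⁆ := by group
        rw [e]
        exact mul_mem ((mem_normalizer_iff.mp (hFU h₁.1.1) _).mp (h₂.2 y hy)) (h₁.2 y hy)⟩
      inv_mem' := fun {x} h => ⟨inv_mem h.1, fun y hy => by
        have e : ⁅x⁻¹, y⁆ = x⁻¹ * ⁅x, y⁆⁻¹ * (x⁻¹)⁻¹ := by group
        rw [e]
        exact (mem_normalizer_iff.mp (hFU (inv_mem h.1.1)) _).mp (inv_mem (h.2 y hy))⟩ }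
  have hDdef : ∀ x, x ∈ D ↔ x ∈ C ∧ ∀ y ∈ F, ⁅x, y⁆ ∈ U := fun x => Iff.rfl
  have hUD : U ≤ D := fun x hx => (hDdef x).mpr ⟨hUC hx, fun y hy => by
    have e : ⁅x, y⁆ = x * (y * x⁻¹ * y⁻¹) := by group
    rw [e]
    exact mul_mem hx ((mem_normalizer_iff.mp (hFU hy) _).mp (inv_mem hx))⟩
  have hzD : z ∈ D := (hDdef z).mpr ⟨hzC, fun y hy => by
    have h1 := mem_center_iff.mp (mem_inf.mp hz).2 (QuotientGroup.mk' _ (⟨y, hy⟩ : F))
    have h2 : QuotientGroup.mk' (U.subgroupOf F) ⁅(⟨z, hzF⟩ : F), ⟨y, hy⟩⁆ = 1 := by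
      rw [map_commutatorElement, commutatorElement_eq_one_iff_mul_comm]; exact h1.symm
    exact mem_subgroupOf.mp ((QuotientGroup.eq_one_iff ⁅(⟨z, hzF⟩ : F), (⟨y, hy⟩ : F)⁆).mp h2)⟩
  have hzU : z ∉ U := fun h =>
    hz1 ((QuotientGroup.eq_one_iff (⟨z, hzF⟩ : F)).mpr (mem_subgroupOf.mpr h))
  have hAD : A ≤ normalizer (D : Set G) := by
    refine CfsgLib.Signalizer.conj_invariant_iff.mp fun a ha x hx => (hDdef _).mpr ⟨?_, fun y hy => ?_⟩
    · exact (mem_normalizer_iff.mp (hNC A hAF hAU ha) x).mp ((hDdef x).mp hx).1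
    · have hy' : a⁻¹ * y * a ∈ F := by
        simpa using (mem_normalizer_iff.mp (hAF (inv_mem ha)) y).mp hy
      have e : ⁅a * x * a⁻¹, y⁆ = a * ⁅x, a⁻¹ * y * a⁆ * a⁻¹ := by group
      rw [e]
      exact (mem_normalizer_iff.mp (hAU ha) _).mp (((hDdef x).mp hx).2 _ hy')
  obtain ⟨w, hw, hwU, heig⟩ := exists_eigen_mod hUD
    (fun x hx => hFU ((hDdef x).mp hx).1.1) hAD hAU
    (fun x hx y hy => ((hDdef x).mp hx).2 y ((hDdef y).mp hy).1.1) hA hzD hzU
  obtain ⟨⟨hwF, hwC⟩, hwF'⟩ := (hDdef w).mp hw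
  have hnorm : ∀ g, g ∈ normalizer (U : Set G) →
      (∃ u ∈ U, g * w * g⁻¹ = w * u ∨ g * w * g⁻¹ = w⁻¹ * u) →
      g ∈ normalizer ((U ⊔ zpowers w : Subgroup G) : Set G) := by
    intro g hg ⟨u, hu, h⟩
    refine map_conj_eq_self_iff.mp (eq_of_le_of_card_ge ?_ (card_map_conj g _).ge)
    rw [Subgroup.map_sup, sup_le_iff, map_conj_eq_self_iff.mpr hg, MonoidHom.map_zpowers,
      zpowers_le]
    refine ⟨le_sup_left, ?_⟩
    show g * w * g⁻¹ ∈ U ⊔ zpowers w
    rcases h with h | h <;> rw [h]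
    · exact mul_mem (mem_sup_right (mem_zpowers w)) (mem_sup_left hu)
    · exact mul_mem (mem_sup_right (inv_mem (mem_zpowers w))) (mem_sup_left hu)
  have hgood : Good (U ⊔ zpowers w) := by
    refine ⟨sup_le hUF (zpowers_le.mpr hwF), fun a ha => hnorm a (hAU ha) ?_,
      fun y hy => hnorm y (hFU hy) ⟨w⁻¹ * ⁅y, w⁆ * w, ?_, Or.inl (by group)⟩, ?_⟩
    · rcases heig a ha with h | h
      · exact ⟨_, h, Or.inl (by group)⟩
      · exact ⟨_, h, Or.inr (by group)⟩
    · have h := hwF' y hy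
      rw [← inv_inv ⁅y, w⁆, commutatorElement_inv]
      simpa using (mem_normalizer_iff.mp (hFU (inv_mem hwF)) _).mp (inv_mem h)
    · have hmul : U ⊔ zpowers w ≤ centralizer (((U ⊔ zpowers w : Subgroup G)) : Set G) := by
        rw [sup_le_iff, zpowers_le, le_centralizer_iff]
        refine ⟨sup_le (fun x hx => mem_centralizer_iff.mpr fun y hy => hUab y hy x hx)
          (zpowers_le.mpr hwC), ?_⟩
        have hle : U ⊔ zpowers w ≤ centralizer ({w} : Set G) := sup_le
          (fun u hu => mem_centralizer_singleton_iff.mpr (mem_centralizer_iff.mp hwC u hu))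
          (zpowers_le.mpr (mem_centralizer_singleton_iff.mpr rfl))
        exact mem_centralizer_iff.mpr fun y hy => mem_centralizer_singleton_iff.mp (hle hy)
      exact fun x hx y hy => mem_centralizer_iff.mp (hmul hy) x hx
  exact hwU (hU.le_of_ge hgood le_sup_left (mem_sup_right (mem_zpowers w)))

/-- Splitting an elementary abelian `2`-group acting faithfully on an abelian group of odd order. -/
theorem exists_split {U A : Subgroup G} (hUab : ∀ x ∈ U, ∀ y ∈ U, x * y = y * x)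
    (hUodd : Odd (Nat.card U)) (hAU : A ≤ normalizer (U : Set G)) (hAsq : ∀ a ∈ A, a * a = 1)
    (hfaith : ∀ a ∈ A, a ∈ centralizer (U : Set G) → a = 1) :
    ∀ (n : ℕ) (E : Subgroup G), Nat.card E = 2 ^ n → E ≤ A →
    ∃ (a x : Fin n → G), (∀ i, a i ∈ E) ∧
      (∀ i, x i ∈ U ∧ x i ≠ 1 ∧ a i * x i * (a i)⁻¹ = (x i)⁻¹ ∧
        ∀ c ∈ A, c * x i * c⁻¹ = x i ∨ c * x i * c⁻¹ = (x i)⁻¹) ∧
      (∀ i j, i ≠ j → a i * x j = x j * a i) ∧ E ≤ ⨆ i, zpowers (a i) := by
  intro n
  induction n with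
  | zero =>
    intro E hE _
    rw [pow_zero, card_eq_one] at hE
    subst hE
    exact ⟨Fin.elim0, Fin.elim0, fun i => i.elim0, fun i => i.elim0, fun i => i.elim0, bot_le⟩
  | succ n ih =>
    intro E hE hEA
    have hcomm : ∀ a ∈ A, ∀ b ∈ A, a * b = b * a := by
      intro a ha b hb
      have h1 := hAsq _ (mul_mem ha hb)
      calc a * b = a * b * ((a * a) * 1) := by rw [hAsq a ha]; group
        _ = a * b * (a * (b * b) * a) := by rw [hAsq b hb, mul_one, mul_one]
        _ = (a * b) * (a * b) * (b * a) := by group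
        _ = b * a := by rw [h1, one_mul]
    obtain ⟨a₀, ha₀, ha₀1⟩ := (bot_or_exists_ne_one E).resolve_left fun h => by
      rw [h, card_bot, pow_succ] at hE
      have := Nat.one_le_two_pow (n := n)
      omega
    obtain ⟨u, hu, hua⟩ : ∃ u ∈ U, a₀ * u ≠ u * a₀ := by
      by_contra hcon
      push Not at hcon
      exact ha₀1 (hfaith a₀ (hEA ha₀) (mem_centralizer_iff.mpr fun u hu => (hcon u hu).symm))
    let D : Subgroup G :=
      { carrier := {v | v ∈ U ∧ a₀ * v * a₀⁻¹ = v⁻¹}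
        one_mem' := ⟨one_mem U, by group⟩
        mul_mem' := fun {v w} hv hw => ⟨mul_mem hv.1 hw.1, by
          rw [show a₀ * (v * w) * a₀⁻¹ = (a₀ * v * a₀⁻¹) * (a₀ * w * a₀⁻¹) by group, hv.2, hw.2,
            ← mul_inv_rev, hUab w hw.1 v hv.1]⟩
        inv_mem' := fun {v} hv => ⟨inv_mem hv.1, by
          rw [show a₀ * v⁻¹ * a₀⁻¹ = (a₀ * v * a₀⁻¹)⁻¹ by group, hv.2]⟩ }
    have hw₀ : u⁻¹ * (a₀ * u * a₀⁻¹) ∈ D := by
      have hu' : a₀ * u * a₀⁻¹ ∈ U := (mem_normalizer_iff.mp (hAU (hEA ha₀)) u).mp hu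
      refine ⟨mul_mem (inv_mem hu) hu', ?_⟩
      have hai : a₀⁻¹ = a₀ := inv_eq_of_mul_eq_one_right (hAsq a₀ (hEA ha₀))
      calc a₀ * (u⁻¹ * (a₀ * u * a₀⁻¹)) * a₀⁻¹
          = (a₀ * u * a₀⁻¹)⁻¹ * ((a₀ * a₀) * u * (a₀⁻¹ * a₀⁻¹)) := by group
        _ = (a₀ * u * a₀⁻¹)⁻¹ * u := by rw [hai, hAsq a₀ (hEA ha₀)]; group
        _ = _ := by group
    have hw₀1 : u⁻¹ * (a₀ * u * a₀⁻¹) ∉ (⊥ : Subgroup G) := fun h => hua (by
      rw [mem_bot] at h
      calc a₀ * u = u * (u⁻¹ * (a₀ * u * a₀⁻¹)) * a₀ := by group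
        _ = u * a₀ := by rw [h, mul_one])
    obtain ⟨x, hxD, hx1, heig⟩ := exists_eigen_mod (A := A) (D := D) (bot_le)
      (fun g _ => le_normalizer_of_normal (H := (⊥ : Subgroup G)) (mem_top g))
      (CfsgLib.Signalizer.conj_invariant_iff.mp fun b hb v hv =>
        ⟨(mem_normalizer_iff.mp (hAU hb) v).mp hv.1, by
          calc a₀ * (b * v * b⁻¹) * a₀⁻¹ = (a₀ * b) * v * (a₀ * b)⁻¹ := by group
            _ = (b * a₀) * v * (b * a₀)⁻¹ := by rw [hcomm a₀ (hEA ha₀) b hb]
            _ = b * (a₀ * v * a₀⁻¹) * b⁻¹ := by group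
            _ = b * v⁻¹ * b⁻¹ := by rw [hv.2]
            _ = _ := by group⟩)
      (fun g _ => le_normalizer_of_normal (H := (⊥ : Subgroup G)) (mem_top g))
      (fun v hv w hw => mem_bot.mpr (commutatorElement_eq_one_iff_mul_comm.mpr (hUab v hv.1 w hw.1)))
      hAsq hw₀ hw₀1
    obtain ⟨hxU, hxinv⟩ := hxD
    rw [mem_bot] at hx1
    have hxsq : x⁻¹ ≠ x := fun h => hx1 (eq_one_of_sq_eq_one hUodd hxU (by
      have := inv_mul_cancel x
      rwa [h] at this))
    have hor : ∀ b ∈ A, b * x * b⁻¹ = x ∨ b * x * b⁻¹ = x⁻¹ := fun b hb => by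
      rcases heig b hb with h | h <;> rw [mem_bot] at h
      · exact Or.inl (inv_mul_eq_one.mp h).symm
      · exact Or.inr (eq_inv_of_mul_eq_one_right h)
    set B := E ⊓ centralizer ({x} : Set G) with hB
    have hBiff : ∀ b, b ∈ B ↔ b ∈ E ∧ b * x * b⁻¹ = x := fun b => by
      rw [hB, mem_inf, mem_centralizer_singleton_iff, mul_inv_eq_iff_eq_mul]
    have hcover : ∀ b ∈ E, b ∈ B ∨ b * a₀ ∈ B := fun b hb => by
      rcases hor b (hEA hb) with h | h
      · exact Or.inl ((hBiff b).mpr ⟨hb, h⟩)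
      · refine Or.inr ((hBiff _).mpr ⟨mul_mem hb ha₀, ?_⟩)
        rw [show b * a₀ * x * (b * a₀)⁻¹ = b * (a₀ * x * a₀⁻¹) * b⁻¹ by group, hxinv,
          show b * x⁻¹ * b⁻¹ = (b * x * b⁻¹)⁻¹ by group, h, inv_inv]
    have ha₀B : a₀ ∉ B := fun h => hxsq (hxinv.symm.trans ((hBiff a₀).mp h).2)
    have hidx : (B.subgroupOf E).index = 2 := by
      refine index_eq_two_iff.mpr ⟨⟨a₀, ha₀⟩, fun b => ?_⟩
      have hmem : ∀ c : E, c ∈ B.subgroupOf E ↔ (c : G) ∈ B := fun c => Iff.rfl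
      rw [hmem, hmem, Subgroup.coe_mul]
      by_cases hb : (b : G) ∈ B
      · exact Or.inr ⟨hb, fun h => ha₀B (by simpa using mul_mem (inv_mem hb) h)⟩
      · exact Or.inl ⟨(hcover b b.2).resolve_left hb, hb⟩
    have hBcard : Nat.card B = 2 ^ n := by
      have := card_mul_index (B.subgroupOf E)
      rw [hidx, card_subgroupOf (inf_le_left : B ≤ E), hE, pow_succ] at this
      exact Nat.eq_of_mul_eq_mul_right two_pos this
    obtain ⟨b, y, hbB, hy, hby, hgen⟩ := ih B hBcard (inf_le_left.trans hEA)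
    -- adjust `a₀`
    have hadj : ∀ S : Finset (Fin n), ∃ a ∈ E, a * x * a⁻¹ = x⁻¹ ∧ (a⁻¹ * a₀ ∈ B) ∧
        ∀ i ∈ S, a * y i = y i * a := by
      classical
      intro S
      induction S using Finset.induction with
      | empty => exact ⟨a₀, ha₀, hxinv, by simp, by simp⟩
      | @insert j S hjS ihS =>
        obtain ⟨a, ha, hax, haB, haS⟩ := ihS
        by_cases hj : a * y j = y j * a
        · exact ⟨a, ha, hax, haB, fun i hi => (Finset.mem_insert.mp hi).elim (fun h => h ▸ hj) (haS i)⟩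
        have hbjE : b j ∈ E := (hbB j).1
        have hbjx := ((hBiff _).mp (hbB j)).2
        refine ⟨a * b j, mul_mem ha hbjE, ?_, ?_, fun i hi => ?_⟩
        · rw [show a * b j * x * (a * b j)⁻¹ = a * (b j * x * (b j)⁻¹) * a⁻¹ by group, hbjx, hax]
        · rw [show (a * b j)⁻¹ * a₀ = (b j)⁻¹ * (a⁻¹ * a₀) by group]
          exact mul_mem (inv_mem (hbB j)) haB
        · rcases Finset.mem_insert.mp hi with rfl | hi
          · have hyU := (hy i).1
            have hayi : a * y i * a⁻¹ = (y i)⁻¹ :=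
              ((hy i).2.2.2 a (hEA ha)).resolve_left fun h => hj (mul_inv_eq_iff_eq_mul.mp h)
            calc a * b i * y i = a * (b i * y i * (b i)⁻¹) * b i := by group
              _ = a * (y i)⁻¹ * b i := by rw [(hy i).2.2.1]
              _ = (a * y i * a⁻¹)⁻¹ * (a * b i) := by group
              _ = y i * (a * b i) := by rw [hayi, inv_inv]
          · have hji : j ≠ i := fun h => hjS (h ▸ hi)
            calc a * b j * y i = a * (b j * y i) := by group
              _ = (a * y i) * b j := by rw [hby j i hji]; group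
              _ = y i * (a * b j) := by rw [haS i hi]; group
    classical
    obtain ⟨a', ha'E, ha'x, ha'B, ha'y⟩ := hadj Finset.univ
    refine ⟨Fin.cons a' b, Fin.cons x y, Fin.cases ha'E fun i => (hbB i).1,
      Fin.cases ⟨hxU, hx1, ha'x, hor⟩ hy, ?_, ?_⟩
    · intro i j hij
      induction i using Fin.cases with
      | zero =>
        induction j using Fin.cases with
        | zero => exact absurd rfl hij
        | succ j => simpa using ha'y j (Finset.mem_univ j)
      | succ i =>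
        induction j using Fin.cases with
        | zero => simpa using mul_inv_eq_iff_eq_mul.mp ((hBiff _).mp (hbB i)).2
        | succ j => simpa using hby i j fun h => hij (by rw [h])
    · have h0 : a' ∈ ⨆ i, zpowers ((Fin.cons a' b : Fin (n + 1) → G) i) :=
        le_iSup (fun i => zpowers ((Fin.cons a' b : Fin (n + 1) → G) i)) 0 (by simp)
      have hB' : B ≤ ⨆ i, zpowers ((Fin.cons a' b : Fin (n + 1) → G) i) := hgen.trans
        (iSup_le fun i => le_iSup_of_le i.succ (by simp))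
      have ha0' : a₀ ∈ ⨆ i, zpowers ((Fin.cons a' b : Fin (n + 1) → G) i) := by
        have := mul_mem h0 (hB' ha'B)
        rwa [mul_inv_cancel_left] at this
      intro e he
      rcases hcover e he with h | h
      · exact hB' h
      · simpa using mul_mem (hB' h) (inv_mem ha0')

/-- **Thompson dihedral lemma.** -/
theorem thompson_dihedral {L A : Subgroup G} (hLs : Group.IsSolvable L)
    (hLodd : Odd (Nat.card L)) (hA : IsElementaryAbelian 2 A) {d : ℕ} (hAd : Nat.card A = 2 ^ d)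
    (hAL : A ≤ normalizer (L : Set G)) (hfaith : A ⊓ centralizer (L : Set G) = ⊥) :
    ∃ (Ai : Fin d → Subgroup G) (Li : Fin d → Subgroup G) (n : Fin d → ℕ),
      (∀ i, Ai i ≤ A ∧ Nat.card ↥(Ai i) = 2 ∧ Li i ≤ L ∧ Odd (n i) ∧ 3 ≤ n i ∧
        Nonempty (↥(Ai i ⊔ Li i) ≃* DihedralGroup (n i))) ∧ (⨆ i, Ai i) = A ∧
      ∀ i j, i ≠ j → ∀ x ∈ Ai i ⊔ Li i, ∀ y ∈ Ai j ⊔ Li j, x * y = y * x := by
  have hsq : ∀ a ∈ A, a * a = 1 := fun a ha => by rw [← pow_two]; exact hA.2 a ha
  have hco : ∀ B : Subgroup G, B ≤ A → (Nat.card B).Coprime (Nat.card L) := fun B hB =>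
    (hLodd.coprime_two_left.pow_left d).coprime_dvd_left (hAd ▸ card_dvd_of_le hB)
  have hsolA : ∀ B : Subgroup G, B ≤ A → Group.IsSolvable B := fun B hB =>
    haveI := ((IsPGroup.of_card hAd).to_le hB).isNilpotent
    inferInstance
  haveI := hLs
  set F := (fittingSubgroup L).map L.subtype with hF
  have hFL : F ≤ L := map_subtype_le _
  have hLF : L ≤ normalizer (F : Set G) :=
    le_normalizer.trans (normalizer_le_normalizer_map_subtype L _)
  have hAF : A ≤ normalizer (F : Set G) := hAL.trans (normalizer_le_normalizer_map_subtype L _)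
  have hFn : Group.IsNilpotent F := isNilpotent_map_fittingSubgroup L
  have hCF : L ⊓ centralizer (F : Set G) ≤ F := by
    intro x hx
    refine ⟨⟨x, hx.1⟩, centralizer_fittingSubgroup_le (mem_centralizer_iff.mpr fun y hy => ?_), rfl⟩
    exact Subtype.ext (mem_centralizer_iff.mp hx.2 y ⟨y, hy, rfl⟩)
  obtain ⟨U, hUF, hAU, hFU, hUab, hCU⟩ := exists_abelian_self_centralizing hFn hAF hsq
  have hUodd : Odd (Nat.card U) := Odd.of_dvd_nat hLodd (card_dvd_of_le (hUF.trans hFL))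
  have hfU : ∀ a ∈ A, a ∈ centralizer (U : Set G) → a = 1 := by
    intro a ha hac
    have hz : zpowers a ≤ A := zpowers_le.mpr ha
    have h1 := le_centralizer_of_self_centralizing (hz.trans hAF)
      ((hco _ hz).coprime_dvd_right (card_dvd_of_le hFL)) (hsolA _ hz) hUF hFU
      (zpowers_le.mpr hac) hCU
    have h2 := le_centralizer_of_self_centralizing (hz.trans hAL) (hco _ hz) (hsolA _ hz) hFL hLF
      h1 hCF
    exact mem_bot.mp (hfaith ▸ mem_inf.mpr ⟨ha, h2 (mem_zpowers a)⟩)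
  obtain ⟨a, x, ha, hx, hax, hgen⟩ := exists_split hUab hUodd hAU hsq hfU d A hAd le_rfl
  refine ⟨fun i => zpowers (a i), fun i => zpowers (x i), fun i => orderOf (x i), fun i => ?_,
    le_antisymm (iSup_le fun i => zpowers_le.mpr (ha i)) hgen, ?_⟩
  · obtain ⟨hxU, hx1, hinv, -⟩ := hx i
    have hodd : Odd (orderOf (x i)) := Odd.of_dvd_nat hUodd (orderOf_dvd_natCard U hxU)
    have h3 : 3 ≤ orderOf (x i) := by
      obtain ⟨k, hk⟩ := hodd
      have : orderOf (x i) ≠ 1 := fun h => hx1 (orderOf_eq_one_iff.mp h)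
      omega
    have hane : a i ≠ 1 := fun h => hx1 (eq_one_of_sq_eq_one hUodd hxU (by
      rw [h, one_mul, inv_one, mul_one] at hinv
      nth_rewrite 2 [hinv]; exact mul_inv_cancel _))
    have ha2 : orderOf (a i) = 2 := orderOf_eq_prime (hA.2 _ (ha i)) hane
    have hnot : a i ∉ zpowers (x i) := fun h => by
      have h' := orderOf_dvd_natCard _ (zpowers_le.mpr hxU h)
      rw [ha2] at h'
      exact (Nat.not_even_iff_odd.mpr hUodd) (even_iff_two_dvd.mpr h')
    have hnorm : zpowers (a i) ≤ normalizer (zpowers (x i) : Set G) := by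
      rw [zpowers_le, ← map_conj_eq_self_iff, MonoidHom.map_zpowers]
      show zpowers (a i * x i * (a i)⁻¹) = zpowers (x i)
      rw [hinv, zpowers_inv]
    have hcard : Nat.card ↥(zpowers (a i) ⊔ zpowers (x i)) = 2 * orderOf (x i) := by
      rw [CfsgLib.Coprime.card_sup_of_inf_eq_bot hnorm, Nat.card_zpowers, Nat.card_zpowers, ha2]
      rw [eq_bot_iff]
      intro z hz
      obtain ⟨hz1, hz2⟩ := mem_inf.mp hz
      rw [mem_bot]
      refine eq_one_of_sq_eq_one hUodd (zpowers_le.mpr hxU hz2) ?_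
      exact hsq z (zpowers_le.mpr (ha i) hz1)
    refine ⟨zpowers_le.mpr (ha i), by rw [Nat.card_zpowers, ha2],
      zpowers_le.mpr (hFL (hUF hxU)), hodd, h3, ?_⟩
    refine CfsgLib.Classical.nonempty_mulEquiv_dihedralGroup
      (x := (⟨x i, mem_sup_right (mem_zpowers _)⟩ : ↥(zpowers (a i) ⊔ zpowers (x i))))
      (s := ⟨a i, mem_sup_left (mem_zpowers _)⟩) (n := orderOf (x i)) (by omega) ?_ (Subtype.ext (hsq _ (ha i)))
      (Subtype.ext hinv) ?_ hcard
    · rw [← orderOf_coe]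
    · intro h
      obtain ⟨k, hk⟩ := mem_zpowers_iff.mp h
      exact hnot (mem_zpowers_iff.mpr ⟨k, by simpa using congrArg Subtype.val hk⟩)
  · intro i j hij
    have hle : zpowers (a i) ⊔ zpowers (x i) ≤
        centralizer ((zpowers (a j) ⊔ zpowers (x j) : Subgroup G) : Set G) := by
      rw [le_centralizer_iff]
      refine sup_le (zpowers_le.mpr ?_) (zpowers_le.mpr ?_)
      · have h : zpowers (a i) ⊔ zpowers (x i) ≤ centralizer ({a j} : Set G) := sup_le
          (zpowers_le.mpr (mem_centralizer_singleton_iff.mpr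
            (CfsgLib.Signalizer.elemAb_comm hA (ha i) (ha j))))
          (zpowers_le.mpr (mem_centralizer_singleton_iff.mpr (hax j i (Ne.symm hij)).symm))
        exact mem_centralizer_iff.mpr fun v hv => mem_centralizer_singleton_iff.mp (h hv)
      · have h : zpowers (a i) ⊔ zpowers (x i) ≤ centralizer ({x j} : Set G) := sup_le
          (zpowers_le.mpr (mem_centralizer_singleton_iff.mpr (hax i j hij)))
          (zpowers_le.mpr (mem_centralizer_singleton_iff.mpr (hUab _ (hx i).1 _ (hx j).1)))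
        exact mem_centralizer_iff.mpr fun v hv => mem_centralizer_singleton_iff.mp (h hv)
    exact fun u hu v hv => (mem_centralizer_iff.mp (hle hu) v hv).symm

end CfsgLib.Components
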